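import Mathlib
import Cfsg.Prelude.Def_Classical
import Cfsg.Prelude.Def_Transfer

/-!
Interface of the recognition of `Ω⁺₈(2)` by an involution centraliser (S3345).

`n 1` is the reflection of the branch node, `n 0`, `n 2`, `n 3` those of the end nodes, `t` the element of the
highest root, so the root elements are the conjugates of `t` under `⟨n⟩`.
-/

set_option autoImplicit false

namespace Cfsg.Agent.OmegaEightInv

variable {G : Type*} [Group G]

/-- The root element of the end node `i`, for `{i, j, k} = {0, 2, 3}`. -/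
def endRoot (n : Fin 4 → G) (t : G) (j k : Fin 4) : G :=
  (n 1 * n j * n k * n 1) * t * (n 1 * n j * n k * n 1)⁻¹

/-- The root element of the branch node. -/
def midRoot (n : Fin 4 → G) (t : G) : G :=
  (n 0 * n 2 * n 3 * n 1) * t * (n 0 * n 2 * n 3 * n 1)⁻¹

/-- The relations of the root elements, one for each orbit of pairs of roots. -/
structure RootRels (n : Fin 4 → G) (t : G) : Prop where
  n_sq : ∀ i, n i * n i = 1
  braid : ∀ i, i ≠ 1 → (n i * n 1) ^ 3 = 1
  comm : ∀ i j, i ≠ 1 → j ≠ 1 → n i * n j = n j * n i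
  fix : ∀ i, i ≠ 1 → n i * t = t * n i
  t_sq : t * t = 1
  t_ne : t ≠ 1
  pos : Commute t (n 1 * t * n 1)
  orth : Commute t (endRoot n t 2 3) ∧ Commute t (endRoot n t 0 3) ∧ Commute t (endRoot n t 0 2)
  neg : endRoot n t 2 3 * midRoot n t * endRoot n t 2 3 * midRoot n t =
    (n 2 * n 3 * n 1) * t * (n 2 * n 3 * n 1)⁻¹

/-- The subgroup generated by the root elements. -/
def rootGroup (n : Fin 4 → G) (t : G) : Subgroup G :=
  Subgroup.closure {y | ∃ w ∈ Subgroup.closure (Set.range n), w * t * w⁻¹ = y}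

/-- What the local analysis supplies about the centraliser of `t`. -/
structure TopHyp (n : Fin 4 → G) (t : G) (Q : Subgroup G) : Prop where
  rels : RootRels n t
  cent_le : Subgroup.centralizer ({t} : Set G) ≤ rootGroup n t
  card_cent : Nat.card ↥(Subgroup.centralizer ({t} : Set G)) = 2 ^ 12 * 27
  sq_mem : ∀ g : G, g * t = t * g → (∃ k : ℕ, g ^ 2 ^ k = 1) → g * g ∈ Q
  fused : ∀ g : G, g * t * g⁻¹ ∈ Q → ∃ m ∈ rootGroup n t, m * t * m⁻¹ = g * t * g⁻¹
  center : ∀ c ∈ rootGroup n t, (∀ y ∈ rootGroup n t, c * y = y * c) → c = 1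

/-- The model half: the root elements give `Ω⁺₈(2)`, and it is the whole group. -/
def TopFact.{u} : Prop :=
  ∀ {G : Type u} [Group G] [Finite G] (n : Fin 4 → G) (t : G) (Q : Subgroup G),
    Cfsg.pResidual 2 G = ⊤ → TopHyp n t Q →
      Nonempty (G ≃* Cfsg.Omega (ZMod 2) (Cfsg.quadFormPlus 4 (ZMod 2)))

end Cfsg.Agent.OmegaEightInv
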