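import Cfsg.Agent.Lib.OmegaEightInv.Node
import Cfsg.Agent.Lib.OmegaEightInv.Defs

/-!
The reflection `n2 = X y X` of the branch node, the two braid relations, and the relations of the root
elements.
-/

set_option autoImplicit false
set_option linter.style.haveILetI false
set_option linter.unusedSectionVars false

namespace Cfsg.Agent.OmegaEightInv

open Subgroup Cfsg.Agent.LargeExtra

variable {G : Type*} [Group G]

theorem opp_conj {u v t : G} (h : u * v = t * (v * u)) (hv : v * v = 1) (ht : v * t = t * v) :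
    v * u * v = t * u := by
  rw [mul_assoc, h, ← mul_assoc, ht, mul_assoc, ← mul_assoc v, hv, one_mul]

theorem inner_conj {x n : G} (hx : x * x = 1) (hn : n * n = 1) (h : x * n * (x * n) * (x * n) = 1) :
    n * x * n = x * n * x := by
  have h1 : (x * n * x) * (n * x * n) = 1 := by rw [← h]; group
  have h2 : (x * n * x) * (x * n * x) = 1 := by
    rw [show x * n * x * (x * n * x) = x * n * (x * x) * n * x by group, hx, mul_one, mul_assoc x n n, hn,
      mul_one, hx]
  exact (inv_eq_of_mul_eq_one_right h1).symm.trans (inv_eq_of_mul_eq_one_right h2)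

theorem conj_two {c u v : G} (hc : c * c = 1) : c * (u * v) * c = c * u * c * (c * v * c) := by
  rw [show c * u * c * (c * v * c) = c * u * (c * c) * v * c by group, hc]; group

/-- The braid relation cannot fail by `e = t a b`. -/
theorem braid_contra {x n X y k p b a : G} (x2 : x * x = 1) (n2 : n * n = 1) (X2 : X * X = 1) (y2 : y * y = 1)
    (b2 : b * b = 1) (a2 : a * a = 1) (xn : x * n * (x * n) * (x * n) = 1) (hk : k = X * y * X) (k2 : k * k = 1)
    (hnp : n * p * n = X) (hnX : n * X * n = p) (hnb : n * b * n = a) (hnyn : Commute y b) (xp : Commute x p)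
    (xy : Commute x y) (ya : Commute y a) (xa : Commute x a) (kb : Commute k b) (Xb : Commute X b)
    (ypy : y * p * y = p * x) (kX : k * X * k = y) (hwz : n * k * (n * y * n) * k * n = x * a) : a = b := by
  obtain ⟨yv, hyv⟩ : ∃ v, v = n * x * n := ⟨_, rfl⟩
  obtain ⟨z, hz⟩ : ∃ v, v = n * y * n := ⟨_, rfl⟩
  have cn : ∀ u v : G, n * u * n * (n * v * n) = n * (u * v) * n := fun u v => by
    rw [show n * u * n * (n * v * n) = n * u * (n * n) * v * n by group, n2]; group
  have nn : ∀ u : G, n * (n * u * n) * n = u := fun u => by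
    rw [show n * (n * u * n) * n = (n * n) * u * (n * n) by group, n2]; group
  have hnan : n * a * n = b := by rw [← hnb, nn]
  have z2 : z * z = 1 := by rw [hz, cn, y2, mul_one, n2]
  have yv2 : yv * yv = 1 := by rw [hyv, cn, x2, mul_one, n2]
  have cc : ∀ u v : G, Commute u v → Commute (n * u * n) (n * v * n) := fun u v h => by
    show _ * _ = _ * _
    rw [cn, cn, h.eq]
  have za : Commute z a := by rw [hz, ← hnb]; exact cc _ _ hnyn
  have yvz : Commute yv z := by rw [hyv, hz]; exact cc _ _ xy
  have yvb : Commute yv b := by rw [hyv, ← hnan]; exact cc _ _ xa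
  have Xyv : X * yv * X = yv := by
    have h : Commute (n * p * n) yv := by rw [hyv]; exact cc _ _ xp.symm
    rw [hnp] at h
    rw [h.eq, mul_assoc, X2, mul_one]
  -- the image of `z` under `k`
  have hz' : k * yv * k = z * b := by
    have e1 : k * z * k = yv * b := by
      calc k * z * k = n * n * (k * z * k) * (n * n) := by rw [n2, one_mul, mul_one]
        _ = n * (n * k * (n * y * n) * k * n) * n := by rw [hz]; group
        _ = n * (x * a) * n := by rw [hwz]
        _ = _ := by rw [← cn, hnan, hyv]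
    have e2 : z = k * yv * k * b := by
      calc z = k * k * z * (k * k) := by rw [k2, one_mul, mul_one]
        _ = k * (k * z * k) * k := by group
        _ = k * yv * (b * k) := by rw [e1]; group
        _ = _ := by rw [← kb.eq]; group
    rw [e2, mul_assoc _ b b, b2, mul_one]
  -- (1)
  have h1 : X * z * X = yv * z := by
    have e : p * y * p = x * y := by
      have p2 : p * p = 1 := by rw [← hnX, cn, X2, mul_one, n2]
      calc p * y * p = p * (y * p * y) * y := by
            rw [show p * (y * p * y) * y = p * y * p * (y * y) by group, y2, mul_one]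
        _ = _ := by rw [ypy, ← mul_assoc p p x, p2, one_mul]
    calc X * z * X = n * p * n * (n * y * n) * (n * p * n) := by rw [hnp, hz]
      _ = n * (p * y * p) * n := by rw [cn, cn]
      _ = _ := by rw [e, ← cn, hyv, hz]
  -- (A)
  have hA : y * yv * y = yv * z * b := by
    calc y * yv * y = y * (X * yv * X) * y := by rw [Xyv]
      _ = X * X * y * X * yv * (X * y * (X * X)) := by rw [X2]; group
      _ = X * (k * yv * k) * X := by rw [hk]; group
      _ = X * z * (b * X) := by rw [hz']; group
      _ = X * z * X * b := by rw [← Xb.eq]; group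
      _ = _ := by rw [h1]
  -- (B)
  have hB : x * z * x = z * y * a := by
    have e : n * k * yv * k * n = y * a := by
      calc n * k * yv * k * n = n * (k * yv * k) * n := by group
        _ = _ := by rw [hz', ← cn, hnb, hz, nn]
    have hwX : n * k * X * k * n = z := by
      rw [hz, ← kX]; group
    have e2 : z * (x * a) * z = y * a * (x * a) := by
      calc z * (x * a) * z = (n * k * X * k * n) * (n * k * z * k * n) * (n * k * X * k * n) := by
            rw [hwX, hz, hwz]
        _ = n * k * X * (k * (n * n) * k) * z * (k * (n * n) * k) * X * k * n := by group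
        _ = n * k * (X * z * X) * k * n := by rw [n2, mul_one, k2]; group
        _ = n * k * yv * (k * (n * n) * k) * z * k * n := by rw [h1, n2, mul_one, k2]; group
        _ = (n * k * yv * k * n) * (n * k * z * k * n) := by group
        _ = _ := by rw [e, hz, hwz]
    have e3 : z * x * z = y * x * a := by
      calc z * x * z = z * x * z * (a * a) := by rw [a2, mul_one]
        _ = z * x * (z * a) * a := by group
        _ = z * (x * a) * z * a := by rw [za.eq]; group
        _ = y * (a * x) * (a * a) := by rw [e2]; group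
        _ = _ := by rw [a2, mul_one, ← xa.eq]; group
    calc x * z * x = z * (z * x * z) * x := by
          rw [show z * (z * x * z) * x = (z * z) * x * z * x by group, z2, one_mul]
      _ = z * y * (x * a * x) := by rw [e3]; group
      _ = _ := by rw [xa.eq, mul_assoc a x x, x2, mul_one]
  have hbr : yv = x * n * x := hyv.trans (inner_conj x2 n2 xn)
  have h3 : yv * y * yv = z * y * a := by
    rw [← hB, hz, hbr]
    calc x * n * x * y * (x * n * x) = x * n * (x * y) * (x * n * x) := by group
      _ = x * n * y * (x * x) * n * x := by rw [xy.eq]; group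
      _ = _ := by rw [x2]; group
  have h4 : yv * y * yv * y = z * a := by
    rw [h3, mul_assoc (z * y) a y, ← ya.eq, ← mul_assoc, mul_assoc z y y, y2, mul_one]
  have h5 : y * yv * y * yv = z * b := by
    calc y * yv * y * yv = yv * z * (b * yv) := by rw [hA]; group
      _ = yv * (z * yv) * b := by rw [← yvb.eq]; group
      _ = (yv * yv) * z * b := by rw [← yvz.eq]; group
      _ = _ := by rw [yv2, one_mul]
  have h6 : z * a * (z * b) = 1 := by
    rw [← h4, ← h5, show yv * y * yv * y * (y * yv * y * yv) = yv * y * yv * (y * y) * yv * y * yv by group,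
      y2, mul_one, mul_assoc _ yv yv, yv2, mul_one, mul_assoc _ y y, y2, mul_one, yv2]
  have h7 : a * b = 1 := by
    rw [← h6, ← mul_assoc (z * a), za.eq, mul_assoc a z z, z2, mul_one]
  exact (mul_eq_one_iff_eq_inv.1 h7).trans (inv_eq_of_mul_eq_one_right b2)

namespace Hyp.Base

variable {Q : Subgroup G} {t : G} [Finite G] {H : Hyp Q t} {B : H.Base}

/-- The root element of the branch node in `Q`. -/
def Split.top (S : B.Split) : G := S.q fun _ => true

theorem Split.top_sq (S : B.Split) : S.top * S.top = 1 := S.q_sq _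

theorem Split.top_t (S : B.Split) : Commute S.top t := H.comm_Q (S.q_mem _)

theorem not_oth : ∀ i : Fin 3, (fun j => !oth i j) = one3 i := by decide

theorem not_one3 : ∀ i : Fin 3, (fun j => !one3 i j) = oth i := by decide

theorem none_ne_one3 : ∀ i : Fin 3, (fun _ => false) ≠ one3 i := by decide

theorem none_ne_not : ∀ i : Fin 3, (fun _ => false) ≠ fun j => !one3 i j := by decide

theorem upd_all : ∀ i : Fin 3, Function.update (fun _ : Fin 3 => true) i (!true) = oth i := by decide

theorem top_ne_one3 : ∀ i : Fin 3, one3 i ≠ fun _ => !true := by decide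

theorem top_ne_oth : ∀ i : Fin 3, oth i ≠ fun _ => !true := by decide

theorem upd_true : ∀ i : Fin 3, Function.update (fun _ : Fin 3 => true) i false = oth i := by decide

theorem Split.top_one3 (S : B.Split) (i : Fin 3) : Commute S.top (S.q (one3 i)) := S.q_comm (top_ne_one3 i)

theorem Split.top_oth (S : B.Split) (i : Fin 3) : Commute S.top (S.q (oth i)) := S.q_comm (top_ne_oth i)

theorem Split.x_oth (S : B.Split) (i : Fin 3) : Commute (B.x i) (S.q (oth i)) := by
  have h := S.x_out (δ := oth i) (j := i) (by simp [oth])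
  show B.x i * _ = _ * B.x i
  calc B.x i * S.q (oth i) = B.x i * S.q (oth i) * B.x i * B.x i := by
        rw [mul_assoc _ (B.x i) (B.x i), (B.hx i).2.2.1, mul_one]
    _ = _ := by rw [h]

theorem Split.top_x (S : B.Split) (i : Fin 3) : S.top * B.x i * S.top = B.x i * S.q (oth i) := by
  have h := S.x_in (δ := fun _ => true) (i := i) rfl
  rw [upd_true] at h
  calc S.top * B.x i * S.top = B.x i * (B.x i * S.top * B.x i) * S.top := by
        rw [show B.x i * (B.x i * S.top * B.x i) * S.top = B.x i * B.x i * (S.top * B.x i * S.top) by group,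
          (B.hx i).2.2.1, one_mul]
    _ = B.x i * (S.q (oth i) * S.top) * S.top := by rw [show B.x i * S.top * B.x i = _ from h]; rfl
    _ = _ := by rw [mul_assoc (B.x i), mul_assoc (S.q (oth i)), S.top_sq, mul_one]

theorem Split.top_a (S : B.Split) : S.top * B.a * S.top = t * B.a := by
  have h := S.q_opp fun _ => false
  rw [S.q_none] at h
  exact opp_conj h (S.q_sq _) (S.top_t).eq

/-- An element of `C` fixing `a`, the single and the double classes is `1`, `t`, `a` or `t a`. -/
theorem Split.small (S : B.Split) {c : G} (hc : c * t = t * c) (hca : c * B.a = B.a * c)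
    (hq : ∀ i, c * S.q (one3 i) = S.q (one3 i) * c) (hp : ∀ i, c * S.q (oth i) = S.q (oth i) * c) :
    c = 1 ∨ c = t ∨ c = B.a ∨ c = t * B.a := by
  have hQ := S.mem_of_fix hc hca hq
  have hco : ∀ δ, δ ≠ (fun _ => false) → B.co c δ = false := fun δ hδ => by
    rw [S.co_eq hQ]
    refine chi_eq_false.2 ?_
    rcases bits_cases δ with e | ⟨i, e⟩ | ⟨i, e⟩ | e
    · exact absurd e hδ
    · rw [e, not_one3]; exact hp i
    · rw [e, not_oth]; exact hq i
    · rw [e]; simp only [Bool.not_true]; rw [S.q_none]; exact hca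
  cases hb : B.co c fun _ => false
  · have he : Eqv t 1 c := B.eqv_of_co Q.one_mem hQ fun δ => by
      rw [B.co_one]
      by_cases e : δ = fun _ => false
      · rw [e, hb]
      · exact (hco δ e).symm
    rcases he with e | e
    · exact Or.inl e
    · exact Or.inr (Or.inl (e.trans (mul_one t)))
  · have he : Eqv t B.a c := B.eqv_of_co B.a_mem hQ fun δ => by
      rw [← S.q_none, S.co_q]
      by_cases e : δ = fun _ => false
      · rw [e, hb, decide_eq_true rfl]
      · rw [hco δ e, decide_eq_false (Ne.symm e)]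
    exact Or.inr (Or.inr he)

namespace Node

variable {S : B.Split} (N : Node S)

theorem y_inv : N.y⁻¹ = N.y := inv_eq_of_mul_eq_one_right N.y_sq

theorem y_a : Commute N.y B.a := (H.ctr' (g := B.g)).comm N.y_mem

/-- `(X y)` has order three. -/
theorem top_y : S.top * N.y * S.top = N.y * S.top * N.y := by
  have X2 := S.top_sq
  have Xi : S.top⁻¹ = S.top := inv_eq_of_mul_eq_one_right X2
  have ta : Commute B.a t := H.comm_Q B.a_mem
  set g := S.top * N.y with hg
  have cj : ∀ u : G, g * u * g⁻¹ = S.top * (N.y * u * N.y) * S.top := fun u => by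
    rw [hg, mul_inv_rev, N.y_inv, Xi]; group
  have Xt : S.top * t * S.top = t := by rw [S.top_t.eq, mul_assoc, X2, mul_one]
  have gt : g * t * g⁻¹ = B.a := by
    rw [cj, N.y_t, conj_two X2, Xt, S.top_a, ← mul_assoc, H.ctr.zz, one_mul]
  have ga : g * B.a * g⁻¹ = t * B.a := by
    rw [cj, N.y_a.eq, mul_assoc B.a, N.y_sq, mul_one, S.top_a]
  have gq : ∀ i, g * S.q (one3 i) * g⁻¹ = S.q (one3 i) := fun i => by
    rw [cj, N.y_q, mul_assoc (S.q _) N.y, N.y_sq, mul_one, (S.top_one3 i).eq, mul_assoc, X2, mul_one]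
  have gx : ∀ i, g * B.x i * g⁻¹ = B.x i * S.q (oth i) := fun i => by
    rw [cj, N.y_x, mul_assoc (B.x i) N.y, N.y_sq, mul_one, S.top_x]
  have gp : ∀ i, g * S.q (oth i) * g⁻¹ = B.x i := fun i => by
    rw [cj, N.y_p, conj_two X2, S.top_x, (S.top_oth i).eq, mul_assoc (S.q _) S.top, X2, mul_one,
      (S.x_oth i).eq, ← mul_assoc, S.q_sq, one_mul]
  have gm : ∀ u v, g * (u * v) * g⁻¹ = g * u * g⁻¹ * (g * v * g⁻¹) := fun u v => by group
  set γ := g * g * g with hγ
  have cγ : ∀ u, γ * u * γ⁻¹ = g * (g * (g * u * g⁻¹) * g⁻¹) * g⁻¹ := fun u => by rw [hγ]; group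
  have fix : ∀ u, γ * u * γ⁻¹ = u → γ * u = u * γ := fun u h => mul_inv_eq_iff_eq_mul.1 h
  have gta : g * (t * B.a) * g⁻¹ = t := by
    rw [gm, gt, ga, ← mul_assoc, ta.eq, mul_assoc, a_sq, mul_one]
  have ct : γ * t = t * γ := fix _ (by rw [cγ, gt, ga, gta])
  have ca : γ * B.a = B.a * γ := fix _ (by rw [cγ, ga, gta, gt])
  have cq : ∀ i, γ * S.q (one3 i) = S.q (one3 i) * γ := fun i => fix _ (by rw [cγ, gq, gq, gq])
  have cp : ∀ i, γ * S.q (oth i) = S.q (oth i) * γ := fun i => fix _ (by
    rw [cγ, gp, gx, gm, gx, gp, (S.x_oth i).eq, mul_assoc, (B.hx i).2.2.1, mul_one])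
  have hfix : g * γ * g⁻¹ = γ := by rw [hγ]; group
  have hγ1 : γ = 1 := by
    rcases S.small ct ca cq cp with e | e | e | e
    · exact e
    · rw [e, gt] at hfix
      exact absurd hfix B.pair.ne
    · rw [e, ga] at hfix
      exact absurd (mul_eq_right.1 hfix) H.ctr.ne_one
    · rw [e, gta] at hfix
      exact absurd (mul_eq_left.1 hfix.symm) H.a_ne_one
  rw [hγ, hg] at hγ1
  calc S.top * N.y * S.top = (S.top * N.y * (S.top * N.y) * (S.top * N.y)) * (N.y⁻¹ * S.top⁻¹ * N.y⁻¹) := by group
    _ = _ := by rw [hγ1, one_mul, N.y_inv, Xi]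

/-- The reflection of the branch node. -/
def k : G := S.top * N.y * S.top

theorem k_sq : N.k * N.k = 1 := by
  rw [k, show S.top * N.y * S.top * (S.top * N.y * S.top) = S.top * N.y * (S.top * S.top) * N.y * S.top by group,
    S.top_sq, mul_one, mul_assoc S.top N.y N.y, N.y_sq, mul_one, S.top_sq]

theorem k_inv : N.k⁻¹ = N.k := inv_eq_of_mul_eq_one_right N.k_sq

theorem k_conj (u : G) : N.k * u * N.k = S.top * (N.y * (S.top * u * S.top) * N.y) * S.top := by
  rw [k]; group

theorem k_t : N.k * t * N.k = B.a := by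
  rw [N.k_conj, S.top_t.eq, mul_assoc t, S.top_sq, mul_one, N.y_t, conj_two S.top_sq, S.top_t.eq, mul_assoc t,
    S.top_sq, mul_one, S.top_a, ← mul_assoc, H.ctr.zz, one_mul]

theorem k_a : N.k * B.a * N.k = t := by
  rw [← N.k_t, show N.k * (N.k * t * N.k) * N.k = N.k * N.k * t * (N.k * N.k) by group, N.k_sq, one_mul, mul_one]

theorem k_q (i : Fin 3) : Commute N.k (S.q (one3 i)) :=
  ((S.top_one3 i).mul_left (show Commute N.y _ from N.y_q i)).mul_left (S.top_one3 i)

theorem k_x (i : Fin 3) : N.k * B.x i * N.k = S.q (oth i) := by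
  have e : N.y * (B.x i * S.q (oth i)) * N.y = S.q (oth i) := by
    rw [conj_two N.y_sq, N.y_x, mul_assoc (B.x i) N.y, N.y_sq, mul_one, N.y_p, (S.x_oth i).symm.eq, ← mul_assoc,
      (B.hx i).2.2.1, one_mul]
  rw [N.k_conj, S.top_x, e, (S.top_oth i).eq, mul_assoc, S.top_sq, mul_one]

theorem k_p (i : Fin 3) : N.k * S.q (oth i) * N.k = B.x i := by
  rw [← N.k_x, show N.k * (N.k * B.x i * N.k) * N.k = N.k * N.k * B.x i * (N.k * N.k) by group, N.k_sq, one_mul,
    mul_one]

theorem k_top : N.k * S.top * N.k = N.y := by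
  have e : N.k = N.y * S.top * N.y := N.top_y
  calc N.k * S.top * N.k = N.y * S.top * N.y * S.top * (S.top * N.y * S.top) := by rw [← e]; rfl
    _ = N.y * S.top * N.y * (S.top * S.top) * N.y * S.top := by group
    _ = N.y * S.top * (N.y * N.y) * S.top := by rw [S.top_sq]; group
    _ = _ := by rw [N.y_sq, mul_one, mul_assoc, S.top_sq, mul_one]

/-- The braid relations of the branch node. -/
theorem braid (i : Fin 3) : (S.n i * N.k) * (S.n i * N.k) * (S.n i * N.k) = 1 := by
  set w := S.n i * N.k with hw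
  have n2 := (S.hn i).2.1
  have ta : Commute B.a t := H.comm_Q B.a_mem
  have cj : ∀ u : G, w * u * w⁻¹ = S.n i * (N.k * u * N.k) * S.n i := fun u => by
    rw [hw, mul_inv_rev, S.n_inv, N.k_inv]; group
  have nt : S.n i * t * S.n i = t := by rw [(S.hn i).1, mul_assoc, n2, mul_one]
  have upd_none : ∀ i : Fin 3, Function.update (fun _ : Fin 3 => false) i (!false) = one3 i := by decide
  have upd_one : ∀ i : Fin 3, Function.update (one3 i) i (!one3 i i) = fun _ => false := by decide
  have upd_oth : ∀ i : Fin 3, Function.update (oth i) i (!oth i i) = fun _ => true := by decide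
  have upd_mix : ∀ i j : Fin 3, j ≠ i → ∃ l, l ≠ i ∧ Function.update (one3 j) i (!one3 j i) = oth l ∧
      Function.update (oth l) i (!oth l i) = one3 j := by decide
  have upd_mix' : ∀ i l : Fin 3, l ≠ i → ∃ j, j ≠ i ∧ Function.update (oth l) i (!oth l i) = one3 j ∧
      Function.update (one3 j) i (!one3 j i) = oth l := by decide
  have na : S.n i * B.a * S.n i = S.q (one3 i) := by rw [← S.q_none, S.n_q, upd_none]
  have nb : S.n i * S.q (one3 i) * S.n i = B.a := by rw [S.n_q, upd_one, S.q_none]
  have wt : w * t * w⁻¹ = S.q (one3 i) := by rw [cj, N.k_t, na]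
  have wa : w * B.a * w⁻¹ = t := by rw [cj, N.k_a, nt]
  have kq : ∀ j, N.k * S.q (one3 j) * N.k = S.q (one3 j) := fun j => by
    rw [(N.k_q j).eq, mul_assoc, N.k_sq, mul_one]
  have wb : w * S.q (one3 i) * w⁻¹ = B.a := by rw [cj, kq, nb]
  have nx : ∀ j, j ≠ i → S.n i * B.x j * S.n i = B.x j := fun j hj => by
    rw [S.n_x i j (Ne.symm hj), mul_assoc, n2, mul_one]
  set c := w * w * w with hc
  have cc : ∀ u, c * u * c⁻¹ = w * (w * (w * u * w⁻¹) * w⁻¹) * w⁻¹ := fun u => by rw [hc]; group
  have fix : ∀ u, c * u * c⁻¹ = u → c * u = u * c := fun u h => mul_inv_eq_iff_eq_mul.1 h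
  have ct : c * t = t * c := fix _ (by rw [cc, wt, wb, wa])
  have ca : c * B.a = B.a * c := fix _ (by rw [cc, wa, wt, wb])
  have cq : ∀ j, c * S.q (one3 j) = S.q (one3 j) * c := fun j => fix _ (by
    by_cases h : j = i
    · subst h; rw [cc, wb, wa, wt]
    · obtain ⟨l, hl, e1, e2⟩ := upd_mix i j h
      have w1 : w * S.q (one3 j) * w⁻¹ = S.q (oth l) := by rw [cj, kq, S.n_q, e1]
      have w2 : w * S.q (oth l) * w⁻¹ = B.x l := by rw [cj, N.k_p, nx l hl]
      have w3 : w * B.x l * w⁻¹ = S.q (one3 j) := by rw [cj, N.k_x, S.n_q, e2]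
      rw [cc, w1, w2, w3])
  have cp : ∀ l, l ≠ i → c * S.q (oth l) = S.q (oth l) * c := fun l hl => fix _ (by
    obtain ⟨j, -, e2, e1⟩ := upd_mix' i l hl
    have w1 : w * S.q (one3 j) * w⁻¹ = S.q (oth l) := by rw [cj, kq, S.n_q, e1]
    have w2 : w * S.q (oth l) * w⁻¹ = B.x l := by rw [cj, N.k_p, nx l hl]
    have w3 : w * B.x l * w⁻¹ = S.q (one3 j) := by rw [cj, N.k_x, S.n_q, e2]
    rw [cc, w2, w3, w1])
  -- remove the coordinate at `one3 i`
  have hQ := S.mem_of_fix ct ca cq
  have bt : Commute (S.q (one3 i)) t := H.comm_Q (S.q_mem _)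
  have ba : Commute (S.q (one3 i)) B.a := by
    rw [← S.q_none]; exact S.q_comm (none_ne_not i)
  have hbt : S.q (one3 i) ≠ t := fun e => by
    have h := S.x_one3 i
    rw [e, (B.hx i).2.1, mul_assoc, (B.hx i).2.2.1, mul_one] at h
    exact H.a_ne_one (mul_eq_right.1 h.symm)
  have hba : S.q (one3 i) ≠ B.a := fun e => by
    have h := S.x_one3 i
    rw [e, B.x_a, mul_assoc, (B.hx i).2.2.1, mul_one] at h
    exact H.a_ne_one (mul_eq_right.1 h.symm)
  set b := S.q (one3 i) with hb
  have hwit : ∃ d, (c = d ∨ c = d * b) ∧ (d = 1 ∨ d = t ∨ d = B.a ∨ d = t * B.a) := by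
    have hco : ∀ δ, δ ≠ (fun _ => false) → δ ≠ one3 i → B.co c δ = false := fun δ hδ hδ' => by
      rw [S.co_eq hQ]
      refine chi_eq_false.2 ?_
      rcases bits_cases δ with e | ⟨l, e⟩ | ⟨l, e⟩ | e
      · exact absurd e hδ
      · rw [e, not_one3]
        exact cp l (fun h => hδ' (by rw [e, h]))
      · rw [e, not_oth]; exact cq l
      · rw [e]; simp only [Bool.not_true]; rw [S.q_none]; exact ca
    have hne := none_ne_one3 i
    obtain ⟨d, hd, hdQ, hdco⟩ : ∃ d, (d = 1 ∨ d = B.a) ∧ d ∈ Q ∧
        ∀ δ, B.co d δ = (B.co c (fun _ => false) && decide ((fun _ => false) = δ)) := by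
      cases B.co c fun _ => false
      · exact ⟨1, Or.inl rfl, Q.one_mem, fun δ => by simp [B.co_one]⟩
      · exact ⟨B.a, Or.inr rfl, B.a_mem, fun δ => by rw [← S.q_none, S.co_q]; simp⟩
    have done : ∀ d', (d' = d ∨ d' = d * b) → Eqv t d' c →
        ∃ d, (c = d ∨ c = d * b) ∧ (d = 1 ∨ d = t ∨ d = B.a ∨ d = t * B.a) := by
      intro d' hd' he
      rcases he with e | e
      · refine ⟨d, by rcases hd' with f | f <;> simp [e, f], ?_⟩
        rcases hd with f | f <;> simp [f]
      · refine ⟨t * d, by rcases hd' with f | f <;> simp [e, f, mul_assoc], ?_⟩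
        rcases hd with f | f <;> simp [f]
    cases hbit : B.co c (one3 i)
    · refine done d (Or.inl rfl) (B.eqv_of_co hdQ hQ fun δ => ?_)
      rw [hdco]
      by_cases e : δ = fun _ => false
      · simp [e]
      · by_cases e' : δ = one3 i
        · simp [e', hbit, hne]
        · simp [hco δ e e', Ne.symm e]
    · refine done (d * b) (Or.inr rfl) (B.eqv_of_co (Q.mul_mem hdQ (S.q_mem _)) hQ fun δ => ?_)
      rw [B.co_mul hdQ (S.q_mem _), hdco, S.co_q]
      by_cases e : δ = fun _ => false
      · simp [e, Ne.symm hne]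
      · by_cases e' : δ = one3 i
        · simp [e', hbit, hne]
        · simp [hco δ e e', Ne.symm e, Ne.symm e']
  have hfix : w * c * w⁻¹ = c := by rw [hc]; group
  have wm : ∀ u v, w * (u * v) * w⁻¹ = w * u * w⁻¹ * (w * v * w⁻¹) := fun u v => by group
  obtain ⟨d, hcd, hd⟩ := hwit
  rcases hcd with e | e <;> rcases hd with f | f | f | f <;> rw [f] at e <;>
    (try rw [one_mul] at e)
  · exact e
  · rw [e, wt] at hfix
    exact absurd hfix hbt
  · rw [e, wa] at hfix
    exact absurd hfix.symm B.pair.ne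
  · rw [e, wm, wt, wa, bt.eq] at hfix
    exact absurd (mul_left_cancel hfix) hba
  · rw [e, wb] at hfix
    exact absurd hfix.symm hba
  · rw [e, wm, wt, wb, ba.eq] at hfix
    exact absurd (mul_right_cancel hfix) B.pair.ne
  · rw [e, wm, wa, wb, ← ta.eq] at hfix
    exact absurd (mul_left_cancel hfix).symm hbt
  · exfalso
    -- `c = t a b` contradicts the relations of `x i`, `n i`, `y`
    set x := B.x i with hx
    set p := S.q (oth i) with hp
    have a2 : B.a * B.a = 1 := a_sq
    have hnX : S.n i * S.top * S.n i = p := by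
      rw [Split.top, S.n_q, hp]
      exact congrArg S.q (upd_all i)
    have hnp : S.n i * p * S.n i = S.top := by rw [hp, S.n_q, upd_oth]; rfl
    have yb : Commute N.y b := N.y_q i
    have xa : Commute x B.a := B.x_a i
    have hwx : w * x * w⁻¹ = S.top := by rw [cj, N.k_x, ← hp, hnp]
    have hwX : w * S.top * w⁻¹ = S.n i * N.y * S.n i := by rw [cj, N.k_top]
    have hce : c * x * c⁻¹ = x * B.a := by
      have hxe : x * c * x = t * b := by
        rw [e, conj_two (B.hx i).2.2.1, conj_two (B.hx i).2.2.1]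
        rw [(B.hx i).2.1, mul_assoc t x x, (B.hx i).2.2.1, mul_one, xa.eq, mul_assoc B.a x x, (B.hx i).2.2.1,
          mul_one, hb, S.x_one3, ← mul_assoc, mul_assoc t B.a B.a, a2, mul_one]
      have hxce : c * x = x * (t * b) := by
        rw [← hxe, show x * (x * c * x) = x * x * (c * x) by group, (B.hx i).2.2.1, one_mul]
      rw [hxce, e, mul_assoc x]
      congr 1
      rw [mul_inv_eq_iff_eq_mul, ← mul_assoc B.a, ← mul_assoc B.a, ta.eq, mul_assoc t B.a B.a, a2, mul_one]
    rw [cc, hwx, hwX, cj] at hce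
    refine hba (braid_contra (x := x) (n := S.n i) (X := S.top) (y := N.y) (k := N.k) (p := p) (b := b)
      (B.hx i).2.2.1 n2 S.top_sq N.y_sq (S.q_sq _) a2 (S.braid i) rfl N.k_sq hnp hnX nb yb (S.x_oth i)
      (show Commute x N.y from (N.y_x i).symm) N.y_a xa (N.k_q i) (S.top_one3 i) (N.y_p i) N.k_top ?_).symm
    rw [← hce]; group

/-- The four reflections. -/
def nn : Fin 4 → G := ![S.n 0, N.k, S.n 1, S.n 2]

theorem flip_a (i j : Fin 3) (δ : Fin 3 → Bool)
    (h : Function.update (Function.update (fun _ => false) j (!false)) i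
      (!Function.update (fun _ : Fin 3 => false) j (!false) i) = δ) :
    S.n i * (S.n j * B.a * S.n j) * S.n i = S.q δ := by
  rw [← S.q_none, S.n_q, S.n_q, h]

theorem endRoot_eq (i : Fin 3) (j k : Fin 4) (j' k' : Fin 3) (hj : N.nn j = S.n j') (hk : N.nn k = S.n k')
    (h : Function.update (Function.update (fun _ => false) k' (!false)) j'
      (!Function.update (fun _ : Fin 3 => false) k' (!false) j') = oth i) :
    endRoot N.nn t j k = B.x i := by
  have h1 : N.nn 1 = N.k := rfl
  rw [endRoot, h1, hj, hk]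
  calc N.k * S.n j' * S.n k' * N.k * t * (N.k * S.n j' * S.n k' * N.k)⁻¹ =
      N.k * (S.n j' * (S.n k' * (N.k * t * N.k) * S.n k') * S.n j') * N.k := by
        simp only [mul_inv_rev, N.k_inv, S.n_inv]; group
    _ = _ := by rw [N.k_t, flip_a j' k' _ h, N.k_p]

theorem endRoot_zero : endRoot N.nn t 2 3 = B.x 0 := N.endRoot_eq 0 2 3 1 2 rfl rfl (by decide)

theorem endRoot_one : endRoot N.nn t 0 3 = B.x 1 := N.endRoot_eq 1 0 3 0 2 rfl rfl (by decide)

theorem endRoot_two : endRoot N.nn t 0 2 = B.x 2 := N.endRoot_eq 2 0 2 0 1 rfl rfl (by decide)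

theorem midRoot_eq : midRoot N.nn t = S.top := by
  rw [midRoot, show N.nn 0 = S.n 0 from rfl, show N.nn 1 = N.k from rfl, show N.nn 2 = S.n 1 from rfl,
    show N.nn 3 = S.n 2 from rfl]
  calc S.n 0 * S.n 1 * S.n 2 * N.k * t * (S.n 0 * S.n 1 * S.n 2 * N.k)⁻¹ =
      S.n 0 * (S.n 1 * (S.n 2 * (N.k * t * N.k) * S.n 2) * S.n 1) * S.n 0 := by
        simp only [mul_inv_rev, N.k_inv, S.n_inv]; group
    _ = _ := by
        rw [N.k_t, ← S.q_none, S.n_q, S.n_q, S.n_q, Split.top]
        congr 1
        decide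

/-- The relations of the root elements. -/
theorem rels : RootRels N.nn t where
  n_sq i := by
    fin_cases i
    · exact (S.hn 0).2.1
    · exact N.k_sq
    · exact (S.hn 1).2.1
    · exact (S.hn 2).2.1
  braid i hi := by
    have key : ∀ l, (S.n l * N.k) ^ 3 = 1 := fun l => by rw [pow_three, ← mul_assoc]; exact N.braid l
    fin_cases i
    · exact key 0
    · exact absurd rfl hi
    · exact key 1
    · exact key 2
  comm i j hi hj := by
    fin_cases i <;> fin_cases j <;> first
      | exact absurd rfl hi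
      | exact absurd rfl hj
      | exact S.n_comm _ _
  fix i hi := by
    fin_cases i
    · exact (S.hn 0).1
    · exact absurd rfl hi
    · exact (S.hn 1).1
    · exact (S.hn 2).1
  t_sq := H.ctr.zz
  t_ne := H.ctr.ne_one
  pos := by
    rw [show N.nn 1 = N.k from rfl, N.k_t]
    exact (H.comm_Q B.a_mem).symm
  orth := by
    rw [N.endRoot_zero, N.endRoot_one, N.endRoot_two]
    exact ⟨(B.hx 0).2.1.symm, (B.hx 1).2.1.symm, (B.hx 2).2.1.symm⟩
  neg := by
    rw [N.endRoot_zero, N.midRoot_eq]
    have e : B.x 0 * S.top * B.x 0 * S.top = S.q (oth 0) := by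
      rw [show B.x 0 * S.top * B.x 0 * S.top = B.x 0 * (S.top * B.x 0 * S.top) by group, S.top_x, ← mul_assoc,
        (B.hx 0).2.2.1, one_mul]
    rw [e, show N.nn 1 = N.k from rfl, show N.nn 2 = S.n 1 from rfl, show N.nn 3 = S.n 2 from rfl]
    calc S.q (oth 0) = S.n 1 * (S.n 2 * B.a * S.n 2) * S.n 1 := (flip_a 1 2 _ (by decide)).symm
      _ = S.n 1 * (S.n 2 * (N.k * t * N.k) * S.n 2) * S.n 1 := by rw [N.k_t]
      _ = _ := by simp only [mul_inv_rev, N.k_inv, S.n_inv]; group

end Node

end Hyp.Base

end Cfsg.Agent.OmegaEightInv
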