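import Cfsg.Agent.Lib.OmegaEightInv.Braid

/-!
The centraliser of `t` lies in the group generated by the root elements.
-/

set_option autoImplicit false
set_option linter.style.haveILetI false
set_option linter.unusedSectionVars false

namespace Cfsg.Agent.OmegaEightInv

open Subgroup Cfsg.Agent.LargeExtra

theorem perm3_gen : ∀ s : Equiv.Perm (Fin 3), s ≠ 1 → s * s = 1 → ∀ m : Equiv.Perm (Fin 3), m ≠ 1 →
    m * m = 1 → m ≠ s → ∀ c : Equiv.Perm (Fin 3),
      c = 1 ∨ c = s ∨ c = m ∨ c = s * m ∨ c = m * s ∨ c = s * m * s := by decide +kernel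

variable {G : Type*} [Group G]

theorem rootGroup_conj {n : Fin 4 → G} {t w y : G} (hw : w ∈ Subgroup.closure (Set.range n))
    (hy : y ∈ rootGroup n t) : w * y * w⁻¹ ∈ rootGroup n t := by
  induction hy using Subgroup.closure_induction with
  | mem x hx =>
    obtain ⟨v, hv, rfl⟩ := hx
    exact Subgroup.subset_closure ⟨w * v, mul_mem hw hv, by group⟩
  | one => simp
  | mul x z _ _ hx hz =>
    rw [show w * (x * z) * w⁻¹ = w * x * w⁻¹ * (w * z * w⁻¹) by group]
    exact mul_mem hx hz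
  | inv x _ hx =>
    rw [show w * x⁻¹ * w⁻¹ = (w * x * w⁻¹)⁻¹ by group]
    exact inv_mem hx

namespace Hyp.Base.Node

variable {Q : Subgroup G} {t : G} [Finite G] {H : Hyp Q t} {B : H.Base} {S : B.Split} (N : Node S)

theorem cent_le : centralizer ({t} : Set G) ≤ rootGroup N.nn t := by
  set R := rootGroup N.nn t with hR
  set W := Subgroup.closure (Set.range N.nn) with hW
  have hk : N.k ∈ W := Subgroup.subset_closure ⟨1, rfl⟩
  have hn : ∀ i, S.n i ∈ W := fun i => Subgroup.subset_closure (by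
    fin_cases i
    exacts [⟨0, rfl⟩, ⟨2, rfl⟩, ⟨3, rfl⟩])
  have ht : t ∈ R := Subgroup.subset_closure ⟨1, one_mem _, by simp⟩
  have ha : B.a ∈ R := by
    have h := rootGroup_conj hk ht
    rwa [N.k_inv, N.k_t] at h
  have hP : ∀ δ, S.P δ ∈ W := fun δ => by
    have h : ∀ i, (if δ i then S.n i else 1) ∈ W := fun i => by
      split_ifs
      · exact hn i
      · exact one_mem _
    exact mul_mem (mul_mem (h 0) (h 1)) (h 2)
  have hq : ∀ δ, S.q δ ∈ R := fun δ => rootGroup_conj (hP δ) ha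
  have hv : ∀ δ, B.v δ ∈ R := fun δ => by
    rcases S.q_v δ with e | e
    · exact e ▸ hq δ
    · have h := mul_mem ht (hq δ)
      rwa [e, ← mul_assoc, H.ctr.zz, one_mul] at h
  have hQ : Q ≤ R := fun w hw => by
    have hc : B.combo (B.co w) ∈ R := by
      refine list_prod_mem fun y hy => ?_
      obtain ⟨ε, -, rfl⟩ := List.mem_map.1 hy
      split_ifs
      · exact hv ε
      · exact one_mem _
    rcases B.eqv_of_co (B.combo_mem _) hw (B.co_combo (B.co w)) with e | e
    · exact e ▸ hc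
    · exact e ▸ mul_mem ht hc
  have hroot : ∀ j k : Fin 4, endRoot N.nn t j k ∈ R := fun j k =>
    Subgroup.subset_closure ⟨N.nn 1 * N.nn j * N.nn k * N.nn 1,
      mul_mem (mul_mem (mul_mem (Subgroup.subset_closure ⟨1, rfl⟩) (Subgroup.subset_closure ⟨j, rfl⟩))
        (Subgroup.subset_closure ⟨k, rfl⟩)) (Subgroup.subset_closure ⟨1, rfl⟩), rfl⟩
  have hx : ∀ i, B.x i ∈ R := fun i => by
    fin_cases i
    exacts [N.endRoot_zero ▸ hroot 2 3, N.endRoot_one ▸ hroot 0 3, N.endRoot_two ▸ hroot 0 2]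
  have hnR : ∀ i, S.n i ∈ R := fun i => by
    have h := mul_mem (mul_mem (hx i) (rootGroup_conj (hn i) (hx i))) (hx i)
    rwa [S.n_inv, inner_conj (B.hx i).2.2.1 (S.hn i).2.1 (S.braid i),
      show B.x i * (B.x i * S.n i * B.x i) * B.x i = B.x i * B.x i * S.n i * (B.x i * B.x i) by group,
      (B.hx i).2.2.1, one_mul, mul_one] at h
  -- lifts of the top
  let Lift : P3 → Prop := fun p => ∃ r ∈ R, r * t = t * r ∧ H.img r = p
  have hone : Lift 1 := ⟨1, one_mem _, by simp, H.img_one⟩
  have hmul : ∀ {p p'}, Lift p → Lift p' → Lift (p * p') := by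
    rintro p p' ⟨r, hr, hrt, rfl⟩ ⟨r', hr', hrt', rfl⟩
    exact ⟨r * r', mul_mem hr hr', comm_mul hrt hrt', H.img_mul hrt hrt'⟩
  have hs : ∀ i, Lift (Function.update (1 : P3) i (B.s i)) :=
    fun i => ⟨B.x i, hx i, (B.hx i).2.1, (B.hx i).2.2.2⟩
  have hm : ∀ i, Lift (Function.update (1 : P3) i (B.m i)) :=
    fun i => ⟨S.n i, hnR i, (S.hn i).1, (S.hn i).2.2⟩
  have upd : ∀ (i : Fin 3) (a b : Equiv.Perm (Fin 3)),
      Function.update (1 : P3) i (a * b) = Function.update (1 : P3) i a * Function.update (1 : P3) i b := by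
    intro i a b
    funext j
    by_cases h : j = i
    · subst h; simp
    · simp [h]
  have hcomp : ∀ i c, Lift (Function.update (1 : P3) i c) := fun i c => by
    rcases perm3_gen _ (B.hs i).1 (B.hs i).2 _ (B.hm i).1 (B.hm i).2.1 (B.hm i).2.2 c with
      e | e | e | e | e | e <;> subst e
    · rwa [show Function.update (1 : P3) i (1 : Equiv.Perm (Fin 3)) = 1 from Function.update_eq_self i (1 : P3)]
    · exact hs i
    · exact hm i
    · rw [upd]; exact hmul (hs i) (hm i)
    · rw [upd]; exact hmul (hm i) (hs i)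
    · rw [upd, upd]; exact hmul (hmul (hs i) (hm i)) (hs i)
  intro g hg
  have hgt : g * t = t * g := mem_centralizer_singleton_iff.1 hg
  obtain ⟨r, hr, hrt, hrg⟩ : Lift (H.img g) := by
    have h := hmul (hmul (hcomp 0 (H.img g 0)) (hcomp 1 (H.img g 1))) (hcomp 2 (H.img g 2))
    convert h using 1
    funext j
    fin_cases j <;> simp [Function.update]
  have h := mul_mem hr (hQ ((H.img_eq_iff hrt hgt).1 hrg))
  rwa [mul_inv_cancel_left] at h

end Hyp.Base.Node

end Cfsg.Agent.OmegaEightInv
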