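import Mathlib
import Cfsg.Agent.Lib.LargeExtra.Centralizer
import Cfsg.Agent.Lib.LargeExtra.Structure

/-!
The centraliser `C` of `t`: `Q = 2^{1+8}`, `C/Q = S₃ × S₃ × S₃` through a map `img` defined on `G`.
-/

set_option autoImplicit false
set_option linter.style.haveILetI false

namespace Cfsg.Agent.OmegaEightInv

open Subgroup Cfsg.Agent.LargeExtra

/-- The top of `C`. -/
abbrev P3 : Type := Fin 3 → Equiv.Perm (Fin 3)

theorem perm3_pow_two : ∀ c : Equiv.Perm (Fin 3), c ^ 4 = 1 → c * c = 1 := by decide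

set_option synthInstance.maxSize 512 in
theorem perm3_norm : ∀ s : Equiv.Perm (Fin 3), s ≠ 1 → s * s = 1 → ∀ c : Equiv.Perm (Fin 3),
    c * s * c⁻¹ = s → c = 1 ∨ c = s := by decide +kernel

theorem perm3_pow_six : ∀ c : Equiv.Perm (Fin 3), c ^ 6 = 1 := by decide +kernel

/-- The elements of `C` of two-power order have square one in the top. -/
theorem P3.sq_of_two_pow {p : P3} {k : ℕ} (h : p ^ 2 ^ k = 1) : p * p = 1 := by
  funext i
  have h1 : (p i) ^ 2 ^ k = 1 := congrFun h i
  have h2 : orderOf (p i) ∣ 2 ^ k := orderOf_dvd_of_pow_eq_one h1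
  have h3 : orderOf (p i) ∣ 6 := orderOf_dvd_of_pow_eq_one (perm3_pow_six _)
  have h4 : orderOf (p i) ∣ Nat.gcd (2 ^ k) 6 := Nat.dvd_gcd h2 h3
  have h5 : orderOf (p i) ∣ 2 := h4.trans (by
    rcases k.eq_zero_or_pos with rfl | hk
    · simp
    · rw [show (6 : ℕ) = 2 * 3 from rfl, Nat.Coprime.gcd_mul_right_cancel_right 2
        (Nat.Coprime.pow_right k (by norm_num : Nat.Coprime 3 2))]
      exact Nat.gcd_dvd_right _ _)
  show p i * p i = 1
  rw [← pow_two]
  exact orderOf_dvd_iff_pow_eq_one.1 h5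

theorem card_P3 : Nat.card P3 = 216 := by
  simp [P3, Nat.card_eq_fintype_card, Fintype.card_perm, Nat.factorial]

/-- A subgroup of order eight of the top. -/
theorem P3.eight {R : Subgroup P3} (hR : Nat.card ↥R = 8) :
    ∃ s : P3, (∀ i, s i ≠ 1 ∧ s i * s i = 1) ∧ ∀ p : P3, p ∈ R ↔ ∀ i, p i = 1 ∨ p i = s i := by
  classical
  haveI : Fact (Nat.Prime 2) := ⟨Nat.prime_two⟩
  have hsq : ∀ p ∈ R, p * p = 1 := fun p hp => by
    refine P3.sq_of_two_pow (k := 3) ?_
    have h := pow_card_eq_one' (G := ↥R) (x := ⟨p, hp⟩)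
    rw [hR] at h
    simpa using congrArg Subtype.val h
  -- the projections
  have hproj : ∀ i, ∃ s : Equiv.Perm (Fin 3), s ≠ 1 ∧ s * s = 1 ∧ ∀ p ∈ R, p i = 1 ∨ p i = s := by
    intro i
    by_cases h : ∃ p ∈ R, p i ≠ 1
    · obtain ⟨p, hp, hp1⟩ := h
      have hp2 : p i * p i = 1 := congrFun (hsq p hp) i
      refine ⟨p i, hp1, hp2, fun q hq => ?_⟩
      have key : ∀ a b : Equiv.Perm (Fin 3), a ≠ 1 → a * a = 1 → b * b = 1 → a * b * (a * b) = 1 →
          b = 1 ∨ b = a := by decide +kernel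
      exact key _ _ hp1 hp2 (congrFun (hsq q hq) i) (congrFun (hsq _ (R.mul_mem hp hq)) i)
    · push Not at h
      exact ⟨Equiv.swap 0 1, by decide, by decide, fun p hp => Or.inl (h p hp)⟩
  choose s hs1 hs2 hs using hproj
  refine ⟨s, fun i => ⟨hs1 i, hs2 i⟩, fun p => ⟨fun hp i => hs i p hp, ?_⟩⟩
  -- count
  let f : (Fin 3 → Fin 2) → P3 := fun m i => if m i = 0 then 1 else s i
  have hsub : (R : Set P3) ⊆ Set.range f := fun q hq => by
    refine ⟨fun i => if q i = 1 then 0 else 1, funext fun i => ?_⟩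
    rcases hs i q hq with e | e <;> simp [f, e, hs1 i]
  have hcard : (Set.range f).ncard ≤ 8 := by
    rw [← Set.image_univ]
    refine (Set.ncard_image_le).trans ?_
    simp [Set.ncard_univ]
  have heq : (R : Set P3) = Set.range f :=
    Set.eq_of_subset_of_ncard_le hsub (by
      rw [show (R : Set P3).ncard = 8 by rw [← hR]; exact (Nat.card_coe_set_eq _).symm]
      exact hcard)
  intro hp
  show p ∈ (R : Set P3)
  rw [heq]
  refine ⟨fun i => if p i = 1 then 0 else 1, funext fun i => ?_⟩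
  rcases hp i with e | e <;> simp [f, e, hs1 i]

/-- A subgroup of order eight of the top is its own normaliser. -/
theorem P3.mem_of_normal {R : Subgroup P3} (hR : Nat.card ↥R = 8) {c : P3}
    (hc : ∀ p ∈ R, c * p * c⁻¹ ∈ R) : c ∈ R := by
  classical
  obtain ⟨s, hs, hmem⟩ := P3.eight hR
  rw [hmem]
  intro i
  have hin : Function.update (1 : P3) i (s i) ∈ R := (hmem _).2 fun j => by
    by_cases h : j = i
    · subst h; simp
    · simp [h]
  have h1 := (hmem _).1 (hc _ hin) i
  simp only [Pi.mul_apply, Pi.inv_apply, Function.update_self] at h1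
  rcases h1 with e | e
  · exact absurd (by simpa using e) (hs i).1
  · exact perm3_norm _ (hs i).1 (hs i).2 _ e

variable {G : Type*} [Group G]

/-- The hypotheses on the centraliser. -/
structure Hyp (Q : Subgroup G) (t : G) where
  ctr : Ctr Q t
  card : Nat.card ↥Q = 512
  img : G → P3
  img_mul : ∀ {g h : G}, g * t = t * g → h * t = t * h → img (g * h) = img g * img h
  img_surj : ∀ p : P3, ∃ g, g * t = t * g ∧ img g = p
  img_iff : ∀ {g : G}, g * t = t * g → (img g = 1 ↔ g ∈ Q)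

namespace Hyp

variable {Q : Subgroup G} {t : G} (H : Hyp Q t)
include H

omit H in
theorem comm_mul {g h : G} (hg : g * t = t * g) (hh : h * t = t * h) : g * h * t = t * (g * h) :=
  (Commute.mul_left (show Commute g t from hg) (show Commute h t from hh)).eq

omit H in
theorem comm_inv {g : G} (hg : g * t = t * g) : g⁻¹ * t = t * g⁻¹ :=
  (show Commute g t from hg).inv_left.eq

omit H in
theorem comm_conj {g h : G} (hg : g * t = t * g) (hh : h * t = t * h) :
    g * h * g⁻¹ * t = t * (g * h * g⁻¹) := comm_mul (comm_mul hg hh) (comm_inv hg)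

theorem comm_Q {q : G} (hq : q ∈ Q) : q * t = t * q := H.ctr.comm hq

theorem img_one : H.img 1 = 1 := (H.img_iff (by simp)).2 Q.one_mem

theorem img_inv {g : G} (hg : g * t = t * g) : H.img g⁻¹ = (H.img g)⁻¹ :=
  eq_inv_of_mul_eq_one_left (by rw [← H.img_mul (comm_inv hg) hg, inv_mul_cancel, H.img_one])

theorem img_conj {g h : G} (hg : g * t = t * g) (hh : h * t = t * h) :
    H.img (g * h * g⁻¹) = H.img g * H.img h * (H.img g)⁻¹ := by
  rw [H.img_mul (comm_mul hg hh) (comm_inv hg), H.img_mul hg hh, H.img_inv hg]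

theorem img_pow {g : G} (hg : g * t = t * g) (k : ℕ) : H.img (g ^ k) = H.img g ^ k := by
  induction k with
  | zero => simp [H.img_one]
  | succ k ih =>
    rw [pow_succ, pow_succ, H.img_mul ((show Commute g t from hg).pow_left k).eq hg, ih]

theorem img_eq_iff {g h : G} (hg : g * t = t * g) (hh : h * t = t * h) :
    H.img g = H.img h ↔ g⁻¹ * h ∈ Q := by
  rw [← H.img_iff (comm_mul (comm_inv hg) hh), H.img_mul (comm_inv hg) hh, H.img_inv hg,
    inv_mul_eq_one]

/-- The homomorphism on the centraliser. -/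
def psi : ↥(centralizer ({t} : Set G)) →* P3 where
  toFun g := H.img g
  map_one' := H.img_one
  map_mul' g h := H.img_mul (mem_centralizer_singleton_iff.1 g.2) (mem_centralizer_singleton_iff.1 h.2)

theorem psi_surjective : Function.Surjective H.psi := fun p => by
  obtain ⟨g, hg, e⟩ := H.img_surj p
  exact ⟨⟨g, mem_centralizer_singleton_iff.2 hg⟩, e⟩

theorem psi_ker : H.psi.ker = Q.subgroupOf (centralizer ({t} : Set G)) := by
  ext g
  rw [MonoidHom.mem_ker, mem_subgroupOf]
  exact H.img_iff (mem_centralizer_singleton_iff.1 g.2)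

theorem card_C [Finite G] : Nat.card ↥(centralizer ({t} : Set G)) = 2 ^ 12 * 27 := by
  rw [card_eq_card_quotient_mul_card_subgroup H.psi.ker,
    Nat.card_congr (QuotientGroup.quotientKerEquivOfSurjective H.psi H.psi_surjective).toEquiv,
    card_P3, H.psi_ker, Nat.card_congr (subgroupOfEquivOfLe H.ctr.le_centralizer).toEquiv, H.card]
  norm_num

/-- Squares of 2-elements of `C` lie in `Q`. -/
theorem sq_mem {g : G} (hg : g * t = t * g) {k : ℕ} (hk : g ^ 2 ^ k = 1) : g * g ∈ Q := by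
  rw [← H.img_iff (comm_mul hg hg), H.img_mul hg hg]
  exact P3.sq_of_two_pow (k := k) (by rw [← H.img_pow hg, hk, H.img_one])

/-- A 2-subgroup of `C` meets `Q` in index at most eight. -/
theorem index_le [Finite G] {A : Subgroup G} (hA : A ≤ centralizer ({t} : Set G)) (h2 : IsPGroup 2 ↥A) :
    Nat.card ↥A ≤ 8 * Nat.card ↥(A ⊓ Q) ∧
      (Nat.card ↥A = 8 * Nat.card ↥(A ⊓ Q) → Nat.card ↥((A.subgroupOf (centralizer ({t} : Set G))).map H.psi) = 8) := by
  haveI : Fact (Nat.Prime 2) := ⟨Nat.prime_two⟩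
  set A' := A.subgroupOf (centralizer ({t} : Set G)) with hA'
  have hcA : Nat.card ↥A' = Nat.card ↥A := Nat.card_congr (subgroupOfEquivOfLe hA).toEquiv
  have hrange := Nat.card_congr (QuotientGroup.quotientKerEquivRange (H.psi.comp A'.subtype)).toEquiv
  have hcard := card_eq_card_quotient_mul_card_subgroup (H.psi.comp A'.subtype).ker
  rw [hrange, MonoidHom.range_comp, Subgroup.range_subtype, hcA] at hcard
  have hker : Nat.card ↥(H.psi.comp A'.subtype).ker = Nat.card ↥(A ⊓ Q) := by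
    refine Nat.card_congr
      { toFun := fun x => ⟨((x : ↥A') : ↥(centralizer ({t} : Set G))),
          mem_inf.2 ⟨(x : ↥A').2, ?_⟩⟩
        invFun := fun x => ⟨⟨⟨x, hA (mem_inf.1 x.2).1⟩, (mem_inf.1 x.2).1⟩, ?_⟩
        left_inv := fun x => rfl
        right_inv := fun x => rfl }
    · have h : ((x : ↥A') : ↥(centralizer ({t} : Set G))) ∈ H.psi.ker := x.2
      rwa [H.psi_ker, mem_subgroupOf] at h
    · show ((⟨x, hA (mem_inf.1 x.2).1⟩ : ↥(centralizer ({t} : Set G)))) ∈ H.psi.ker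
      rw [H.psi_ker, mem_subgroupOf]
      exact (mem_inf.1 x.2).2
  rw [hker] at hcard
  have hp : IsPGroup 2 ↥(A'.map H.psi) := (h2.of_equiv (subgroupOfEquivOfLe hA).symm).map _
  obtain ⟨j, hj⟩ := IsPGroup.iff_card.1 hp
  have hdvd : Nat.card ↥(A'.map H.psi) ∣ 216 := card_P3 ▸ card_subgroup_dvd_card _
  have h8 : Nat.card ↥(A'.map H.psi) ∣ 8 := by
    rw [hj] at hdvd ⊢
    exact (Nat.Coprime.dvd_of_dvd_mul_right (Nat.Coprime.pow_left j (by norm_num : Nat.Coprime 2 27))
      (show 2 ^ j ∣ 8 * 27 from hdvd))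
  refine ⟨?_, fun h => ?_⟩
  · rw [hcard]
    exact Nat.mul_le_mul_right _ (Nat.le_of_dvd (by norm_num) h8)
  · have hpos : 0 < Nat.card ↥(A ⊓ Q) := Nat.card_pos
    rw [hcard] at h
    exact Nat.eq_of_mul_eq_mul_right hpos h

/-- If the image of `A` has order eight, an element normalising `A` has square in `Q`. -/
theorem sq_of_normal [Finite G] {A : Subgroup G} (hA : A ≤ centralizer ({t} : Set G))
    (h8 : Nat.card ↥((A.subgroupOf (centralizer ({t} : Set G))).map H.psi) = 8) {c : G}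
    (hc : c * t = t * c) (hn : ∀ a ∈ A, c * a * c⁻¹ ∈ A) :
    H.img c ∈ (A.subgroupOf (centralizer ({t} : Set G))).map H.psi := by
  refine P3.mem_of_normal h8 ?_
  rintro _ ⟨a, ha, rfl⟩
  refine ⟨⟨c, mem_centralizer_singleton_iff.2 hc⟩ * a * ⟨c, mem_centralizer_singleton_iff.2 hc⟩⁻¹, hn _ ha, ?_⟩
  rw [map_mul, map_mul, map_inv]
  rfl

end Hyp

end Cfsg.Agent.OmegaEightInv
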