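import Mathlib
import Cfsg.Agent.Lib.OmegaEightInv.Setting
import Cfsg.Agent.Lib.Cores.Fitting
import Cfsg.Agent.Lib.Cores.Basic
import Cfsg.Agent.Lib.ZStar.Main
import Cfsg.Prelude.Def_TwoFusion

/-!
From the hypotheses of S3345 to the setting, and the isolated case.
-/

set_option autoImplicit false
set_option linter.style.haveILetI false

namespace Cfsg.Agent.OmegaEightInv

open Subgroup

variable {G : Type*} [Group G] [Finite G]

/-- If no other conjugate of `t` commutes with it, `t` is central modulo the odd core. -/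
theorem oddCore_of_isolated (t : G) (ht : orderOf t = 2)
    (h : ∀ g : G, g * t * g⁻¹ * t = t * (g * t * g⁻¹) → g * t * g⁻¹ = t) (g : G) :
    g * t * g⁻¹ * t⁻¹ ∈ Cfsg.oddCore G := by
  have h1 := inv_mem (ZStar.Main.commutator_mem_oddCore ⟨ht, fun k hk => h k hk.eq.symm⟩ g)
  rwa [show (t * g * t⁻¹ * g⁻¹)⁻¹ = g * t * g⁻¹ * t⁻¹ by group] at h1

/-- The setting of S3345. -/
theorem exists_hyp (t : G) (ht : orderOf t = 2) (C : Subgroup G)
    (hC : C = Subgroup.centralizer ({t} : Set G))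
    (hF : Cfsg.IsExtraspecial 2 (Cfsg.generalizedFittingSubgroup C))
    (hFcard : Nat.card (Cfsg.generalizedFittingSubgroup C) = 2 ^ 9)
    (e : C ⧸ Cfsg.pCore 2 C ≃* Equiv.Perm (Fin 3) × Equiv.Perm (Fin 3) × Equiv.Perm (Fin 3)) :
    ∃ Q : Subgroup G, Nonempty (Hyp Q t) := by
  classical
  subst hC
  haveI : Fact (Nat.Prime 2) := ⟨Nat.prime_two⟩
  set C := Subgroup.centralizer ({t} : Set G) with hC
  set F := Cfsg.generalizedFittingSubgroup ↥C with hFdef
  haveI : F.Normal := by rw [hFdef]; infer_instance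
  have hFeq : Cfsg.pCore 2 ↥C = F :=
    le_antisymm ((Cores.pCore_le_fitting 2).trans le_sup_right)
      (Cores.le_pCore (IsPGroup.of_card hFcard))
  set Q := F.map C.subtype with hQdef
  let eQ : ↥F ≃* ↥Q := Subgroup.equivMapOfInjective F C.subtype C.subtype_injective
  have hQext : Cfsg.IsExtraspecial 2 ↥Q := LargeExtra.isExtraspecial_of_equiv hF eQ
  have hctr : LargeExtra.Ctr Q t := LargeExtra.Ctr.of_fitting ht (map_subtype_le F) rfl hQext
  let toP : Equiv.Perm (Fin 3) × Equiv.Perm (Fin 3) × Equiv.Perm (Fin 3) →* P3 :=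
    MonoidHom.mk' (fun p => ![p.1, p.2.1, p.2.2]) fun p q => by
      funext i; fin_cases i <;> rfl
  let ψ : ↥C →* P3 := (toP.comp e.toMonoidHom).comp (QuotientGroup.mk' _)
  have hψ1 : ∀ c : ↥C, ψ c = 1 ↔ c ∈ F := by
    intro c
    rw [← hFeq, ← QuotientGroup.eq_one_iff (N := Cfsg.pCore 2 ↥C)]
    have hinj : ∀ p, toP p = 1 ↔ p = 1 := fun p => by
      refine ⟨fun h => Prod.ext (congrFun h 0) (Prod.ext (congrFun h 1) (congrFun h 2)), ?_⟩
      rintro rfl
      exact map_one _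
    exact (hinj _).trans (map_eq_one_iff e e.injective)
  let img : G → P3 := fun g => if h : g ∈ C then ψ ⟨g, h⟩ else 1
  have himg : ∀ {g : G} (h : g ∈ C), img g = ψ ⟨g, h⟩ := fun h => dif_pos h
  have hmem : ∀ {g : G}, g * t = t * g → g ∈ C := fun h => mem_centralizer_singleton_iff.2 h
  refine ⟨Q, ⟨⟨hctr, ?_, img, fun {g h} hg hh => ?_, fun p => ?_, fun {g} hg => ?_⟩⟩⟩
  · rw [← Nat.card_congr eQ.toEquiv, hFcard]; norm_num
  · rw [himg (hmem hg), himg (hmem hh), himg (mul_mem (hmem hg) (hmem hh)), ← map_mul]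
    rfl
  · obtain ⟨q, hq⟩ := e.surjective (p 0, p 1, p 2)
    obtain ⟨c, rfl⟩ := QuotientGroup.mk'_surjective _ q
    refine ⟨c, mem_centralizer_singleton_iff.1 c.2, ?_⟩
    rw [himg c.2]
    show toP (e (QuotientGroup.mk' _ c)) = p
    rw [hq]
    funext i; fin_cases i <;> rfl
  · rw [himg (hmem hg), hψ1]
    exact ⟨fun h => ⟨_, h, rfl⟩, fun ⟨c, hc, hcg⟩ => by
      rwa [show c = ⟨g, hmem hg⟩ from Subtype.ext hcg] at hc⟩

end Cfsg.Agent.OmegaEightInv
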