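import Cfsg.Agent.Lib.OmegaEightInv.Pair

/-!
The module `Q/Z` is `2 ⊗ 2 ⊗ 2`: with `m` three further transpositions and `q δ` the conjugates of `a` by
them, the class of `q δ` commutes with all `q ε` but the complementary one, and the three involutions act by
the obvious rule. Everything is computed modulo `t`.
-/

set_option autoImplicit false
set_option linter.style.haveILetI false
set_option linter.unusedSectionVars false

namespace Cfsg.Agent.OmegaEightInv

open Subgroup Cfsg.Agent.LargeExtra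

variable {G : Type*} [Group G]

/-- Equality up to `t`. -/
def Eqv (t x y : G) : Prop := y = x ∨ y = t * x

theorem Eqv.refl (t x : G) : Eqv t x x := Or.inl rfl

theorem perm3_other : ∀ s : Equiv.Perm (Fin 3), s ≠ 1 → s * s = 1 →
    ∃ m : Equiv.Perm (Fin 3), m ≠ 1 ∧ m * m = 1 ∧ m ≠ s := by decide +kernel

theorem perm3_braid : ∀ s : Equiv.Perm (Fin 3), s ≠ 1 → s * s = 1 → ∀ m : Equiv.Perm (Fin 3), m ≠ 1 →
    m * m = 1 → s * m * s = m * s * m := by decide +kernel

theorem zmod2_bit : ∀ c : Multiplicative (ZMod 2),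
    Multiplicative.ofAdd (if decide (Multiplicative.toAdd c = 1) then (1 : ZMod 2) else 0) = c := by
  decide

namespace Hyp

variable {Q : Subgroup G} {t : G}

/-- A conjugate `a` of `t` in `Q` with its three involutions. -/
structure Base (H : Hyp Q t) where
  g : G
  pair : H.FPair g
  s : P3
  m : P3
  x : Fin 3 → G
  hs : ∀ i, s i ≠ 1 ∧ s i * s i = 1
  hm : ∀ i, m i ≠ 1 ∧ m i * m i = 1 ∧ m i ≠ s i
  img_fix : ∀ c, c * t = t * c → c * (g * t * g⁻¹) = g * t * g⁻¹ * c → ∀ i, H.img c i = 1 ∨ H.img c i = s i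
  hx : ∀ i, x i ∈ H.Qa g ∧ x i * t = t * x i ∧ x i * x i = 1 ∧ H.img (x i) = Function.update (1 : P3) i (s i)
  x_comm : ∀ i j, x i * x j = x j * x i
  dual : ∀ δ : Fin 3 → Bool, ∃ w ∈ Q ⊓ H.Qa g, ∀ i, chi (x i) w = δ i

theorem exists_base [Finite G] (H : Hyp Q t) {g : G} (P : H.FPair g) : ∃ B : H.Base, B.g = g := by
  obtain ⟨s, hs, h1, h2⟩ := FPair.exists_image H P
  obtain ⟨x, hx, hxc, hd⟩ := FPair.exists_lifts H P hs h2
  choose m hm using fun i => perm3_other (s i) (hs i).1 (hs i).2
  exact ⟨⟨g, P, s, m, x, hs, hm, h1, hx, hxc, hd⟩, rfl⟩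

section eqv

variable (H : Hyp Q t)
include H

theorem tt (v : G) : t * (t * v) = v := by rw [← mul_assoc, H.ctr.zz, one_mul]

theorem eqv_symm {x y : G} (h : Eqv t x y) : Eqv t y x := by
  rcases h with rfl | rfl
  · exact Or.inl rfl
  · exact Or.inr (H.tt x).symm

theorem eqv_trans {x y z : G} (h : Eqv t x y) (h' : Eqv t y z) : Eqv t x z := by
  rcases h with rfl | rfl <;> rcases h' with rfl | rfl
  · exact Or.inl rfl
  · exact Or.inr rfl
  · exact Or.inr rfl
  · exact Or.inl (H.tt x)

theorem eqv_mul {x x' y y' : G} (hx : x * t = t * x) (h : Eqv t x x') (h' : Eqv t y y') :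
    Eqv t (x * y) (x' * y') := by
  rcases h with rfl | rfl <;> rcases h' with rfl | rfl
  · exact Or.inl rfl
  · exact Or.inr (by rw [← mul_assoc, hx, mul_assoc])
  · exact Or.inr (mul_assoc _ _ _)
  · exact Or.inl (by rw [mul_assoc t, ← mul_assoc x, hx, mul_assoc t, H.tt])

theorem eqv_conj {c x y : G} (hc : c * t = t * c) (h : Eqv t x y) : Eqv t (c * x * c⁻¹) (c * y * c⁻¹) := by
  rcases h with rfl | rfl
  · exact Or.inl rfl
  · right
    calc c * (t * x) * c⁻¹ = c * t * x * c⁻¹ := by simp [mul_assoc]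
      _ = _ := by rw [hc]; simp [mul_assoc]

theorem eqv_mem {x y : G} (h : Eqv t x y) (hx : x ∈ Q) : y ∈ Q := by
  rcases h with rfl | rfl
  · exact hx
  · exact Q.mul_mem H.ctr.z_mem hx

theorem eqv_mem_W {g x y : G} [Finite G] (P : H.FPair g) (h : Eqv t x y) (hx : x ∈ Q ⊓ H.Qa g) :
    y ∈ Q ⊓ H.Qa g := by
  rcases h with rfl | rfl
  · exact hx
  · exact (Q ⊓ H.Qa g).mul_mem (FPair.t_mem_W H P) hx

theorem chi_t [Finite G] {x : G} (hx : x ∈ Q) : chi t x = false :=
  chi_eq_false.2 (H.comm_Q hx).symm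

theorem chi_eqv [Finite G] {x y w : G} (h : Eqv t x y) (hx : x ∈ Q) (hw : w ∈ Q) :
    chi y w = chi x w := by
  rcases h with rfl | rfl
  · rfl
  · rw [chi_mul_left H.ctr H.ctr.z_mem hx hw, H.chi_t hw, Bool.false_xor]

theorem chi_conj_eq (c x y : G) : chi (c * x * c⁻¹) (c * y * c⁻¹) = chi x y := by
  classical
  unfold chi
  congr 1
  apply propext
  rw [show c * x * c⁻¹ * (c * y * c⁻¹) = c * (x * y) * c⁻¹ by group,
    show c * y * c⁻¹ * (c * x * c⁻¹) = c * (y * x) * c⁻¹ by group]
  simp

theorem eqv_one_of_not {v : G} [Finite G] (hv : v ∈ Q) (h : ∀ w ∈ Q, chi v w = false) : Eqv t 1 v := by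
  have hc : (⟨v, hv⟩ : ↥Q) ∈ center ↥Q :=
    mem_center_iff.2 fun w => Subtype.ext (chi_eq_false.1 (h w w.2)).symm
  rcases H.ctr.center_cases hc with e | e
  · exact Or.inl e
  · exact Or.inr (by rw [mul_one]; exact e)

/-- A representative of an element of the top. -/
noncomputable def rep (p : P3) : G := (H.img_surj p).choose

theorem rep_comm (p : P3) : H.rep p * t = t * H.rep p := (H.img_surj p).choose_spec.1

theorem img_rep (p : P3) : H.img (H.rep p) = p := (H.img_surj p).choose_spec.2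

/-- The action of the top on `Q` up to `t`. -/
noncomputable def act (p : P3) (v : G) : G := H.rep p * v * (H.rep p)⁻¹

theorem act_mem {v : G} (hv : v ∈ Q) (p : P3) : H.act p v ∈ Q := H.ctr.conj_mem (H.rep_comm p) hv

theorem act_congr [Finite G] {c v : G} (hc : c * t = t * c) (hv : v ∈ Q) {p : P3} (hp : H.img c = p) :
    Eqv t (H.act p v) (c * v * c⁻¹) := by
  have hq : (H.rep p)⁻¹ * c ∈ Q := (H.img_eq_iff (H.rep_comm p) hc).1 (by rw [H.img_rep, hp])
  rw [show c * v * c⁻¹ = H.rep p * (((H.rep p)⁻¹ * c) * v * ((H.rep p)⁻¹ * c)⁻¹) * (H.rep p)⁻¹ by group]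
  refine H.eqv_conj (H.rep_comm p) ?_
  exact H.ctr.conj_cases hq hv

theorem act_mul [Finite G] {v : G} (hv : v ∈ Q) (p r : P3) :
    Eqv t (H.act (p * r) v) (H.act p (H.act r v)) := by
  have := H.act_congr (comm_mul (H.rep_comm p) (H.rep_comm r)) hv
    (show H.img (H.rep p * H.rep r) = p * r by
      rw [H.img_mul (H.rep_comm p) (H.rep_comm r), H.img_rep, H.img_rep])
  rwa [conj_mul_eq] at this

theorem act_eqv {v w : G} (h : Eqv t v w) (p : P3) : Eqv t (H.act p v) (H.act p w) :=
  H.eqv_conj (H.rep_comm p) h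

theorem act_one [Finite G] {v : G} (hv : v ∈ Q) : Eqv t v (H.act 1 v) := by
  have := H.act_congr (c := 1) (by simp) hv H.img_one
  simp only [one_mul, inv_one, mul_one] at this
  exact H.eqv_symm this

theorem chi_act [Finite G] (p : P3) (v w : G) : chi (H.act p v) (H.act p w) = chi v w :=
  H.chi_conj_eq _ _ _

end eqv

namespace Base

variable [Finite G] {H : Hyp Q t} (B : H.Base)

/-- The fused involution. -/
abbrev a : G := B.g * t * B.g⁻¹

/-- The image of `m` over a subset. -/
def mS (δ : Fin 3 → Bool) : P3 := fun i => if δ i then B.m i else 1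

/-- The conjugates of `a` by the further transpositions, up to `t`. -/
noncomputable def v (δ : Fin 3 → Bool) : G := H.act (B.mS δ) B.a

/-- The image of the `i`-th involution. -/
def sI (i : Fin 3) : P3 := Function.update (1 : P3) i (B.s i)

/-- The image of the `i`-th further transposition. -/
def mI (i : Fin 3) : P3 := Function.update (1 : P3) i (B.m i)

theorem a_mem : B.a ∈ Q := B.pair.mem

theorem v_mem (δ : Fin 3 → Bool) : B.v δ ∈ Q := H.act_mem B.a_mem _

theorem img_x (i : Fin 3) : H.img (B.x i) = B.sI i := (B.hx i).2.2.2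

theorem x_inv (i : Fin 3) : (B.x i)⁻¹ = B.x i := inv_eq_of_mul_eq_one_right (B.hx i).2.2.1

theorem x_a (i : Fin 3) : B.x i * B.a = B.a * B.x i := H.ctr'.comm (B.hx i).1

/-- `x_i` fixes `a`. -/
theorem act_sI_a (i : Fin 3) : Eqv t B.a (H.act (B.sI i) B.a) := by
  have := H.act_congr (B.hx i).2.1 B.a_mem (B.img_x i)
  rw [mul_inv_eq_iff_eq_mul.2 (B.x_a i)] at this
  exact H.eqv_symm this

/-- An element fixing `a` up to `t` has its image among the products of the three transpositions. -/
theorem img_of_fix {c : G} (hc : c * t = t * c) (h : Eqv t B.a (c * B.a * c⁻¹)) (i : Fin 3) :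
    H.img c i = 1 ∨ H.img c i = B.s i := by
  rcases h with e | e
  · exact B.img_fix c hc (mul_inv_eq_iff_eq_mul.1 e) i
  · obtain ⟨q, hq, hqa⟩ := H.ctr.exists_move B.a_mem H.a_ne_one B.pair.ne
    have he : q * c * B.a * (q * c)⁻¹ = B.a := by
      rw [conj_mul_eq, e, show q * (t * B.a) * q⁻¹ = q * t * q⁻¹ * (q * B.a * q⁻¹) by group,
        H.ctr.conj_z hq, hqa, H.tt]
    have := B.img_fix (q * c) (comm_mul (H.comm_Q hq) hc) (mul_inv_eq_iff_eq_mul.1 he) i
    rwa [H.img_mul (H.comm_Q hq) hc, (H.img_iff (H.comm_Q hq)).2 hq, one_mul] at this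

theorem act_mI_a (i : Fin 3) : ¬ Eqv t B.a (H.act (B.mI i) B.a) := fun h => by
  have := B.img_of_fix (H.rep_comm _) h i
  rw [H.img_rep, mI, Function.update_self] at this
  rcases this with e | e
  · exact (B.hm i).1 e
  · exact (B.hm i).2.2 e

/-- Conjugation by `x_i` up to `t`. -/
theorem x_act (i : Fin 3) {v : G} (hv : v ∈ Q) : Eqv t (H.act (B.sI i) v) (B.x i * v * B.x i) := by
  have := H.act_congr (B.hx i).2.1 hv (B.img_x i)
  rwa [B.x_inv] at this

/-- On `W` the involution either fixes or multiplies by `a`. -/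
theorem x_W (i : Fin 3) {w : G} (hw : w ∈ Q ⊓ H.Qa B.g) :
    B.x i * w * B.x i = w ∨ B.x i * w * B.x i = B.a * w := by
  simpa [B.x_inv] using (H.ctr' (g := B.g)).conj_cases (B.hx i).1 hw.2

/-- Commutators of `C_Q(a)` with the involutions lie in `W`. -/
theorem comm_W (i : Fin 3) {v : G} (hv : v ∈ Q) (hva : chi B.a v = false) :
    B.x i * v * B.x i * v⁻¹ ∈ Q ⊓ H.Qa B.g := by
  refine ⟨?_, ?_⟩
  · have := H.ctr.conj_mem (B.hx i).2.1 hv
    rw [B.x_inv] at this
    exact Q.mul_mem this (Q.inv_mem hv)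
  · have hc : v * B.a = B.a * v := (chi_eq_false.1 hva).symm
    have := (H.ctr' (g := B.g)).conj_mem hc (B.hx i).1
    simpa [mul_assoc] using (H.Qa B.g).mul_mem (B.hx i).1 this

theorem x_notMem (i : Fin 3) : B.x i ∉ Q := fun h => by
  have := congrFun ((H.img_iff (B.hx i).2.1).2 h) i
  rw [B.img_x, sI, Function.update_self] at this
  exact (B.hs i).1 this

/-- An element of `W` fixed by the three involutions is `1` or `a` up to `t`. -/
theorem fixed_W {u : G} (hu : u ∈ Q ⊓ H.Qa B.g) (hfix : ∀ i, Eqv t u (B.x i * u * B.x i)) :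
    Eqv t 1 u ∨ Eqv t B.a u := by
  classical
  have hchi : ∀ i, chi (B.x i) u = false := by
    intro i
    refine chi_eq_false.2 ?_
    have hxu : B.x i * u * (B.x i)⁻¹ = u := by
      rw [B.x_inv]
      rcases B.x_W i hu with e | e
      · exact e
      · rcases hfix i with f | f
        · exact f
        · exact absurd (mul_right_cancel (f.symm.trans e)).symm B.pair.ne
    exact mul_inv_eq_iff_eq_mul.1 hxu
  have hall : ∀ w ∈ H.Qa B.g, w * t = t * w → w * u = u * w := by
    intro w hw hwt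
    have hwa : w * B.a = B.a * w := H.ctr'.comm hw
    let f : Fin 3 → G := fun i => if H.img w i = 1 then 1 else B.x i
    have hf : ∀ i, f i ∈ H.Qa B.g ∧ f i * t = t * f i ∧
        H.img (f i) = Function.update (1 : P3) i (H.img w i) ∧ chi (f i) u = false := by
      intro i
      by_cases e : H.img w i = 1
      · simp [f, e, H.img_one, one_mem, chi_eq_false]
      · have := (B.img_fix w hwt hwa i).resolve_left e
        refine ⟨by simp [f, e, (B.hx i).1], by simp [f, e, (B.hx i).2.1], ?_, by simp [f, e, hchi i]⟩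
        simp only [f, if_neg e, B.img_x, sI]
        rw [this]
    have hp : f 0 * f 1 * f 2 ∈ H.Qa B.g :=
      (H.Qa B.g).mul_mem ((H.Qa B.g).mul_mem (hf 0).1 (hf 1).1) (hf 2).1
    have hpt : f 0 * f 1 * f 2 * t = t * (f 0 * f 1 * f 2) :=
      comm_mul (comm_mul (hf 0).2.1 (hf 1).2.1) (hf 2).2.1
    have hq : (f 0 * f 1 * f 2)⁻¹ * w ∈ Q ⊓ H.Qa B.g := by
      refine ⟨(H.img_eq_iff hpt hwt).1 ?_, (H.Qa B.g).mul_mem ((H.Qa B.g).inv_mem hp) hw⟩
      rw [H.img_mul (comm_mul (hf 0).2.1 (hf 1).2.1) (hf 2).2.1, H.img_mul (hf 0).2.1 (hf 1).2.1,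
        (hf 0).2.2.1, (hf 1).2.2.1, (hf 2).2.2.1]
      funext i
      fin_cases i <;> simp [Function.update]
    refine chi_eq_false.1 ?_
    rw [show w = f 0 * f 1 * f 2 * ((f 0 * f 1 * f 2)⁻¹ * w) by group,
      chi_mul_left H.ctr' hp hq.2 hu.2, chi_mul_left H.ctr' ((H.Qa B.g).mul_mem (hf 0).1 (hf 1).1) (hf 2).1 hu.2,
      chi_mul_left H.ctr' (hf 0).1 (hf 1).1 hu.2, (hf 0).2.2.2, (hf 1).2.2.2, (hf 2).2.2.2,
      chi_eq_false.2 (FPair.W_comm H B.pair hq hu)]
    rfl
  rcases H.ctr'.double_centralizer (FPair.t_mem H B.pair) H.ctr.ne_one B.pair.ne.symm hu.2 hall with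
    e | e | e | e
  · exact Or.inl (Or.inl e)
  · exact Or.inr (Or.inl e)
  · exact Or.inl (Or.inr (by rw [mul_one]; exact e))
  · exact Or.inr (Or.inr (by rw [e]; exact H.comm_Q B.a_mem))

/-- `a` commutes with its conjugates by the further transpositions. -/
theorem chi_a_m (i : Fin 3) : chi B.a (H.act (B.mI i) B.a) = false := by
  rw [← Bool.not_eq_true]
  intro hb
  set b := H.act (B.mI i) B.a with hbdef
  have hbQ : b ∈ Q := H.act_mem B.a_mem _
  obtain ⟨j, hj⟩ : ∃ j : Fin 3, j ≠ i := exists_ne i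
  have hxb : Eqv t b (B.x j * b * B.x j) := by
    have h1 := B.x_act j hbQ
    have h2 := H.act_mul B.a_mem (B.sI j) (B.mI i)
    have h3 := H.act_mul B.a_mem (B.mI i) (B.sI j)
    have hc : B.sI j * B.mI i = B.mI i * B.sI j := by
      funext k
      simp only [sI, mI, Pi.mul_apply, Function.update_apply]
      split_ifs <;> simp_all
    rw [hc] at h2
    exact H.eqv_trans (H.act_eqv (B.act_sI_a j) (B.mI i))
      (H.eqv_trans (H.eqv_symm h3) (H.eqv_trans h2 h1))
  refine B.x_notMem j (FPair.mem_W H B.pair (B.hx j).1 fun w hw => ?_)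
  rw [← Bool.not_eq_true]
  intro hw'
  rcases B.x_W j hw with e | e
  · exact chi_eq_true.1 hw' (mul_inv_eq_iff_eq_mul.1 (by rw [B.x_inv]; exact e))
  · have h1 : chi (B.x j * w * B.x j) (B.x j * b * B.x j) = chi w b := by
      have := H.chi_conj_eq (B.x j) w b
      rwa [B.x_inv] at this
    have h2 : chi (B.a * w) (B.x j * b * B.x j) = chi (B.a * w) b := by
      rw [chi_comm, H.chi_eqv hxb hbQ (Q.mul_mem B.a_mem hw.1), chi_comm]
    rw [e, h2, chi_mul_left H.ctr B.a_mem hw.1 hbQ, hb] at h1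
    cases h : chi w b <;> simp [h] at h1

/-- The three conjugates of `a` under a factor multiply to one. -/
theorem act_sm (i : Fin 3) :
    Eqv t (B.a * H.act (B.mI i) B.a) (H.act (B.sI i) (H.act (B.mI i) B.a)) := by
  set b := H.act (B.mI i) B.a with hb
  have hbQ : b ∈ Q := H.act_mem B.a_mem _
  set c := H.act (B.sI i) b with hc
  have hcQ : c ∈ Q := H.act_mem hbQ _
  -- `m` fixes `c`
  have hbraid : B.mI i * B.sI i * B.mI i = B.sI i * B.mI i * B.sI i := by
    funext k
    simp only [sI, mI, Pi.mul_apply]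
    by_cases e : k = i
    · subst e
      simp only [Function.update_self]
      exact (perm3_braid _ (B.hs k).1 (B.hs k).2 _ (B.hm k).1 (B.hm k).2.1).symm
    · simp [e]
  have hmc : Eqv t c (H.act (B.mI i) c) := by
    have h1 := H.act_mul B.a_mem (B.mI i) (B.sI i * B.mI i)
    have h2 := H.act_mul B.a_mem (B.sI i * B.mI i) (B.sI i)
    have h3 := H.act_eqv (H.act_mul B.a_mem (B.sI i) (B.mI i)) (B.mI i)
    have h4 := H.act_eqv (B.act_sI_a i) (B.sI i * B.mI i)
    have h5 := H.act_mul B.a_mem (B.sI i) (B.mI i)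
    rw [← mul_assoc, hbraid] at h1
    -- `act m c ~ act (s m s) a ~ act (s m) a ~ c`
    exact H.eqv_symm (H.eqv_trans (H.eqv_trans (H.eqv_symm h3) (H.eqv_trans (H.eqv_symm h1)
      (H.eqv_trans h2 (H.eqv_symm h4)))) h5)
  have hmb : Eqv t B.a (H.act (B.mI i) b) := by
    have h1 := H.act_mul B.a_mem (B.mI i) (B.mI i)
    have e : B.mI i * B.mI i = 1 := by
      funext k
      simp only [mI, Pi.mul_apply]
      by_cases e : k = i
      · subst e; simpa using (B.hm k).2.1
      · simp [e]
    rw [e] at h1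
    exact H.eqv_trans (H.act_one B.a_mem) h1
  have hsc : Eqv t b (H.act (B.sI i) c) := by
    have h1 := H.act_mul hbQ (B.sI i) (B.sI i)
    have e : B.sI i * B.sI i = 1 := by
      funext k
      simp only [sI, Pi.mul_apply]
      by_cases e : k = i
      · subst e; simpa using (B.hs k).2
      · simp [e]
    rw [e] at h1
    exact H.eqv_trans (H.act_one hbQ) h1
  -- commutations
  have cab : chi B.a b = false := B.chi_a_m i
  have cac : chi B.a c = false := by
    rw [← cab, ← H.chi_act (B.sI i) B.a b, ← hc, H.chi_eqv (B.act_sI_a i) B.a_mem hcQ]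
  have cbc : chi b c = false := by
    have h := H.chi_act (B.mI i) B.a c
    rw [← hb, cac, chi_comm, H.chi_eqv hmc hcQ hbQ, chi_comm] at h
    exact h
  have eab : B.a * b = b * B.a := chi_eq_false.1 cab
  have ebc : b * c = c * b := chi_eq_false.1 cbc
  have eac : B.a * c = c * B.a := chi_eq_false.1 cac
  have ha2 : B.a * B.a = 1 := (H.ctr' (g := B.g)).zz
  have hbb : b * b = 1 := by
    rw [hb, act, show H.rep (B.mI i) * B.a * (H.rep (B.mI i))⁻¹ * (H.rep (B.mI i) * B.a * (H.rep (B.mI i))⁻¹) =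
      H.rep (B.mI i) * (B.a * B.a) * (H.rep (B.mI i))⁻¹ by group, ha2]
    group
  set u := B.a * b * c with hu
  have huQ : u ∈ Q := Q.mul_mem (Q.mul_mem B.a_mem hbQ) hcQ
  have huW : u ∈ Q ⊓ H.Qa B.g := by
    have h1 := B.comm_W i hbQ cab
    have h2 : Eqv t (B.x i * b * B.x i * b⁻¹) (c * b⁻¹) :=
      H.eqv_mul (H.comm_Q (by have := H.ctr.conj_mem (B.hx i).2.1 hbQ; rwa [B.x_inv] at this))
        (H.eqv_symm (B.x_act i hbQ)) (Eqv.refl _ _)
    have h3 := H.eqv_mem_W B.pair h2 h1
    rw [hu, mul_assoc, ebc]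
    refine (Q ⊓ H.Qa B.g).mul_mem (FPair.a_mem_W H B.pair) ?_
    rwa [inv_eq_of_mul_eq_one_right hbb] at h3
  -- `u` is fixed by the involutions
  have hufix : ∀ j, Eqv t u (B.x j * u * B.x j) := by
    intro j
    refine H.eqv_trans ?_ (B.x_act j huQ)
    have hsplit : H.act (B.sI j) u = H.act (B.sI j) B.a * H.act (B.sI j) b * H.act (B.sI j) c := by
      rw [hu]; simp only [act]; group
    rw [hsplit]
    by_cases hj : j = i
    · subst hj
      rw [hu, mul_assoc, ebc, ← mul_assoc]
      exact H.eqv_mul (H.comm_Q (Q.mul_mem B.a_mem hcQ))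
        (H.eqv_mul (H.comm_Q B.a_mem) (B.act_sI_a j) (Eqv.refl _ _)) hsc
    · have hcomm : ∀ p ∈ [B.mI i, B.sI i], B.sI j * p = p * B.sI j := by
        intro p hp
        funext k
        simp only [List.mem_cons, List.not_mem_nil, or_false] at hp
        rcases hp with rfl | rfl <;> simp only [sI, mI, Pi.mul_apply, Function.update_apply] <;>
          split_ifs <;> simp_all
      have fb : Eqv t b (H.act (B.sI j) b) := by
        have h2 := H.act_mul B.a_mem (B.sI j) (B.mI i)
        have h3 := H.act_mul B.a_mem (B.mI i) (B.sI j)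
        rw [hcomm _ (by simp)] at h2
        exact H.eqv_trans (H.act_eqv (B.act_sI_a j) (B.mI i)) (H.eqv_trans (H.eqv_symm h3) h2)
      have fc : Eqv t c (H.act (B.sI j) c) := by
        have h2 := H.act_mul hbQ (B.sI j) (B.sI i)
        have h3 := H.act_mul hbQ (B.sI i) (B.sI j)
        rw [hcomm _ (by simp)] at h2
        exact H.eqv_trans (H.act_eqv fb (B.sI i)) (H.eqv_trans (H.eqv_symm h3) h2)
      exact H.eqv_mul (H.comm_Q (Q.mul_mem B.a_mem hbQ))
        (H.eqv_mul (H.comm_Q B.a_mem) (B.act_sI_a j) fb) fc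
  rcases B.fixed_W huW hufix with h | h
  · -- the product is one
    have : Eqv t (B.a * b * 1) (B.a * b * u) := H.eqv_mul (H.comm_Q (Q.mul_mem B.a_mem hbQ)) (Eqv.refl _ _) h
    rw [mul_one, hu, ← mul_assoc (B.a * b), show B.a * b * (B.a * b) = 1 by
      rw [mul_assoc, ← mul_assoc b, ← eab, mul_assoc B.a, hbb, mul_one, ha2], one_mul] at this
    exact this
  · -- otherwise `m` fixes `a`
    exfalso
    have hbc : Eqv t b c := by
      have : Eqv t (b * B.a * B.a) (b * B.a * u) :=
        H.eqv_mul (H.comm_Q (Q.mul_mem hbQ B.a_mem)) (Eqv.refl _ _) h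
      rw [mul_assoc, ha2, mul_one, hu, ← mul_assoc (b * B.a), ← eab, show B.a * b * (B.a * b) = 1 by
        rw [mul_assoc, ← mul_assoc b, ← eab, mul_assoc B.a, hbb, mul_one, ha2], one_mul] at this
      exact this
    refine B.act_mI_a i (H.eqv_trans hmb ?_)
    exact H.eqv_trans (H.act_eqv hbc (B.mI i)) (H.eqv_symm (H.eqv_trans hbc hmc))

theorem mS_none : B.mS (fun _ => false) = 1 := rfl

theorem mS_single (i : Fin 3) : B.mS (fun j => decide (j = i)) = B.mI i := by
  funext j
  by_cases h : j = i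
  · subst h; simp [mS, mI]
  · simp [mS, mI, h]

theorem mS_mul (δ ε : Fin 3 → Bool) : B.mS δ * B.mS ε = B.mS fun i => xor (δ i) (ε i) := by
  funext i
  simp only [mS, Pi.mul_apply]
  rcases Bool.eq_false_or_eq_true (δ i) with h | h <;> rcases Bool.eq_false_or_eq_true (ε i) with h' | h' <;>
    simp [h, h', (B.hm i).2.1]

theorem v_none : Eqv t B.a (B.v fun _ => false) := by
  rw [v, mS_none]
  exact H.act_one B.a_mem

/-- The further transpositions permute the classes. -/
theorem act_mS_v (δ ε : Fin 3 → Bool) : Eqv t (B.v fun i => xor (δ i) (ε i)) (H.act (B.mS δ) (B.v ε)) := by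
  rw [v, ← mS_mul]
  exact H.act_mul B.a_mem _ _

theorem x_v_out {δ : Fin 3 → Bool} {i : Fin 3} (h : δ i = false) :
    Eqv t (B.v δ) (B.x i * B.v δ * B.x i) := by
  refine H.eqv_trans ?_ (B.x_act i (B.v_mem δ))
  have h2 := H.act_mul B.a_mem (B.sI i) (B.mS δ)
  have h3 := H.act_mul B.a_mem (B.mS δ) (B.sI i)
  have hc : B.sI i * B.mS δ = B.mS δ * B.sI i := by
    funext k
    simp only [sI, mS, Pi.mul_apply, Function.update_apply]
    by_cases e : k = i
    · subst e; simp [h]
    · simp [e]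
  rw [hc] at h2
  exact H.eqv_trans (H.act_eqv (B.act_sI_a i) (B.mS δ)) (H.eqv_trans (H.eqv_symm h3) h2)

theorem x_v_in {δ : Fin 3 → Bool} {i : Fin 3} (h : δ i = true) :
    Eqv t (B.v (Function.update δ i false) * B.v δ) (B.x i * B.v δ * B.x i) := by
  refine H.eqv_trans ?_ (B.x_act i (B.v_mem δ))
  set δ' := Function.update δ i false
  have e1 : B.mS δ = B.mS δ' * B.mI i := by
    funext k
    simp only [mS, mI, δ', Pi.mul_apply]
    by_cases e : k = i
    · subst e; simp [h]
    · simp [e]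
  have hc : B.sI i * B.mS δ' = B.mS δ' * B.sI i := by
    funext k
    simp only [sI, mS, δ', Pi.mul_apply]
    by_cases e : k = i
    · subst e; simp
    · simp [e]
  set b := H.act (B.mI i) B.a with hb
  have hbQ : b ∈ Q := H.act_mem B.a_mem _
  have hv : Eqv t (B.v δ) (H.act (B.mS δ') b) := by
    rw [v, e1]; exact H.act_mul B.a_mem _ _
  have hsplit : H.act (B.mS δ') (B.a * b) = B.v δ' * H.act (B.mS δ') b := by
    simp only [v, act]; group
  have h1 : Eqv t (B.v δ' * B.v δ) (H.act (B.mS δ') (B.a * b)) := by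
    rw [hsplit]; exact H.eqv_mul (H.comm_Q (B.v_mem _)) (Eqv.refl _ _) hv
  have h2 := H.act_eqv (B.act_sm i) (B.mS δ')
  have h3 := H.act_mul hbQ (B.mS δ') (B.sI i)
  have h4 := H.act_mul hbQ (B.sI i) (B.mS δ')
  rw [← hc] at h3
  exact H.eqv_trans h1 (H.eqv_trans h2 (H.eqv_trans (H.eqv_symm h3)
    (H.eqv_trans h4 (H.act_eqv (H.eqv_symm hv) (B.sI i)))))

/-- The pairing with `a`. -/
noncomputable def f (δ : Fin 3 → Bool) : Bool := chi B.a (B.v δ)

theorem chi_v (δ ε : Fin 3 → Bool) : chi (B.v δ) (B.v ε) = B.f fun i => xor (δ i) (ε i) := by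
  have h1 := H.chi_act (B.mS δ) (B.v δ) (B.v ε)
  have ha : Eqv t B.a (H.act (B.mS δ) (B.v δ)) := by
    have := B.act_mS_v δ δ
    simp only [Bool.xor_self] at this
    exact H.eqv_trans B.v_none this
  rw [H.chi_eqv ha B.a_mem (H.act_mem (B.v_mem ε) _), chi_comm, H.chi_eqv (B.act_mS_v δ ε) (B.v_mem _) B.a_mem,
    chi_comm] at h1
  exact h1.symm

theorem f_none : B.f (fun _ => false) = false := by
  rw [f, chi_comm, H.chi_eqv B.v_none B.a_mem B.a_mem]
  exact chi_self _

theorem f_single (i : Fin 3) : B.f (fun j => decide (j = i)) = false := by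
  rw [f, v, mS_single]
  exact B.chi_a_m i

/-- The indicator of two indices. -/
def two (i j : Fin 3) : Fin 3 → Bool := fun k => decide (k = i) || decide (k = j)

theorem v_single_ne_one (i : Fin 3) : ¬ Eqv t 1 (B.v fun j => decide (j = i)) := by
  intro h
  have h1 := B.act_mS_v (fun j => decide (j = i)) (fun j => decide (j = i))
  simp only [Bool.xor_self] at h1
  have h2 : Eqv t (1 : G) B.a := by
    have h3 := H.act_eqv h (B.mS fun j => decide (j = i))
    have h4 : H.act (B.mS fun j => decide (j = i)) 1 = 1 := by simp [act]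
    rw [h4] at h3
    exact H.eqv_trans h3 (H.eqv_symm (H.eqv_trans B.v_none h1))
  rcases h2 with e | e
  · exact H.a_ne_one e
  · exact B.pair.ne (e.trans (mul_one t))

theorem v_single_ne_a (i : Fin 3) : ¬ Eqv t B.a (B.v fun j => decide (j = i)) := by
  rw [v, mS_single]
  exact B.act_mI_a i

theorem v_single_mem_W {i j k : Fin 3} (hji : j ≠ i) (hki : k ≠ i) (hjk : j ≠ k) :
    B.v (fun l => decide (l = i)) ∈ Q ⊓ H.Qa B.g := by
  have hvi := B.v_mem fun l => decide (l = i)
  have hupd : ∀ {j}, j ≠ i → Function.update (two i j) j false = fun l => decide (l = i) := by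
    intro j hj
    funext l
    by_cases e : l = j
    · subst e; simp [hj]
    · simp [two, e]
  -- from a commutator
  have fin : ∀ {w : G} {j : Fin 3}, w ∈ Q → chi B.a w = false →
      Eqv t (B.v (fun l => decide (l = i)) * w) (B.x j * w * B.x j) →
      B.v (fun l => decide (l = i)) ∈ Q ⊓ H.Qa B.g := by
    intro w j hw hwa h
    have h1 := B.comm_W j hw hwa
    have hxw : B.x j * w * B.x j ∈ Q := by
      have := H.ctr.conj_mem (B.hx j).2.1 hw
      rwa [B.x_inv] at this
    have h2 : Eqv t (B.x j * w * B.x j * w⁻¹) (B.v (fun l => decide (l = i)) * w * w⁻¹) :=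
      H.eqv_mul (H.comm_Q hxw) (H.eqv_symm h) (Eqv.refl _ _)
    rw [mul_inv_cancel_right] at h2
    exact H.eqv_mem_W B.pair h2 h1
  have hin : ∀ {j}, j ≠ i →
      Eqv t (B.v (fun l => decide (l = i)) * B.v (two i j)) (B.x j * B.v (two i j) * B.x j) := by
    intro j hj
    rw [← hupd hj]
    exact B.x_v_in (by simp [two])
  cases ej : B.f (two i j)
  · exact fin (B.v_mem _) ej (hin hji)
  cases ek : B.f (two i k)
  · exact fin (B.v_mem _) ek (hin hki)
  refine fin (w := B.v (two i j) * B.v (two i k)) (j := j) (Q.mul_mem (B.v_mem _) (B.v_mem _)) ?_ ?_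
  · rw [chi_mul_right H.ctr (B.v_mem _) (B.v_mem _) B.a_mem]
    change xor (B.f (two i j)) (B.f (two i k)) = false
    rw [ej, ek]; rfl
  · rw [← mul_assoc (B.v _) (B.v (two i j)),
      show B.x j * (B.v (two i j) * B.v (two i k)) * B.x j =
        B.x j * B.v (two i j) * (B.x j * B.x j) * B.v (two i k) * B.x j by rw [(B.hx j).2.2.1]; group,
      show B.x j * B.v (two i j) * (B.x j * B.x j) * B.v (two i k) * B.x j =
        B.x j * B.v (two i j) * B.x j * (B.x j * B.v (two i k) * B.x j) by group]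
    exact H.eqv_mul (H.comm_Q (Q.mul_mem hvi (B.v_mem _))) (hin hji) (B.x_v_out (by simp [two, hji, hjk]))

/-- The pairing. -/
theorem f_eq (δ : Fin 3 → Bool) : B.f δ = (δ 0 && δ 1 && δ 2) := by
  have hpair : ∀ {i j k : Fin 3}, j ≠ i → k ≠ i → j ≠ k → B.f (two i j) = false := by
    intro i j k hji hki hjk
    have h1 := B.v_single_mem_W hji hki hjk
    have h2 := B.v_single_mem_W (i := j) (j := i) (k := k) hji.symm hjk.symm hki.symm
    have := chi_eq_false.2 (FPair.W_comm H B.pair h1 h2)
    rw [B.chi_v] at this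
    rw [← this]
    congr 1
    funext l
    by_cases e1 : l = i <;> by_cases e2 : l = j <;> simp_all [two]
  have e01 := hpair (i := 0) (j := 1) (k := 2) (by decide) (by decide) (by decide)
  have e02 := hpair (i := 0) (j := 2) (k := 1) (by decide) (by decide) (by decide)
  have e12 := hpair (i := 1) (j := 2) (k := 0) (by decide) (by decide) (by decide)
  have hall : B.f (fun _ => true) = true := by
    rw [← Bool.not_eq_false]
    intro hf
    have hupd : Function.update (fun _ : Fin 3 => true) 0 false = two 1 2 := by decide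
    have hxin := B.x_v_in (δ := fun _ => true) (i := 0) rfl
    rw [hupd] at hxin
    have h1 := B.comm_W 0 (B.v_mem fun _ => true) hf
    have hxw : B.x 0 * B.v (fun _ => true) * B.x 0 ∈ Q := by
      have := H.ctr.conj_mem (B.hx 0).2.1 (B.v_mem fun _ => true)
      rwa [B.x_inv] at this
    have h2 : Eqv t (B.x 0 * B.v (fun _ => true) * B.x 0 * (B.v fun _ => true)⁻¹)
        (B.v (two 1 2) * B.v (fun _ => true) * (B.v fun _ => true)⁻¹) :=
      H.eqv_mul (H.comm_Q hxw) (H.eqv_symm hxin) (Eqv.refl _ _)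
    rw [mul_inv_cancel_right] at h2
    have hW := H.eqv_mem_W B.pair h2 h1
    have hupd' : Function.update (two (1 : Fin 3) 2) 1 false = fun l => decide (l = 2) := by decide
    have hx1 := B.x_v_in (δ := two 1 2) (i := 1) (by decide)
    rw [hupd'] at hx1
    have hc : ∀ y, Eqv t (B.v (fun l => decide (l = 2)) * B.v (two 1 2)) (y * B.v (two 1 2)) →
        Eqv t (B.v (fun l => decide (l = 2))) y := by
      intro y h
      rcases h with e | e
      · exact Or.inl (mul_right_cancel e)
      · right; rw [← mul_assoc] at e; exact mul_right_cancel e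
    rcases B.x_W 1 hW with e | e <;> rw [e] at hx1
    · refine B.v_single_ne_one 2 (H.eqv_symm (hc 1 ?_))
      rwa [one_mul]
    · exact B.v_single_ne_a 2 (H.eqv_symm (hc B.a hx1))
  have hcase : ∀ δ : Fin 3 → Bool, δ = (fun _ => false) ∨ δ = (fun j => decide (j = 0)) ∨
      δ = (fun j => decide (j = 1)) ∨ δ = (fun j => decide (j = 2)) ∨ δ = two 0 1 ∨ δ = two 0 2 ∨
      δ = two 1 2 ∨ δ = fun _ => true := by decide
  rcases hcase δ with e | e | e | e | e | e | e | e <;> subst e
  · rw [B.f_none]; rfl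
  · rw [B.f_single]; rfl
  · rw [B.f_single]; rfl
  · rw [B.f_single]; rfl
  · rw [e01]; rfl
  · rw [e02]; rfl
  · rw [e12]; rfl
  · rw [hall]; rfl

/-- The coordinate at `δ` of the class of `w`. -/
noncomputable def co (w : G) (δ : Fin 3 → Bool) : Bool := chi w (B.v fun i => !δ i)

theorem co_v (ε δ : Fin 3 → Bool) : B.co (B.v ε) δ = decide (ε = δ) := by
  rw [co, B.chi_v, B.f_eq]
  revert ε δ
  decide

theorem co_mul {w w' : G} (hw : w ∈ Q) (hw' : w' ∈ Q) (δ : Fin 3 → Bool) :
    B.co (w * w') δ = xor (B.co w δ) (B.co w' δ) := chi_mul_left H.ctr hw hw' (B.v_mem _)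

theorem co_one (δ : Fin 3 → Bool) : B.co 1 δ = false := chi_eq_false.2 (by simp)

/-- The product with given coordinates. -/
noncomputable def combo (κ : (Fin 3 → Bool) → Bool) : G :=
  ([![false, false, false], ![true, false, false], ![false, true, false], ![false, false, true],
    ![true, true, false], ![true, false, true], ![false, true, true], ![true, true, true]].map
      fun ε => if κ ε then B.v ε else 1).prod

theorem combo_mem (κ : (Fin 3 → Bool) → Bool) : B.combo κ ∈ Q := by
  refine list_prod_mem fun y hy => ?_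
  obtain ⟨ε, -, rfl⟩ := List.mem_map.1 hy
  split_ifs
  · exact B.v_mem ε
  · exact Q.one_mem

theorem co_combo (κ : (Fin 3 → Bool) → Bool) (δ : Fin 3 → Bool) : B.co (B.combo κ) δ = κ δ := by
  have hl : ∀ l : List (Fin 3 → Bool), B.co ((l.map fun ε => if κ ε then B.v ε else 1).prod) δ =
      l.foldr (fun ε b => xor (κ ε && decide (ε = δ)) b) false := by
    intro l
    induction l with
    | nil => exact B.co_one δ
    | cons ε l ih =>
      have hm : (l.map fun ε => if κ ε then B.v ε else 1).prod ∈ Q := by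
        refine list_prod_mem fun y hy => ?_
        obtain ⟨ε', -, rfl⟩ := List.mem_map.1 hy
        split_ifs
        · exact B.v_mem ε'
        · exact Q.one_mem
      rw [List.map_cons, List.prod_cons, List.foldr_cons, ← ih, B.co_mul (by split_ifs <;> simp [B.v_mem, one_mem]) hm]
      cases κ ε
      · simp [B.co_one]
      · simp [B.co_v]
  rw [combo, hl]
  have hcase : ∀ δ : Fin 3 → Bool, δ = ![false, false, false] ∨ δ = ![true, false, false] ∨
      δ = ![false, true, false] ∨ δ = ![false, false, true] ∨ δ = ![true, true, false] ∨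
      δ = ![true, false, true] ∨ δ = ![false, true, true] ∨ δ = ![true, true, true] := by decide
  rcases hcase δ with e | e | e | e | e | e | e | e <;> subst e <;> simp [List.foldr]

/-- Elements with the same coordinates agree up to `t`. -/
theorem eqv_of_co {w w' : G} (hw : w ∈ Q) (hw' : w' ∈ Q) (h : ∀ δ, B.co w δ = B.co w' δ) : Eqv t w w' := by
  classical
  haveI : Fact (Nat.Prime 2) := ⟨Nat.prime_two⟩
  -- the coordinates are onto, so their kernel is the centre
  let C : ↥Q →* ((Fin 3 → Bool) → Multiplicative (ZMod 2)) :=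
    { toFun := fun y δ => Multiplicative.ofAdd (if B.co y δ then 1 else 0)
      map_one' := by funext δ; simp [B.co_one]
      map_mul' := fun y y' => by
        funext δ
        simp only [Subgroup.coe_mul, B.co_mul y.2 y'.2, Pi.mul_apply, ← ofAdd_add]
        cases B.co y δ <;> cases B.co y' δ <;> rfl }
  have hCsurj : Function.Surjective C := fun κ =>
    ⟨⟨B.combo fun δ => decide (Multiplicative.toAdd (κ δ) = 1), B.combo_mem _⟩, by
      funext δ
      show Multiplicative.ofAdd (if B.co (B.combo fun δ' => decide (Multiplicative.toAdd (κ δ') = 1)) δ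
        then (1 : ZMod 2) else 0) = κ δ
      rw [B.co_combo]
      exact zmod2_bit _⟩
  have hker2 : Nat.card ↥C.ker = 2 := by
    have h1 := card_eq_card_quotient_mul_card_subgroup C.ker
    rw [Nat.card_congr (QuotientGroup.quotientKerEquivOfSurjective C hCsurj).toEquiv, H.card] at h1
    have h2 : Nat.card ((Fin 3 → Bool) → Multiplicative (ZMod 2)) = 256 := by
      simp [Nat.card_eq_fintype_card, Fintype.card_pi]
    rw [h2] at h1
    omega
  have ht : (⟨t, H.ctr.z_mem⟩ : ↥Q) ∈ C.ker := by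
    rw [MonoidHom.mem_ker]
    funext δ
    show Multiplicative.ofAdd (if chi t (B.v _) then (1 : ZMod 2) else 0) = 1
    rw [H.chi_t (B.v_mem _)]; rfl
  have hker : ∀ y ∈ C.ker, (y : G) = 1 ∨ (y : G) = t := by
    intro y hy
    by_contra hc
    push Not at hc
    have h3 : 3 ≤ Nat.card ↥C.ker := by
      rw [show Nat.card ↥C.ker = (C.ker : Set ↥Q).ncard from Nat.card_coe_set_eq _]
      have hs : ({1, ⟨t, H.ctr.z_mem⟩, y} : Set ↥Q) ⊆ C.ker := by
        intro z hz
        rcases hz with rfl | rfl | rfl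
        · exact C.ker.one_mem
        · exact ht
        · exact hy
      refine le_trans ?_ (Set.ncard_le_ncard hs)
      rw [Set.ncard_insert_of_notMem ?_, Set.ncard_pair]
      · exact fun e => hc.2 (congrArg Subtype.val e).symm
      · rintro (e | e)
        · exact H.ctr.ne_one (congrArg Subtype.val e).symm
        · exact hc.1 (congrArg Subtype.val e).symm
    omega
  have hmem : (⟨w, hw⟩ : ↥Q)⁻¹ * ⟨w', hw'⟩ ∈ C.ker := by
    rw [MonoidHom.mem_ker, map_mul, map_inv, inv_mul_eq_one]
    funext δ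
    show Multiplicative.ofAdd (if B.co w δ then (1 : ZMod 2) else 0) =
      Multiplicative.ofAdd (if B.co w' δ then (1 : ZMod 2) else 0)
    rw [h δ]
  rcases hker _ hmem with e | e
  · exact Or.inl (inv_mul_eq_one.1 e).symm
  · exact Or.inr (by rw [← H.comm_Q hw]; exact inv_mul_eq_iff_eq_mul.1 e)

/-- The involutions in coordinates. -/
theorem co_x (i : Fin 3) {w : G} (hw : w ∈ Q) (δ : Fin 3 → Bool) :
    B.co (B.x i * w * B.x i) δ = xor (B.co w δ) (!δ i && B.co w (Function.update δ i true)) := by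
  set ε : Fin 3 → Bool := fun k => !δ k with hε
  have hpull : chi (B.x i * w * B.x i) (B.v ε) = chi w (B.x i * B.v ε * B.x i) := by
    have h := H.chi_conj_eq (B.x i) w (B.x i * B.v ε * B.x i)
    rw [B.x_inv, show B.x i * (B.x i * B.v ε * B.x i) * B.x i =
      B.x i * B.x i * B.v ε * (B.x i * B.x i) by group, (B.hx i).2.2.1, one_mul, mul_one] at h
    exact h
  show chi (B.x i * w * B.x i) (B.v ε) = _
  rw [hpull]
  cases hδ : δ i
  · have hεi : ε i = true := by simp [hε, hδ]
    rw [chi_comm, H.chi_eqv (B.x_v_in hεi) (Q.mul_mem (B.v_mem _) (B.v_mem _)) hw, chi_comm,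
      chi_mul_right H.ctr (B.v_mem _) (B.v_mem _) hw, Bool.xor_comm]
    congr 1
    show chi w (B.v (Function.update ε i false)) = (!false && chi w (B.v fun k => !Function.update δ i true k))
    rw [Bool.not_false, Bool.true_and]
    congr 2
    funext k
    by_cases e : k = i
    · subst e; simp
    · simp [hε, e]
  · have hεi : ε i = false := by simp [hε, hδ]
    rw [chi_comm, H.chi_eqv (B.x_v_out hεi) (B.v_mem _) hw, chi_comm]
    simp [co, hε]

end Base

end Hyp

end Cfsg.Agent.OmegaEightInv
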