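import Cfsg.Agent.Lib.OmegaEightInv.Setting

/-!
If some conjugate of `t` other than `t` commutes with `t`, one lies in `Q`.

Otherwise let `u = g t g⁻¹`, `D = Q ∩ Q_u`. If `u` inverts an element of order four of `Q`, all these
elements are commutators `[q, u]`, so some `u d` is conjugate to `u` in `Q_u`. Otherwise every `t d u`
is conjugate to `u`, so `|D| = 4` and some element of `C` permutes three of them cyclically while
normalising a subgroup with a Sylow image in `C/Q`.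
-/

set_option autoImplicit false
set_option linter.style.haveILetI false

namespace Cfsg.Agent.OmegaEightInv

open Subgroup Cfsg.Agent.LargeExtra

variable {G : Type*} [Group G]

/-- Conjugation of a product. -/
theorem conj_mul_eq (a b x : G) : a * b * x * (a * b)⁻¹ = a * (b * x * b⁻¹) * a⁻¹ := by group

/-- Conjugation is multiplicative. -/
theorem conj_three (q a b c : G) :
    q * (a * b * c) * q⁻¹ = q * a * q⁻¹ * (q * b * q⁻¹) * (q * c * q⁻¹) := by group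

namespace Hyp

variable {Q : Subgroup G} {t : G} (H : Hyp Q t)

/-- No conjugate of `t` other than `t` in `Q`. -/
def NoFuse (_H : Hyp Q t) : Prop := ∀ g : G, g * t * g⁻¹ ∈ Q → g * t * g⁻¹ = t

/-- `C_Q(u)`. -/
def EE (_H : Hyp Q t) (g : G) : Subgroup G := Q ⊓ centralizer ({g * t * g⁻¹} : Set G)

/-- `C_Q(u) ∩ Q_u`. -/
def DD (H : Hyp Q t) (g : G) : Subgroup G := H.EE g ⊓ Q.comap (MulAut.conj g⁻¹).toMonoidHom

include H

theorem mem_EE {g x : G} : x ∈ H.EE g ↔ x ∈ Q ∧ x * (g * t * g⁻¹) = g * t * g⁻¹ * x := by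
  rw [EE, mem_inf, mem_centralizer_singleton_iff]

theorem mem_DD {g x : G} : x ∈ H.DD g ↔ x ∈ H.EE g ∧ g⁻¹ * x * g ∈ Q := by
  rw [DD, mem_inf, mem_comap]
  simp [mul_assoc]

/-- A conjugate of `t` commuting with it, outside `Q`. -/
structure Pt (H : Hyp Q t) (g : G) : Prop where
  mem : g * t * g⁻¹ * t = t * (g * t * g⁻¹)
  ne : g * t * g⁻¹ ≠ t

theorem Pt.inv {g : G} (P : H.Pt g) : H.Pt g⁻¹ := by
  refine ⟨?_, fun e => P.ne ?_⟩
  · calc g⁻¹ * t * g⁻¹⁻¹ * t = g⁻¹ * (t * (g * t * g⁻¹)) * g := by group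
      _ = g⁻¹ * (g * t * g⁻¹ * t) * g := by rw [P.mem]
      _ = _ := by group
  · rw [inv_inv] at e
    calc g * t * g⁻¹ = g * (g⁻¹ * t * g) * g⁻¹ := by rw [e]
      _ = t := by group

variable {g : G}

theorem u_sq : g * t * g⁻¹ * (g * t * g⁻¹) = 1 := by
  rw [show g * t * g⁻¹ * (g * t * g⁻¹) = g * (t * t) * g⁻¹ by group, H.ctr.zz]
  group

theorem Pt.u_notMem (P : H.Pt g) (hn : H.NoFuse) : g * t * g⁻¹ ∉ Q := fun h => P.ne (hn g h)

theorem Pt.t_notMem (P : H.Pt g) (hn : H.NoFuse) : g⁻¹ * t * g ∉ Q := fun h =>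
  (Pt.inv H P).ne (hn g⁻¹ (by simpa using h))

/-- A conjugate of `t` in `Q_u` is `u`. -/
theorem eq_u (hn : H.NoFuse) {k : G} (hk : g⁻¹ * (k * t * k⁻¹) * g ∈ Q) :
    k * t * k⁻¹ = g * t * g⁻¹ := by
  have h := hn (g⁻¹ * k) (by simpa [mul_assoc] using hk)
  calc k * t * k⁻¹ = g * (g⁻¹ * k * t * (g⁻¹ * k)⁻¹) * g⁻¹ := by group
    _ = _ := by rw [h]

variable [Finite G]

/-- `C_Q(u)` is elementary abelian. -/
theorem Pt.sq_one (P : H.Pt g) (hn : H.NoFuse) {x : G} (hx : x ∈ H.EE g) : x * x = 1 := by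
  obtain ⟨hxQ, hxu⟩ := H.mem_EE.1 hx
  refine (H.ctr.sq_cases hxQ).resolve_right fun e => Pt.t_notMem H P hn ?_
  obtain ⟨k, hk⟩ := H.ctr.pgroup ⟨x, hxQ⟩
  have hcomm : g⁻¹ * x * g * t = t * (g⁻¹ * x * g) := by
    calc g⁻¹ * x * g * t = g⁻¹ * (x * (g * t * g⁻¹)) * g := by group
      _ = _ := by rw [hxu]; group
  have h2 : (g⁻¹ * x * g) ^ 2 ^ k = 1 := by
    have h : x ^ 2 ^ k = 1 := by simpa using congrArg Subtype.val hk
    rw [show g⁻¹ * x * g = g⁻¹ * x * g⁻¹⁻¹ by rw [inv_inv], conj_pow, h]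
    group
  have h3 := H.sq_mem hcomm h2
  rwa [show g⁻¹ * x * g * (g⁻¹ * x * g) = g⁻¹ * (x * x) * g by group, e] at h3

theorem Pt.comm (P : H.Pt g) (hn : H.NoFuse) {x y : G} (hx : x ∈ H.EE g) (hy : y ∈ H.EE g) :
    x * y = y * x := by
  have h1 := Pt.sq_one H P hn hx
  have h2 := Pt.sq_one H P hn hy
  have h3 := Pt.sq_one H P hn ((H.EE g).mul_mem hx hy)
  calc x * y = (x * y)⁻¹ := (inv_eq_of_mul_eq_one_right h3).symm
    _ = y⁻¹ * x⁻¹ := mul_inv_rev x y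
    _ = y * x := by rw [inv_eq_of_mul_eq_one_right h1, inv_eq_of_mul_eq_one_right h2]

theorem EE_le : H.EE g ≤ Q := fun _ hx => (H.mem_EE.1 hx).1

/-- The commutator with `u`. -/
theorem f_mem (P : H.Pt g) {q : G} (hq : q ∈ Q) :
    q * (g * t * g⁻¹) * q⁻¹ * (g * t * g⁻¹)⁻¹ ∈ Q := by
  have := Q.mul_mem hq (H.ctr.conj_mem P.mem (Q.inv_mem hq))
  simpa [mul_assoc] using this

/-- The commutators `[q, u]`. -/
def FF (H : Hyp Q t) (g : G) : Set G :=
  (fun q => q * (g * t * g⁻¹) * q⁻¹ * (g * t * g⁻¹)⁻¹) '' (Q : Set G)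

theorem card_FF : (H.FF g).ncard * Nat.card ↥(H.EE g) = 512 := by
  classical
  set u := g * t * g⁻¹
  set E' := (H.EE g).subgroupOf Q
  have hE : Nat.card ↥E' = Nat.card ↥(H.EE g) :=
    Nat.card_congr (subgroupOfEquivOfLe H.EE_le).toEquiv
  have hf : ∀ q r : ↥Q, (q : G) * u * (q : G)⁻¹ * u⁻¹ = (r : G) * u * (r : G)⁻¹ * u⁻¹ ↔ q⁻¹ * r ∈ E' := by
    intro q r
    rw [mul_left_inj, mem_subgroupOf, H.mem_EE]
    constructor
    · intro e
      refine ⟨Q.mul_mem (Q.inv_mem q.2) r.2, ?_⟩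
      show (q : G)⁻¹ * r * u = u * ((q : G)⁻¹ * r)
      calc (q : G)⁻¹ * r * u = (q : G)⁻¹ * ((r : G) * u * (r : G)⁻¹) * r := by group
        _ = _ := by rw [← e]; group
    · rintro ⟨-, e⟩
      change (q : G)⁻¹ * r * u = u * ((q : G)⁻¹ * r) at e
      calc (q : G) * u * (q : G)⁻¹ = q * (u * ((q : G)⁻¹ * r)) * (r : G)⁻¹ := by group
        _ = _ := by rw [← e]; group
  let F : ↥Q ⧸ E' → G := Quotient.lift (fun q : ↥Q => (q : G) * u * (q : G)⁻¹ * u⁻¹)
    fun q r h => (hf q r).2 (QuotientGroup.leftRel_apply.1 h)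
  have hinj : Function.Injective F := by
    intro a b
    induction a using QuotientGroup.induction_on with
    | H q =>
      induction b using QuotientGroup.induction_on with
      | H r => exact fun e => QuotientGroup.eq.2 ((hf q r).1 e)
  have himg : H.FF g = Set.range F := by
    ext x
    constructor
    · rintro ⟨q, hq, rfl⟩
      exact ⟨QuotientGroup.mk ⟨q, hq⟩, rfl⟩
    · rintro ⟨a, rfl⟩
      induction a using QuotientGroup.induction_on with
      | H q => exact ⟨q, q.2, rfl⟩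
  rw [himg, ← Nat.card_coe_set_eq, Nat.card_range_of_injective hinj, ← hE,
    ← card_eq_card_quotient_mul_card_subgroup, H.card]

theorem card_DD_le (P : H.Pt g) (hn : H.NoFuse) :
    Nat.card ↥(H.EE g) ≤ 8 * Nat.card ↥(H.DD g) := by
  have h2 : IsPGroup 2 ↥(H.EE g) := H.ctr.pgroup.to_le H.EE_le
  set A := (H.EE g).map (MulAut.conj g⁻¹).toMonoidHom
  have hA : A ≤ centralizer ({t} : Set G) := by
    rintro _ ⟨x, hx, rfl⟩
    rw [mem_centralizer_singleton_iff]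
    show g⁻¹ * x * g⁻¹⁻¹ * t = t * (g⁻¹ * x * g⁻¹⁻¹)
    calc g⁻¹ * x * g⁻¹⁻¹ * t = g⁻¹ * (x * (g * t * g⁻¹)) * g := by group
      _ = _ := by rw [(H.mem_EE.1 hx).2]; group
  have hcA : Nat.card ↥A = Nat.card ↥(H.EE g) := card_map_of_injective (MulAut.conj g⁻¹).injective
  have hcD : Nat.card ↥(A ⊓ Q) = Nat.card ↥(H.DD g) := by
    have : A ⊓ Q = (H.DD g).map (MulAut.conj g⁻¹).toMonoidHom := by
      ext x
      simp only [A, DD, mem_inf, mem_map, mem_comap]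
      constructor
      · rintro ⟨⟨y, hy, rfl⟩, hx⟩
        exact ⟨y, ⟨hy, hx⟩, rfl⟩
      · rintro ⟨y, ⟨hy, hy'⟩, rfl⟩
        exact ⟨⟨y, hy, rfl⟩, hy'⟩
    rw [this, card_map_of_injective (MulAut.conj g⁻¹).injective]
  have := (H.index_le hA (h2.map _)).1
  rwa [hcA, hcD] at this

/-- The elements of `D` are not commutators with `u`. -/
theorem Pt.notMem_FF (P : H.Pt g) (hn : H.NoFuse) {d : G} (hd : d ∈ H.DD g) (hd1 : d ≠ 1) :
    d ∉ H.FF g := by
  rintro ⟨q, hq, e⟩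
  obtain ⟨hdE, hdQ⟩ := H.mem_DD.1 hd
  change q * (g * t * g⁻¹) * q⁻¹ * (g * t * g⁻¹)⁻¹ = d at e
  have h1 : d * (g * t * g⁻¹) = (q * g) * t * (q * g)⁻¹ := by rw [← e]; group
  have h2 : g⁻¹ * ((q * g) * t * (q * g)⁻¹) * g ∈ Q := by
    rw [← h1, show g⁻¹ * (d * (g * t * g⁻¹)) * g = g⁻¹ * d * g * t by group]
    exact Q.mul_mem hdQ H.ctr.z_mem
  have h3 := H.eq_u hn h2
  rw [← h1] at h3
  exact hd1 (mul_eq_right.1 h3)

/-- The structure forced without fusion in `Q`. -/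
theorem Pt.quad (P : H.Pt g) (hn : H.NoFuse) :
    Nat.card ↥(H.EE g) = 32 ∧ Nat.card ↥(H.DD g) = 4 ∧
      ∀ d ∈ H.DD g, d ≠ 1 → ∃ q ∈ Q, q * (g * t * g⁻¹) * q⁻¹ = t * d * (g * t * g⁻¹) ∧
        q * d * q⁻¹ = d ∧ ∀ e ∈ H.DD g, e ≠ 1 → e ≠ d → q * e * q⁻¹ = t * e := by
  classical
  haveI : Fact (Nat.Prime 2) := ⟨Nat.prime_two⟩
  set u := g * t * g⁻¹ with hu
  have hu2 : u⁻¹ = u := inv_eq_of_mul_eq_one_right H.u_sq
  have hFQ : ∀ x ∈ H.FF g, x ∈ Q := by
    rintro _ ⟨q, hq, rfl⟩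
    exact H.f_mem P hq
  have hFinv : ∀ x ∈ H.FF g, u * x * u⁻¹ = x⁻¹ := by
    rintro _ ⟨q, -, rfl⟩
    show u * (q * u * q⁻¹ * u⁻¹) * u⁻¹ = (q * u * q⁻¹ * u⁻¹)⁻¹
    calc u * (q * u * q⁻¹ * u⁻¹) * u⁻¹ = u * q * u * q⁻¹ * (u * u)⁻¹ := by group
      _ = u * q * u * q⁻¹ := by rw [H.u_sq, inv_one, mul_one]
      _ = u * q * u⁻¹ * q⁻¹ := by rw [hu2]
      _ = _ := by group
  have h32 : Nat.card ↥(H.EE g) ≤ 32 := by
    haveI : IsMulCommutative ↥((H.EE g).subgroupOf Q) :=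
      ⟨⟨fun a b => Subtype.ext (Subtype.ext (Pt.comm H P hn a.2 b.2))⟩⟩
    have h := Cfsg.Agent.PGroups.Extraspecial.card_sq_le_of_abelian H.ctr.ext ((H.EE g).subgroupOf Q)
    rw [Nat.card_congr (subgroupOfEquivOfLe H.EE_le).toEquiv, H.card] at h
    nlinarith
  have hF := H.card_FF (g := g)
  have hdvd : Nat.card ↥(H.EE g) ∣ 2 ^ 9 := by
    rw [show (2 : ℕ) ^ 9 = 512 from rfl, ← hF]; exact dvd_mul_left _ _
  obtain ⟨j, hj, hjE⟩ := (Nat.dvd_prime_pow Nat.prime_two).1 hdvd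
  by_cases hA : ∀ x ∈ H.FF g, x * x = 1
  swap
  · -- an element of order four inverted by `u`
    exfalso
    push Not at hA
    obtain ⟨x, hx, hx2⟩ := hA
    obtain ⟨q, hq, hqx⟩ := hx
    change q * u * q⁻¹ * u⁻¹ = x at hqx
    have hxF : x ∈ H.FF g := ⟨q, hq, hqx⟩
    have hxQ := hFQ x hxF
    have hxu := hFinv x hxF
    have hxE : x ∉ H.EE g := fun h => hx2 (Pt.sq_one H P hn h)
    have hcomm : ∀ k ∈ H.EE g, k * x = x * k := by
      intro k hk
      obtain ⟨hkQ, hku⟩ := H.mem_EE.1 hk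
      have hku' : k * u * k⁻¹ = u := mul_inv_eq_iff_eq_mul.2 hku
      rw [← mul_inv_eq_iff_eq_mul, ← hqx]
      have e1 : k * (q * u * q⁻¹ * u⁻¹) * k⁻¹ =
          (k * q * k⁻¹) * (k * u * k⁻¹) * (k * q * k⁻¹)⁻¹ * (k * u * k⁻¹)⁻¹ := by group
      rw [e1, hku']
      rcases H.ctr.conj_cases hkQ hq with e | e
      · rw [e]
      · rw [e, show t * q * u * (t * q)⁻¹ * u⁻¹ = t * (q * u * q⁻¹) * t⁻¹ * u⁻¹ by group]
        have hqu : q * u * q⁻¹ * t = t * (q * u * q⁻¹) :=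
          comm_mul (comm_mul (H.comm_Q hq) P.mem) (comm_inv (H.comm_Q hq))
        rw [← hqu, mul_inv_cancel_right]
    -- `C_Q(u)⟨x⟩` is abelian
    have h16 : Nat.card ↥(H.EE g) ≤ 16 := by
      by_contra hlt
      set A : Subgroup ↥Q := closure (((H.EE g).subgroupOf Q : Set ↥Q) ∪ {⟨x, hxQ⟩}) with hAdef
      haveI : IsMulCommutative ↥A := by
        refine ⟨⟨fun a b => Subtype.ext ?_⟩⟩
        have hle : A ≤ centralizer (A : Set ↥Q) := by
          have h1 : ∀ a ∈ ((H.EE g).subgroupOf Q : Set ↥Q) ∪ {(⟨x, hxQ⟩ : ↥Q)},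
              ∀ b ∈ ((H.EE g).subgroupOf Q : Set ↥Q) ∪ {(⟨x, hxQ⟩ : ↥Q)}, a * b = b * a := by
            rintro a (ha | ha) b (hb | hb)
            · exact Subtype.ext (Pt.comm H P hn ha hb)
            · rw [Set.mem_singleton_iff] at hb; subst hb
              exact Subtype.ext (hcomm _ ha)
            · rw [Set.mem_singleton_iff] at ha; subst ha
              exact Subtype.ext (hcomm _ hb).symm
            · rw [Set.mem_singleton_iff] at ha hb; rw [ha, hb]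
          rw [hAdef, centralizer_closure, closure_le]
          intro a ha
          exact mem_centralizer_iff.2 fun b hb => h1 b hb a ha
        exact (mem_centralizer_iff.1 (hle b.2) a a.2)
      have h := Cfsg.Agent.PGroups.Extraspecial.card_sq_le_of_abelian H.ctr.ext A
      rw [H.card] at h
      have hlt' : (H.EE g).subgroupOf Q < A := by
        refine lt_of_le_of_ne (fun a ha => subset_closure (Or.inl ha)) fun e => hxE ?_
        have : (⟨x, hxQ⟩ : ↥Q) ∈ A := subset_closure (Or.inr rfl)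
        rw [← e] at this
        exact this
      have hd := card_dvd_of_le hlt'.le
      have hne : Nat.card ↥((H.EE g).subgroupOf Q) ≠ Nat.card ↥A := fun e =>
        hlt'.ne (eq_of_le_of_card_ge hlt'.le e.ge)
      rw [Nat.card_congr (subgroupOfEquivOfLe H.EE_le).toEquiv] at hd hne
      obtain ⟨k, hk⟩ := hd
      have : 2 ≤ k := by
        rcases k with _ | _ | k
        · exact absurd (hk.trans (mul_zero _)) Nat.card_pos.ne'
        · simp at hk; exact absurd hk.symm hne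
        · omega
      have : 2 * Nat.card ↥(H.EE g) ≤ Nat.card ↥A := by rw [hk]; nlinarith
      nlinarith
    -- the set of elements moved into `{y, t y}` by `u`
    set K : Set G := (H.EE g : Set G) ∪ (fun e => x * e) '' (H.EE g : Set G) with hK
    have hsub : H.FF g ⊆ K := by
      intro y hy
      have hyQ := hFQ y hy
      have hyu := hFinv y hy
      rcases H.ctr.sq_cases hyQ with e | e
      · left
        refine H.mem_EE.2 ⟨hyQ, ?_⟩
        rw [inv_eq_of_mul_eq_one_right e] at hyu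
        exact (mul_inv_eq_iff_eq_mul.1 hyu).symm
      · right
        refine ⟨x⁻¹ * y, H.mem_EE.2 ⟨Q.mul_mem (Q.inv_mem hxQ) hyQ, ?_⟩, by group⟩
        have hx2' : x * x = t := (H.ctr.sq_cases hxQ).resolve_left hx2
        have ex : u * x⁻¹ * u⁻¹ = x := by
          rw [show u * x⁻¹ * u⁻¹ = (u * x * u⁻¹)⁻¹ by group, hxu, inv_inv]
        have e2 : x * y⁻¹ = x⁻¹ * y := by
          have hy' : y⁻¹ = t * y := by
            rw [eq_comm, eq_inv_iff_mul_eq_one, mul_assoc, e, H.ctr.zz]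
          have hxi : x⁻¹ = x * t := by
            rw [eq_comm, eq_inv_iff_mul_eq_one, mul_assoc, ← H.comm_Q hxQ, ← mul_assoc, hx2', H.ctr.zz]
          rw [hy', hxi, mul_assoc]
        symm
        rw [← mul_inv_eq_iff_eq_mul]
        calc u * (x⁻¹ * y) * u⁻¹ = (u * x⁻¹ * u⁻¹) * (u * y * u⁻¹) := by group
          _ = x * y⁻¹ := by rw [ex, hyu]
          _ = _ := e2
    have hKcard : K.ncard ≤ 2 * Nat.card ↥(H.EE g) := by
      refine (Set.ncard_union_le _ _).trans ?_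
      have h1 : ((H.EE g : Set G)).ncard = Nat.card ↥(H.EE g) := (Nat.card_coe_set_eq _).symm
      have h2 := Set.ncard_image_le (f := fun e => x * e) (s := (H.EE g : Set G))
      omega
    have heq : H.FF g = K := by
      refine Set.eq_of_subset_of_ncard_le hsub ?_
      rw [hjE] at h16 hKcard hF
      have hj4 : j ≤ 4 := by
        by_contra hc
        have : 2 ^ 5 ≤ 2 ^ j := Nat.pow_le_pow_right (by norm_num) (by omega)
        omega
      interval_cases j <;> omega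
    have h4 : 16 ≤ Nat.card ↥(H.EE g) := by
      rw [heq] at hF
      rw [hjE] at h16 hKcard hF ⊢
      have hj4 : j ≤ 4 := by
        by_contra hc
        have : 2 ^ 5 ≤ 2 ^ j := Nat.pow_le_pow_right (by norm_num) (by omega)
        omega
      interval_cases j <;> omega
    have h5 := H.card_DD_le P hn
    have hbig : 1 < Nat.card ↥(H.DD g) := by omega
    haveI := Finite.one_lt_card_iff_nontrivial.1 hbig
    obtain ⟨⟨d, hd⟩, hd1⟩ := exists_ne (1 : ↥(H.DD g))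
    refine Pt.notMem_FF H P hn hd (fun e => hd1 (Subtype.ext e)) ?_
    rw [heq]
    exact Or.inl (H.mem_DD.1 hd).1
  -- all commutators are involutions
  have hFE : H.FF g ⊆ (H.EE g : Set G) := fun x hx => by
    refine H.mem_EE.2 ⟨hFQ x hx, ?_⟩
    have h := hFinv x hx
    rw [inv_eq_of_mul_eq_one_right (hA x hx)] at h
    exact (mul_inv_eq_iff_eq_mul.1 h).symm
  have hE32 : Nat.card ↥(H.EE g) = 32 := by
    have h1 := Set.ncard_le_ncard hFE
    rw [show (H.EE g : Set G).ncard = Nat.card ↥(H.EE g) from (Nat.card_coe_set_eq _).symm] at h1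
    rw [hjE] at h32 h1 hF ⊢
    interval_cases j <;> omega
  have hD4 : 4 ≤ Nat.card ↥(H.DD g) := by
    have := H.card_DD_le P hn
    omega
  have htE : t ∈ H.EE g := H.mem_EE.2 ⟨H.ctr.z_mem, P.mem.symm⟩
  have htD : t ∉ H.DD g := fun h => Pt.t_notMem H P hn (H.mem_DD.1 h).2
  -- the product formula
  have hmul : ∀ {q r : G}, q ∈ Q → r ∈ Q → q * r * u * (q * r)⁻¹ * u⁻¹ =
      q * (r * u * r⁻¹ * u⁻¹) * q⁻¹ * (q * u * q⁻¹ * u⁻¹) := fun {q r} _ _ => by group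
  -- the commutators with their translates by `t` form a group
  let J : Subgroup G := closure (H.FF g)
  have hJ : ∀ x ∈ J, x ∈ H.FF g ∨ t * x ∈ H.FF g := by
    intro x hx
    induction hx using closure_induction with
    | mem y hy => exact Or.inl hy
    | one => exact Or.inl ⟨1, Q.one_mem, by simp⟩
    | mul y z hy hz ihy ihz =>
      have key : ∀ a b, a ∈ H.FF g → b ∈ H.FF g → a * b ∈ H.FF g ∨ t * (a * b) ∈ H.FF g := by
        rintro a b ⟨r, hr, rfl⟩ ⟨q, hq, rfl⟩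
        have hm := H.f_mem P hr
        rcases H.ctr.conj_cases hq hm with e | e
        · left
          refine ⟨q * r, Q.mul_mem hq hr, ?_⟩
          show q * r * u * (q * r)⁻¹ * u⁻¹ = _
          rw [hmul hq hr, e]
        · right
          refine ⟨q * r, Q.mul_mem hq hr, ?_⟩
          show q * r * u * (q * r)⁻¹ * u⁻¹ = _
          rw [hmul hq hr, e, mul_assoc]
      have htt : ∀ w, t * (t * w) = w := fun w => by rw [← mul_assoc, H.ctr.zz, one_mul]
      have hty : y * (t * z) = t * (y * z) := by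
        have hyQ : y ∈ Q := (closure_le _).2 (fun w hw => hFQ w hw) hy
        rw [← mul_assoc, H.comm_Q hyQ, mul_assoc]
      rcases ihy with a | a <;> rcases ihz with b | b
      · exact key _ _ a b
      · rcases key _ _ a b with c | c
        · exact Or.inr (hty ▸ c)
        · left; rwa [hty, htt] at c
      · rcases key _ _ a b with c | c
        · right; rwa [mul_assoc] at c
        · left; rwa [mul_assoc, htt] at c
      · rcases key _ _ a b with c | c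
        · left; rwa [mul_assoc, hty, htt] at c
        · right; rwa [mul_assoc t y, hty, htt] at c
    | inv y hy ihy =>
      have hyE : y ∈ H.EE g := (closure_le _).2 hFE hy
      rw [inv_eq_of_mul_eq_one_right (Pt.sq_one H P hn hyE)]
      exact ihy
  have hJF : (H.FF g).ncard = 16 := by rw [hE32] at hF; omega
  have hJE : J ≤ H.EE g := (closure_le _).2 hFE
  -- the key: `t d` is a commutator
  have hkey : ∀ d ∈ H.DD g, d ≠ 1 → t * d ∈ H.FF g := by
    intro d hd hd1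
    by_cases hJ32 : J = H.EE g
    · exact (hJ d (hJ32 ▸ (H.mem_DD.1 hd).1)).resolve_left (Pt.notMem_FF H P hn hd hd1)
    · -- then the commutators form a group meeting `D`
      exfalso
      have hJlt : J < H.EE g := lt_of_le_of_ne hJE hJ32
      have hJsub : H.FF g ⊆ (J : Set G) := subset_closure
      have hJ16 : Nat.card ↥J = 16 := by
        have h1 := Set.ncard_le_ncard hJsub
        rw [hJF, show (J : Set G).ncard = Nat.card ↥J from (Nat.card_coe_set_eq _).symm] at h1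
        obtain ⟨k, hk, hkJ⟩ := (Nat.dvd_prime_pow Nat.prime_two).1
          (show Nat.card ↥J ∣ 2 ^ 5 by rw [show (2:ℕ) ^ 5 = 32 from rfl, ← hE32]; exact card_dvd_of_le hJE)
        have h2 : Nat.card ↥J ≠ 32 := fun e => hJ32 (eq_of_le_of_card_ge hJE (by omega))
        rw [hkJ] at h1 h2 ⊢
        interval_cases k <;> omega
      have hJeq : H.FF g = (J : Set G) := Set.eq_of_subset_of_ncard_le hJsub (by
        rw [hJF, show (J : Set G).ncard = Nat.card ↥J from (Nat.card_coe_set_eq _).symm, hJ16])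
      -- `J ⊓ D` is not trivial
      have hmeet : ∃ e ∈ H.DD g, e ∈ J ∧ e ≠ 1 := by
        by_contra hc
        push Not at hc
        let m : ↥J × ↥(H.DD g) → ↥(H.EE g) := fun p =>
          ⟨(p.1 : G) * p.2, (H.EE g).mul_mem (hJE p.1.2) (H.mem_DD.1 p.2.2).1⟩
        have hm : Function.Injective m := by
          rintro ⟨⟨a, ha⟩, ⟨b, hb⟩⟩ ⟨⟨a', ha'⟩, ⟨b', hb'⟩⟩ e
          have e' : a * b = a' * b' := congrArg Subtype.val e
          have h : a'⁻¹ * a = b' * b⁻¹ := by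
            rw [inv_mul_eq_iff_eq_mul, ← mul_assoc, ← e', mul_inv_cancel_right]
          have h1 := hc _ ((H.DD g).mul_mem hb' ((H.DD g).inv_mem hb)) (h ▸ J.mul_mem (J.inv_mem ha') ha)
          obtain rfl : b' = b := mul_inv_eq_one.1 h1
          obtain rfl : a = a' := mul_right_cancel e'
          rfl
        have := Nat.card_le_card_of_injective m hm
        rw [Nat.card_prod, hJ16, hE32] at this
        omega
      obtain ⟨e, he, heJ, he1⟩ := hmeet
      exact Pt.notMem_FF H P hn he he1 (hJeq ▸ heJ)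
  have hcomm : ∀ d ∈ H.DD g, d ≠ 1 → ∀ e ∈ H.DD g, e ≠ 1 → e ≠ d → ∀ q ∈ Q,
      q * u * q⁻¹ * u⁻¹ = t * d → q * e * q⁻¹ = t * e := by
    intro d hd hd1 e he he1 hne q hq hqd
    refine (H.ctr.conj_cases hq (H.mem_EE.1 (H.mem_DD.1 he).1).1).resolve_left fun hfix => ?_
    obtain ⟨r, hr, hre⟩ := hkey e he he1
    change r * u * r⁻¹ * u⁻¹ = t * e at hre
    refine Pt.notMem_FF H P hn ((H.DD g).mul_mem he hd) ?_ ⟨q * r, Q.mul_mem hq hr, ?_⟩
    · intro h1
      apply hne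
      rw [eq_inv_of_mul_eq_one_left h1, inv_eq_of_mul_eq_one_right (Pt.sq_one H P hn (H.mem_DD.1 hd).1)]
    · show q * r * u * (q * r)⁻¹ * u⁻¹ = e * d
      rw [hmul hq hr, hre, hqd, show q * (t * e) * q⁻¹ = (q * t * q⁻¹) * (q * e * q⁻¹) by group, hfix,
        H.ctr.conj_z hq, mul_assoc, ← mul_assoc e t, H.comm_Q (H.mem_EE.1 (H.mem_DD.1 he).1).1,
        mul_assoc t e, ← mul_assoc, H.ctr.zz, one_mul]
  have hself : ∀ d ∈ H.DD g, ∀ q ∈ Q, q * u * q⁻¹ * u⁻¹ = t * d → q * d * q⁻¹ = d := by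
    intro d hd q hq hqd
    have hqq : q * q * u * (q * q)⁻¹ * u⁻¹ = 1 := by
      rcases H.ctr.sq_cases hq with e | e <;> rw [e]
      · simp
      · rw [P.mem.symm, mul_inv_cancel_right, mul_inv_cancel]
    rw [hmul hq hq, hqd, show q * (t * d) * q⁻¹ = (q * t * q⁻¹) * (q * d * q⁻¹) by group,
      H.ctr.conj_z hq] at hqq
    have hdd := Pt.sq_one H P hn (H.mem_DD.1 hd).1
    have hc : q * d * q⁻¹ * t = t * (q * d * q⁻¹) :=
      comm_conj (H.comm_Q hq) (H.comm_Q (H.mem_EE.1 (H.mem_DD.1 hd).1).1)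
    rw [mul_assoc, ← mul_assoc (q * d * q⁻¹) t, hc, mul_assoc t, ← mul_assoc, H.ctr.zz, one_mul] at hqq
    rw [eq_inv_of_mul_eq_one_left hqq, inv_eq_of_mul_eq_one_right hdd]
  refine ⟨hE32, ?_, fun d hd hd1 => ?_⟩
  · -- two elements of `D` cannot both be moved by three
    refine le_antisymm ?_ hD4
    by_contra hlt
    haveI := Finite.one_lt_card_iff_nontrivial.1 (show 1 < Nat.card ↥(H.DD g) by omega)
    obtain ⟨⟨d, hd⟩, hd1⟩ := exists_ne (1 : ↥(H.DD g))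
    have hd1' : d ≠ 1 := fun e => hd1 (Subtype.ext e)
    obtain ⟨e, he, he1, hed⟩ : ∃ e ∈ H.DD g, e ≠ 1 ∧ e ≠ d := by
      by_contra hc
      push Not at hc
      have hs : (H.DD g : Set G) ⊆ {1, d} := fun x hx => by
        by_cases hx1 : x = 1
        · exact Or.inl hx1
        · exact Or.inr (hc x hx hx1)
      have := (Set.ncard_le_ncard hs).trans (Set.ncard_insert_le _ _)
      rw [Set.ncard_singleton, show (H.DD g : Set G).ncard = Nat.card ↥(H.DD g) from (Nat.card_coe_set_eq _).symm] at this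
      omega
    obtain ⟨f, hf, hf1, hf2, hf3, hf4⟩ : ∃ f ∈ H.DD g, f ≠ 1 ∧ f ≠ d ∧ f ≠ e ∧ f ≠ d * e := by
      by_contra hc
      push Not at hc
      have hs : (H.DD g : Set G) ⊆ {1, d, e, d * e} := fun x hx => by
        by_cases h1 : x = 1
        · exact Or.inl h1
        by_cases h2 : x = d
        · exact Or.inr (Or.inl h2)
        by_cases h3 : x = e
        · exact Or.inr (Or.inr (Or.inl h3))
        exact Or.inr (Or.inr (Or.inr (hc x hx h1 h2 h3)))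
      have := (Set.ncard_le_ncard hs).trans ((Set.ncard_insert_le _ _).trans
        (Nat.succ_le_succ ((Set.ncard_insert_le _ _).trans (Nat.succ_le_succ (Set.ncard_insert_le _ _)))))
      rw [Set.ncard_singleton, show (H.DD g : Set G).ncard = Nat.card ↥(H.DD g) from (Nat.card_coe_set_eq _).symm] at this
      omega
    obtain ⟨q, hq, hqd⟩ := hkey d hd hd1'
    change q * u * q⁻¹ * u⁻¹ = t * d at hqd
    have hee := Pt.sq_one H P hn (H.mem_DD.1 he).1
    have h1 := hcomm d hd hd1' e he he1 hed q hq hqd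
    have h2 := hcomm d hd hd1' f hf hf1 hf2 q hq hqd
    have h3 := hcomm d hd hd1' (e * f) ((H.DD g).mul_mem he hf)
      (fun h => hf3 (by rw [← inv_eq_of_mul_eq_one_right hee]; exact eq_inv_of_mul_eq_one_right h))
      (fun h => hf4 (by
        rw [← h, mul_assoc, Pt.comm H P hn (H.mem_DD.1 hf).1 (H.mem_DD.1 he).1, ← mul_assoc, hee,
          one_mul])) q hq hqd
    rw [show q * (e * f) * q⁻¹ = q * e * q⁻¹ * (q * f * q⁻¹) by group, h1, h2, mul_assoc t e,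
      mul_right_inj, ← mul_assoc, H.comm_Q (H.mem_EE.1 (H.mem_DD.1 he).1).1, mul_assoc] at h3
    exact H.ctr.ne_one (mul_eq_right.1 h3)
  · obtain ⟨q, hq, hqd⟩ := hkey d hd hd1
    change q * u * q⁻¹ * u⁻¹ = t * d at hqd
    exact ⟨q, hq, mul_inv_eq_iff_eq_mul.1 hqd, hself d hd q hq hqd,
      fun e he he1 hne => hcomm d hd hd1 e he he1 hne q hq hqd⟩

/-- Some conjugate of `t` other than `t` lies in `Q`. -/
theorem exists_fused (hconj : ∃ g : G, g * t * g⁻¹ * t = t * (g * t * g⁻¹) ∧ g * t * g⁻¹ ≠ t) :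
    ∃ g : G, g * t * g⁻¹ ∈ Q ∧ g * t * g⁻¹ ≠ t := by
  classical
  haveI : Fact (Nat.Prime 2) := ⟨Nat.prime_two⟩
  by_contra hc
  push Not at hc
  obtain ⟨g, hg1, hg2⟩ := hconj
  have hn : H.NoFuse := hc
  have P : H.Pt g := ⟨hg1, hg2⟩
  have P' := Pt.inv H P
  obtain ⟨hE, hD, hq⟩ := Pt.quad H P hn
  obtain ⟨hE', hD', hp⟩ := Pt.quad H P' hn
  set u := g * t * g⁻¹ with hu
  -- `E' = C_{Q_u}(t)`
  set A := (H.EE g⁻¹).map (MulAut.conj g).toMonoidHom with hA
  have memA : ∀ {x}, x ∈ A ↔ g⁻¹ * x * g ∈ Q ∧ x * t = t * x := by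
    intro x
    rw [hA, mem_map_equiv, MulAut.conj_symm_apply, H.mem_EE, inv_inv]
    refine and_congr_right fun _ => ⟨fun h => ?_, fun h => ?_⟩
    · calc x * t = g * (g⁻¹ * x * g * (g⁻¹ * t * g)) * g⁻¹ := by group
        _ = _ := by rw [h]; group
    · calc g⁻¹ * x * g * (g⁻¹ * t * g) = g⁻¹ * (x * t) * g := by group
        _ = _ := by rw [h]; group
  have hAC : A ≤ centralizer ({t} : Set G) := fun x hx => mem_centralizer_singleton_iff.2 (memA.1 hx).2
  have hAu : ∀ {x}, x ∈ A → x * u = u * x := by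
    intro x hx
    have h := H.comm_Q (memA.1 hx).1
    calc x * u = g * (g⁻¹ * x * g * t) * g⁻¹ := by rw [hu]; group
      _ = _ := by rw [h, hu]; group
  have hAcomm : ∀ {x y}, x ∈ A → y ∈ A → x * y = y * x := by
    rintro _ _ ⟨a, ha, rfl⟩ ⟨b, hb, rfl⟩
    rw [← map_mul, Pt.comm H P' hn ha hb, map_mul]
  have hDA : ∀ {x}, x ∈ H.DD g → x ∈ A := fun {x} hx =>
    memA.2 ⟨(H.mem_DD.1 hx).2, H.comm_Q (H.mem_EE.1 (H.mem_DD.1 hx).1).1⟩
  have hAQ : A ⊓ Q = H.DD g := by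
    ext x
    refine ⟨fun hx => H.mem_DD.2 ⟨H.mem_EE.2 ⟨(mem_inf.1 hx).2, hAu (mem_inf.1 hx).1⟩,
      (memA.1 (mem_inf.1 hx).1).1⟩, fun hx => ⟨hDA hx, (H.mem_EE.1 (H.mem_DD.1 hx).1).1⟩⟩
  have hA32 : Nat.card ↥A = 32 := by rw [hA, card_map_of_injective (MulAut.conj g).injective, hE']
  have h8 := (H.index_le hAC ((H.ctr.pgroup.to_le H.EE_le).map _)).2 (by rw [hAQ, hA32, hD])
  have ht2 : t * t = 1 := H.ctr.zz
  have hu2 : u * u = 1 := H.u_sq
  have htu : t * u = u * t := P.mem.symm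
  -- the three elements
  haveI := Finite.one_lt_card_iff_nontrivial.1 (show 1 < Nat.card ↥(H.DD g) by omega)
  obtain ⟨⟨d₁, h₁⟩, h₁'⟩ := exists_ne (1 : ↥(H.DD g))
  obtain ⟨d₂, h₂, h₂1, h₂d⟩ : ∃ e ∈ H.DD g, e ≠ 1 ∧ e ≠ d₁ := by
    by_contra hc'
    push Not at hc'
    have hs : (H.DD g : Set G) ⊆ {1, d₁} := fun x hx => by
      by_cases hx1 : x = 1
      · exact Or.inl hx1
      · exact Or.inr (hc' x hx hx1)
    have := (Set.ncard_le_ncard hs).trans (Set.ncard_insert_le _ _)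
    rw [Set.ncard_singleton, show (H.DD g : Set G).ncard = Nat.card ↥(H.DD g) from (Nat.card_coe_set_eq _).symm] at this
    omega
  have h₁1 : d₁ ≠ 1 := fun e => h₁' (Subtype.ext e)
  have e₁ := Pt.sq_one H P hn (H.mem_DD.1 h₁).1
  have e₂ := Pt.sq_one H P hn (H.mem_DD.1 h₂).1
  have h₁₂ : d₁ * d₂ = d₂ * d₁ := Pt.comm H P hn (H.mem_DD.1 h₁).1 (H.mem_DD.1 h₂).1
  set d₃ := d₁ * d₂ with hd₃
  have h₃ : d₃ ∈ H.DD g := (H.DD g).mul_mem h₁ h₂
  have h₃1 : d₃ ≠ 1 := fun e => h₂d (by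
    rw [eq_inv_of_mul_eq_one_right e, inv_eq_of_mul_eq_one_right e₁])
  have h₃d1 : d₃ ≠ d₁ := fun e => h₂1 (mul_eq_left.1 e)
  have h₃d2 : d₃ ≠ d₂ := fun e => h₁1 (mul_eq_right.1 e)
  have hd13 : d₁ * d₃ = d₂ := by rw [hd₃, ← mul_assoc, e₁, one_mul]
  have hd23 : d₂ * d₃ = d₁ := by
    rw [show d₂ * d₃ = d₂ * (d₂ * d₁) by rw [← h₁₂], ← mul_assoc, e₂, one_mul]
  -- commutations
  have cdt : ∀ {d}, d ∈ H.DD g → d * t = t * d := fun hd => H.comm_Q (H.mem_EE.1 (H.mem_DD.1 hd).1).1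
  have cdu : ∀ {d}, d ∈ H.DD g → d * u = u * d := fun hd => (H.mem_EE.1 (H.mem_DD.1 hd).1).2
  -- the action of the elements of `Q`
  have actQ : ∀ {d e : G}, d ∈ H.DD g → d ≠ 1 → e ∈ H.DD g → e ≠ 1 → e ≠ d → ∀ {q : G}, q ∈ Q →
      q * u * q⁻¹ = t * d * u → q * d * q⁻¹ = d → q * e * q⁻¹ = t * e →
      q * t * q⁻¹ = t ∧ q * (t * d * u) * q⁻¹ = u ∧ q * (t * e * u) * q⁻¹ = t * (d * e) * u := by
    intro d e hd _ he _ _ q hq h1 h2 h3
    have hqt := H.ctr.conj_z hq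
    refine ⟨hqt, ?_, ?_⟩
    · rw [conj_three, hqt, h2, h1, ← mul_assoc, show t * d * (t * d) = t * (d * t) * d by group, cdt hd,
        show t * (t * d) * d = t * t * (d * d) by group, ht2, Pt.sq_one H P hn (H.mem_DD.1 hd).1, one_mul,
        one_mul]
    · rw [conj_three, hqt, h3, h1, ← mul_assoc t t, ht2, one_mul]
      calc e * (t * d * u) = e * t * (d * u) := by simp only [mul_assoc]
        _ = t * e * (d * u) := by rw [cdt he]
        _ = t * (e * d) * u := by simp only [mul_assoc]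
        _ = _ := by rw [Pt.comm H P hn (H.mem_DD.1 he).1 (H.mem_DD.1 hd).1]
  -- the elements of `Q_u`
  have hpA : ∀ d ∈ H.DD g, d ≠ 1 → ∃ p : G, p * u * p⁻¹ = u ∧ p * t * p⁻¹ = u * d * t ∧
      p * d * p⁻¹ = d ∧ ∀ e ∈ H.DD g, e ≠ 1 → e ≠ d → p * e * p⁻¹ = u * e := by
    intro d hd hd1
    have hd' : ∀ {e}, e ∈ H.DD g → g⁻¹ * e * g ∈ H.DD g⁻¹ := by
      intro e he
      have h := H.mem_DD.1 he
      refine H.mem_DD.2 ⟨H.mem_EE.2 ⟨h.2, ?_⟩, by simpa [mul_assoc] using (H.mem_EE.1 h.1).1⟩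
      rw [inv_inv]
      calc g⁻¹ * e * g * (g⁻¹ * t * g) = g⁻¹ * (e * t) * g := by group
        _ = _ := by rw [cdt he]; group
    obtain ⟨q, hqQ, f1, f2, f3⟩ := hp _ (hd' hd) (fun e => hd1 (by
      calc d = g * (g⁻¹ * d * g) * g⁻¹ := by group
        _ = 1 := by rw [e]; group))
    rw [inv_inv] at f1
    refine ⟨g * q * g⁻¹, ?_, ?_, ?_, fun e he he1 hne => ?_⟩
    · rw [hu]
      calc g * q * g⁻¹ * (g * t * g⁻¹) * (g * q * g⁻¹)⁻¹ = g * (q * t * q⁻¹) * g⁻¹ := by group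
        _ = _ := by rw [H.ctr.conj_z hqQ]
    · calc g * q * g⁻¹ * t * (g * q * g⁻¹)⁻¹ = g * (q * (g⁻¹ * t * g) * q⁻¹) * g⁻¹ := by group
        _ = _ := by rw [f1, hu]; group
    · calc g * q * g⁻¹ * d * (g * q * g⁻¹)⁻¹ = g * (q * (g⁻¹ * d * g) * q⁻¹) * g⁻¹ := by group
        _ = _ := by rw [f2]; group
    · have f := f3 _ (hd' he) (fun h => he1 (by
        calc e = g * (g⁻¹ * e * g) * g⁻¹ := by group
          _ = 1 := by rw [h]; group)) (fun h => hne (by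
        calc e = g * (g⁻¹ * e * g) * g⁻¹ := by group
          _ = g * (g⁻¹ * d * g) * g⁻¹ := by rw [h]
          _ = d := by group))
      calc g * q * g⁻¹ * e * (g * q * g⁻¹)⁻¹ = g * (q * (g⁻¹ * e * g) * q⁻¹) * g⁻¹ := by group
        _ = _ := by rw [f, hu]; group
  have actP : ∀ {d e : G}, d ∈ H.DD g → e ∈ H.DD g → ∀ {p : G}, p * u * p⁻¹ = u →
      p * t * p⁻¹ = u * d * t → p * d * p⁻¹ = d → p * e * p⁻¹ = u * e →
      p * (t * d * u) * p⁻¹ = t ∧ p * (t * e * u) * p⁻¹ = t * (d * e) * u := by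
    intro d e hd he p h1 h2 h3 h4
    refine ⟨?_, ?_⟩
    · rw [conj_three, h2, h3, h1, show u * d * t * d * u = u * d * (t * d) * u by group, ← cdt hd,
        show u * d * (d * t) * u = u * (d * d) * (t * u) by group, Pt.sq_one H P hn (H.mem_DD.1 hd).1,
        mul_one, htu, ← mul_assoc, hu2, one_mul]
    · rw [conj_three, h2, h4, h1]
      calc u * d * t * (u * e) * u = u * d * (t * u) * (e * u) := by group
        _ = u * d * (u * t) * (u * e) := by rw [htu, cdu he]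
        _ = u * (d * u) * (t * u) * e := by group
        _ = u * (u * d) * (u * t) * e := by rw [cdu hd, htu]
        _ = (u * u) * (d * u) * (t * e) := by group
        _ = u * d * (e * t) := by rw [hu2, one_mul, cdu hd, ← cdt he]
        _ = u * (d * e * t) := by group
        _ = u * (t * (d * e)) := by rw [cdt ((H.DD g).mul_mem hd he)]
        _ = u * t * (d * e) := by group
        _ = t * (u * (d * e)) := by rw [← htu, mul_assoc]
        _ = _ := by rw [← cdu ((H.DD g).mul_mem hd he), ← mul_assoc]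
  obtain ⟨q₁, hq₁, a₁, b₁, c₁⟩ := hq d₁ h₁ h₁1
  obtain ⟨q₂, hq₂, a₂, b₂, c₂⟩ := hq d₂ h₂ h₂1
  obtain ⟨p₁, r₁, s₁, t₁, v₁⟩ := hpA d₁ h₁ h₁1
  obtain ⟨p₂, r₂, s₂, t₂, v₂⟩ := hpA d₂ h₂ h₂1
  obtain ⟨Q1t, Q1d1, Q1d3⟩ := actQ h₁ h₁1 h₃ h₃1 h₃d1 hq₁ a₁ b₁ (c₁ _ h₃ h₃1 h₃d1)
  obtain ⟨-, -, Q1d2⟩ := actQ h₁ h₁1 h₂ h₂1 h₂d hq₁ a₁ b₁ (c₁ _ h₂ h₂1 h₂d)
  obtain ⟨Q2t, Q2d2, Q2d1⟩ := actQ h₂ h₂1 h₁ h₁1 h₂d.symm hq₂ a₂ b₂ (c₂ _ h₁ h₁1 h₂d.symm)
  obtain ⟨-, -, Q2d3⟩ := actQ h₂ h₂1 h₃ h₃1 h₃d2 hq₂ a₂ b₂ (c₂ _ h₃ h₃1 h₃d2)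
  obtain ⟨P1d1, P1d3⟩ := actP h₁ h₃ r₁ s₁ t₁ (v₁ _ h₃ h₃1 h₃d1)
  obtain ⟨-, P2d1⟩ := actP h₂ h₁ r₂ s₂ t₂ (v₂ _ h₁ h₁1 h₂d.symm)
  rw [hd13] at Q1d3 P1d3
  rw [hd23] at Q2d3
  rw [← h₁₂] at Q2d1 P2d1
  -- the element of order three
  set h := p₁ * q₂ * q₁ * p₂ * q₁ with hh
  have hexp : ∀ x, h * x * h⁻¹ = p₁ * (q₂ * (q₁ * (p₂ * (q₁ * x * q₁⁻¹) * p₂⁻¹) * q₁⁻¹) * q₂⁻¹) * p₁⁻¹ :=
    fun x => by rw [hh]; simp only [conj_mul_eq]
  have hs2 : u * d₂ * t = t * d₂ * u := by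
    calc u * d₂ * t = u * (t * d₂) := by rw [mul_assoc, cdt h₂]
      _ = u * t * d₂ := (mul_assoc _ _ _).symm
      _ = t * (u * d₂) := by rw [← htu, mul_assoc]
      _ = _ := by rw [← cdu h₂, mul_assoc]
  have hs1 : u * d₁ * t = t * d₁ * u := by
    calc u * d₁ * t = u * (t * d₁) := by rw [mul_assoc, cdt h₁]
      _ = u * t * d₁ := (mul_assoc _ _ _).symm
      _ = t * (u * d₁) := by rw [← htu, mul_assoc]
      _ = _ := by rw [← cdu h₁, mul_assoc]
  have hht : h * t * h⁻¹ = t := by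
    rw [hexp, Q1t, s₂, hs2, Q1d2, Q2d3, P1d1]
  have hhu : h * u * h⁻¹ = u := by
    rw [hexp, a₁, P2d1, Q1d3, Q2d2, r₁]
  have hhs : h * (t * d₁ * u) * h⁻¹ = t * d₂ * u := by
    rw [hexp, Q1d1, r₂, a₁, Q2d1, P1d3]
  have hht' : h * t = t * h := mul_inv_eq_iff_eq_mul.1 hht
  have hnorm : ∀ a ∈ A, h * a * h⁻¹ ∈ A := by
    intro a ha
    obtain ⟨h1, h2⟩ := memA.1 ha
    refine memA.2 ⟨?_, comm_conj hht' h2⟩
    have hgc : g⁻¹ * h * g * t = t * (g⁻¹ * h * g) := by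
      calc g⁻¹ * h * g * t = g⁻¹ * (h * u) * g := by rw [hu]; group
        _ = g⁻¹ * (u * h) * g := by rw [mul_inv_eq_iff_eq_mul.1 hhu]
        _ = _ := by rw [hu]; group
    have := H.ctr.conj_mem hgc h1
    simpa [mul_assoc] using this
  obtain ⟨⟨a, hat⟩, ha, hai⟩ := H.sq_of_normal hAC h8 hht' hnorm
  have haA : a ∈ A := ha
  have hat' : a * t = t * a := mem_centralizer_singleton_iff.1 hat
  have hqQ : a⁻¹ * h ∈ Q := (H.img_eq_iff hat' hht').1 hai
  have hau : a * u * a⁻¹ = u := mul_inv_eq_iff_eq_mul.2 (hAu haA)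
  have hqu : a⁻¹ * h * u * (a⁻¹ * h)⁻¹ = u := by
    rw [conj_mul_eq, hhu, inv_inv, mul_assoc, ← hAu haA, inv_mul_cancel_left]
  have hqE : a⁻¹ * h ∈ H.EE g := H.mem_EE.2 ⟨hqQ, mul_inv_eq_iff_eq_mul.1 hqu⟩
  have hfix : a⁻¹ * h * (t * d₁ * u) * (a⁻¹ * h)⁻¹ = t * d₁ * u := by
    rw [conj_three, H.ctr.conj_z hqQ, hqu,
      mul_inv_eq_iff_eq_mul.2 (Pt.comm H P hn hqE (H.mem_DD.1 h₁).1)]
  have hfix' : a * (t * d₁ * u) * a⁻¹ = t * d₁ * u := by
    rw [conj_three, mul_inv_eq_iff_eq_mul.2 hat', hau, mul_inv_eq_iff_eq_mul.2 (hAcomm haA (hDA h₁))]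
  have : h * (t * d₁ * u) * h⁻¹ = t * d₁ * u := by
    calc h * (t * d₁ * u) * h⁻¹ = a * (a⁻¹ * h * (t * d₁ * u) * (a⁻¹ * h)⁻¹) * a⁻¹ := by group
      _ = _ := by rw [hfix, hfix']
  rw [hhs, mul_left_inj, mul_right_inj] at this
  exact h₂d this

end Hyp

end Cfsg.Agent.OmegaEightInv
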