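import Cfsg.Agent.Lib.OmegaEightInv.Frame

/-!
`C` splits: a conjugate `h` of order three over the first factor is normalised by the three involutions,
`N(⟨h⟩)` is a group `Z.(S₃ × S₃ × S₃)` and gives commuting Weyl elements `n`.
-/

set_option autoImplicit false
set_option linter.style.haveILetI false
set_option linter.unusedSectionVars false

namespace Cfsg.Agent.OmegaEightInv

open Subgroup Cfsg.Agent.LargeExtra

variable {G : Type*} [Group G]

theorem upd_self {δ : Fin 3 → Bool} {i : Fin 3} {b : Bool} (h : δ i = b) : Function.update δ i b = δ := by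
  subst h; exact Function.update_eq_self i δ

theorem perm3_rot : ∀ s : Equiv.Perm (Fin 3), s ≠ 1 → s * s = 1 → ∀ m : Equiv.Perm (Fin 3), m ≠ 1 →
    m * m = 1 → m ≠ s → (s * m) * (s * m) * (s * m) = 1 ∧ (s * m)⁻¹ ≠ s * m ∧
      s * (s * m) * s⁻¹ = (s * m)⁻¹ ∧ (s * m) * s * (s * m)⁻¹ = m ∧
      ∀ c : Equiv.Perm (Fin 3), c * (s * m) * c⁻¹ = s * m ∨ c * (s * m) * c⁻¹ = (s * m)⁻¹ := by
  decide +kernel

namespace Hyp.Base

variable {Q : Subgroup G} {t : G} [Finite G] {H : Hyp Q t} (B : H.Base)

/-- The rotation of the `i`-th factor. -/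
def rot (i : Fin 3) : P3 := Function.update (1 : P3) i (B.s i * B.m i)

theorem rot_eq (i : Fin 3) : B.rot i = B.sI i * B.mI i := by
  funext k
  by_cases e : k = i
  · subst e; simp [rot, sI, mI]
  · simp [rot, sI, mI, e]

theorem rot_cube (i : Fin 3) : B.rot i * B.rot i * B.rot i = 1 := by
  funext k
  by_cases e : k = i
  · subst e
    simpa [rot] using (perm3_rot _ (B.hs k).1 (B.hs k).2 _ (B.hm k).1 (B.hm k).2.1 (B.hm k).2.2).1
  · simp [rot, e]

theorem rot_inv_ne (i : Fin 3) : (B.rot i)⁻¹ ≠ B.rot i := fun h => by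
  have := congrFun h i
  simp only [rot, Pi.inv_apply, Function.update_self] at this
  exact (perm3_rot _ (B.hs i).1 (B.hs i).2 _ (B.hm i).1 (B.hm i).2.1 (B.hm i).2.2).2.1 this

theorem rot_conj (i : Fin 3) (p : P3) : p * B.rot i * p⁻¹ = B.rot i ∨ p * B.rot i * p⁻¹ = (B.rot i)⁻¹ := by
  rcases (perm3_rot _ (B.hs i).1 (B.hs i).2 _ (B.hm i).1 (B.hm i).2.1 (B.hm i).2.2).2.2.2.2 (p i) with e | e
  · left
    funext k
    by_cases h : k = i
    · subst h; simpa [rot] using e
    · simp [rot, h]
  · right
    funext k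
    by_cases h : k = i
    · subst h; simpa [rot] using e
    · simp [rot, h]

/-- An element of order three over a rotation. -/
theorem exists_three (i : Fin 3) : ∃ h, h * t = t * h ∧ h * h * h = 1 ∧ H.img h = B.rot i := by
  set c := H.rep (B.rot i)
  have hc := H.rep_comm (B.rot i)
  have himg : H.img c = B.rot i := H.img_rep _
  have hQ : c * c * c ∈ Q := by
    rw [← H.img_iff (comm_mul (comm_mul hc hc) hc), H.img_mul (comm_mul hc hc) hc, H.img_mul hc hc, himg]
    exact B.rot_cube i
  have h12 : c * c * c * (c * c * c) * (c * c * c * (c * c * c)) = 1 := by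
    rcases H.ctr.sq_cases hQ with e | e <;> rw [e]
    · simp
    · exact H.ctr.zz
  refine ⟨c * c * (c * c), comm_mul (comm_mul hc hc) (comm_mul hc hc), ?_, ?_⟩
  · rw [← h12]; group
  · rw [H.img_mul (comm_mul hc hc) (comm_mul hc hc), H.img_mul hc hc, himg]
    calc B.rot i * B.rot i * (B.rot i * B.rot i) = B.rot i * B.rot i * B.rot i * B.rot i := by group
      _ = _ := by rw [B.rot_cube, one_mul]

/-- Coordinates under a further transposition. -/
theorem co_act_mI (i : Fin 3) {w : G} (hw : w ∈ Q) (δ : Fin 3 → Bool) :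
    B.co (H.act (B.mI i) w) δ = B.co w (Function.update δ i (!δ i)) := by
  set ε : Fin 3 → Bool := fun k => !δ k with hε
  have h1 := B.act_mS_v (fun j => decide (j = i)) (Function.update ε i (!ε i))
  rw [B.mS_single] at h1
  have he : (fun k => xor (decide (k = i)) (Function.update ε i (!ε i) k)) = ε := by
    funext k
    by_cases e : k = i
    · subst e; simp
    · simp [e]
  rw [he] at h1
  show chi (H.act (B.mI i) w) (B.v ε) = chi w (B.v fun k => !Function.update δ i (!δ i) k)
  rw [chi_comm, ← H.chi_eqv h1 (B.v_mem ε) (H.act_mem hw _), H.chi_act, chi_comm]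
  congr 2
  funext k
  by_cases e : k = i
  · subst e; simp [hε]
  · simp [hε, e]

/-- An element of `Q` commuting with a rotation is central. -/
theorem central_of_comm {h : G} (hht : h * t = t * h) (i : Fin 3)
    (himg : H.img h = B.rot i ∨ H.img h = (B.rot i)⁻¹) {v : G} (hv : v ∈ Q) (hc : h * v = v * h) :
    Eqv t 1 v := by
  obtain ⟨h', hh', hc', himg'⟩ : ∃ h', h' * t = t * h' ∧ h' * v = v * h' ∧ H.img h' = B.rot i := by
    rcases himg with e | e
    · exact ⟨h, hht, hc, e⟩
    · exact ⟨h⁻¹, comm_inv hht, (show Commute h v from hc).inv_left.eq, by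
        rw [H.img_inv hht, e, inv_inv]⟩
  have h1 := H.act_congr hh' hv himg'
  rw [mul_inv_eq_iff_eq_mul.2 hc', B.rot_eq] at h1
  set w := H.act (B.mI i) v with hw
  have hwQ : w ∈ Q := H.act_mem hv _
  have h2 : Eqv t v (B.x i * w * B.x i) :=
    H.eqv_trans (H.eqv_symm h1) (H.eqv_trans (H.act_mul hv _ _) (B.x_act i hwQ))
  have hco : ∀ δ, B.co v δ = xor (B.co v (Function.update δ i (!δ i))) (!δ i && B.co v δ) := by
    intro δ
    have e : B.co (B.x i * w * B.x i) δ = B.co v δ := H.chi_eqv h2 hv (B.v_mem _)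
    rw [B.co_x i hwQ, hw, B.co_act_mI i hv, B.co_act_mI i hv] at e
    simp only [Function.update_self, Function.update_idem] at e
    cases hδ : δ i <;> rw [hδ] at e <;> simp only [Bool.not_false, Bool.not_true, Bool.true_and, Bool.false_and] at e ⊢
    · rw [upd_self hδ] at e
      exact e.symm
    · exact e.symm
  have hzero : ∀ δ, δ i = true → B.co v δ = false := by
    intro δ hδ
    have := hco (Function.update δ i false)
    simp only [Function.update_self, Function.update_idem, Bool.not_false, Bool.true_and] at this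
    rw [upd_self hδ] at this
    cases h : B.co v δ
    · rfl
    · rw [h] at this; cases h' : B.co v (Function.update δ i false) <;> simp [h'] at this
  refine H.eqv_symm (B.eqv_of_co hv Q.one_mem fun δ => ?_)
  rw [B.co_one]
  cases hδ : δ i
  · have := hco (Function.update δ i true)
    simp only [Function.update_self, Function.update_idem, Bool.not_true, Bool.false_and, Bool.xor_false] at this
    rw [upd_self hδ,
      hzero _ (Function.update_self i true δ)] at this
    exact this.symm
  · exact hzero δ hδ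

/-- Elements of order three in one coset of `Q` are conjugate. -/
theorem exists_conj {h y : G} (hht : h * t = t * h) (hh3 : h * h * h = 1) (i : Fin 3)
    (himg : H.img h = B.rot i ∨ H.img h = (B.rot i)⁻¹) (hyt : y * t = t * y) (hy3 : y * y * y = 1)
    (hy : H.img y = H.img h) : ∃ q ∈ Q, q * h * q⁻¹ = y := by
  classical
  haveI : Fintype G := Fintype.ofFinite G
  let S : Finset G := (Finset.univ : Finset G).filter fun z => z ∈ Q
  let Y : Finset G := (Finset.univ : Finset G).filter fun z => z * t = t * z ∧ z * z * z = 1 ∧ H.img z = H.img h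
  let f : G → G := fun q => q * h * q⁻¹
  have hS : S.card = 512 := by
    rw [← H.card, Nat.card_eq_fintype_card, Fintype.card_subtype]
  have hsub : S.image f ⊆ Y := by
    intro z hz
    obtain ⟨q, hq, rfl⟩ := Finset.mem_image.1 hz
    have hq' : q ∈ Q := (Finset.mem_filter.1 hq).2
    refine Finset.mem_filter.2 ⟨Finset.mem_univ _, comm_conj (H.comm_Q hq') hht, ?_, ?_⟩
    · show q * h * q⁻¹ * (q * h * q⁻¹) * (q * h * q⁻¹) = 1
      rw [show q * h * q⁻¹ * (q * h * q⁻¹) * (q * h * q⁻¹) = q * (h * h * h) * q⁻¹ by group, hh3]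
      group
    · show H.img (q * h * q⁻¹) = H.img h
      rw [H.img_conj (H.comm_Q hq') hht, (H.img_iff (H.comm_Q hq')).2 hq']
      simp
  have hfib : ∀ z ∈ S.image f, (S.filter fun q => f q = z).card ≤ 2 := by
    intro z hz
    obtain ⟨q, hq, rfl⟩ := Finset.mem_image.1 hz
    have hq' : q ∈ Q := (Finset.mem_filter.1 hq).2
    refine le_trans (Finset.card_le_card (t := {q, q * t}) fun r hr => ?_) Finset.card_le_two
    obtain ⟨hr1, hr2⟩ := Finset.mem_filter.1 hr
    have hr' : r ∈ Q := (Finset.mem_filter.1 hr1).2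
    have hc : h * (q⁻¹ * r) = q⁻¹ * r * h := by
      have e : r * h * r⁻¹ = q * h * q⁻¹ := hr2
      calc h * (q⁻¹ * r) = q⁻¹ * (q * h * q⁻¹) * r := by group
        _ = _ := by rw [← e]; group
    rcases B.central_of_comm hht i himg (Q.mul_mem (Q.inv_mem hq') hr') hc with e | e
    · simp [(inv_mul_eq_one.1 e).symm]
    · rw [mul_one] at e
      simp [inv_mul_eq_iff_eq_mul.1 e]
  have hbig : 256 ≤ (S.image f).card := by
    have := Finset.card_le_mul_card_image S 2 hfib
    omega
  have hsmall : Y.card ≤ 256 := by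
    have hdis : Disjoint Y (Y.image fun z => t * z) := by
      rw [Finset.disjoint_left]
      intro z hz hz'
      obtain ⟨w, hw, rfl⟩ := Finset.mem_image.1 hz'
      obtain ⟨hwt, hw3, -⟩ := (Finset.mem_filter.1 hw).2
      obtain ⟨-, hz3, -⟩ := (Finset.mem_filter.1 hz).2
      apply H.ctr.ne_one
      have e : t * w * (t * w) * (t * w) = t * t * t * (w * w * w) := by
        calc t * w * (t * w) * (t * w) = t * (w * t) * (w * (t * w)) := by group
          _ = t * t * (w * w * t) * w := by rw [hwt]; group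
          _ = t * t * (t * (w * w)) * w := by rw [comm_mul hwt hwt]
          _ = _ := by group
      rw [hz3, hw3, H.ctr.zz, one_mul, mul_one] at e
      exact e.symm
    have hin : Y ∪ (Y.image fun z => t * z) ⊆ S.image fun q => h * q := by
      intro z hz
      have key : ∀ w, w * t = t * w → H.img w = H.img h → w ∈ S.image fun q => h * q := fun w hwt hw =>
        Finset.mem_image.2 ⟨h⁻¹ * w, Finset.mem_filter.2 ⟨Finset.mem_univ _,
          (H.img_eq_iff hht hwt).1 hw.symm⟩, by group⟩
      rcases Finset.mem_union.1 hz with hz | hz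
      · exact key z (Finset.mem_filter.1 hz).2.1 (Finset.mem_filter.1 hz).2.2.2
      · obtain ⟨w, hw, rfl⟩ := Finset.mem_image.1 hz
        obtain ⟨hwt, -, hwi⟩ := (Finset.mem_filter.1 hw).2
        exact key _ (comm_mul rfl hwt) (by
          rw [H.img_mul rfl hwt, (H.img_iff rfl).2 H.ctr.z_mem, one_mul, hwi])
    have h1 := (Finset.card_le_card hin).trans Finset.card_image_le
    rw [Finset.card_union_of_disjoint hdis, hS,
      Finset.card_image_of_injective Y (mul_right_injective t)] at h1
    omega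
  have heq : S.image f = Y := Finset.eq_of_subset_of_card_le hsub (hsmall.trans hbig)
  have : y ∈ S.image f := by rw [heq]; exact Finset.mem_filter.2 ⟨Finset.mem_univ _, hyt, hy3, hy⟩
  obtain ⟨q, hq, hqy⟩ := Finset.mem_image.1 this
  exact ⟨q, (Finset.mem_filter.1 hq).2, hqy⟩

/-- The normaliser of `⟨h⟩` in `C`. -/
def Nh (_B : H.Base) (h c : G) : Prop := c * t = t * c ∧ (c * h * c⁻¹ = h ∨ c * h * c⁻¹ = h⁻¹)

theorem nh_mul {h c d : G} (hc : B.Nh h c) (hd : B.Nh h d) : B.Nh h (c * d) := by
  refine ⟨comm_mul hc.1 hd.1, ?_⟩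
  rw [conj_mul_eq]
  rcases hd.2 with e | e <;> rw [e]
  · exact hc.2
  · rw [show c * h⁻¹ * c⁻¹ = (c * h * c⁻¹)⁻¹ by group]
    rcases hc.2 with f | f <;> rw [f] <;> simp

theorem nh_inv {h c : G} (hc : B.Nh h c) : B.Nh h c⁻¹ := by
  refine ⟨comm_inv hc.1, ?_⟩
  rcases hc.2 with e | e
  · left
    calc c⁻¹ * h * c⁻¹⁻¹ = c⁻¹ * (c * h * c⁻¹) * c := by rw [e]; group
      _ = h := by group
  · right
    calc c⁻¹ * h * c⁻¹⁻¹ = (c⁻¹ * (c * h * c⁻¹) * c)⁻¹ := by rw [e]; group
      _ = h⁻¹ := by group

theorem nh_t {h : G} (hht : h * t = t * h) : B.Nh h t :=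
  ⟨rfl, Or.inl (by rw [← hht, mul_inv_cancel_right])⟩

theorem nh_of_eqv {h c d : G} (hht : h * t = t * h) (e : Eqv t c d) (hc : B.Nh h c) : B.Nh h d := by
  rcases e with rfl | rfl
  · exact hc
  · exact B.nh_mul (B.nh_t hht) hc

theorem nh_central {h q : G} (hht : h * t = t * h) (himg : H.img h = B.rot 0) (hq : q ∈ Q)
    (hn : B.Nh h q) : Eqv t 1 q := by
  refine B.central_of_comm hht 0 (Or.inl himg) hq ?_
  rcases hn.2 with e | e
  · exact (mul_inv_eq_iff_eq_mul.1 e).symm
  · exfalso
    refine B.rot_inv_ne 0 ?_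
    have := H.img_conj (H.comm_Q hq) hht
    rw [e, H.img_inv hht, himg, (H.img_iff (H.comm_Q hq)).2 hq] at this
    simpa using this

theorem nh_lift {h : G} (hht : h * t = t * h) (hh3 : h * h * h = 1) (himg : H.img h = B.rot 0) (p : P3) :
    ∃ c, B.Nh h c ∧ H.img c = p := by
  have hc := H.rep_comm p
  have h' : H.rep p * h * (H.rep p)⁻¹ * (H.rep p * h * (H.rep p)⁻¹) * (H.rep p * h * (H.rep p)⁻¹) = 1 := by
    rw [show H.rep p * h * (H.rep p)⁻¹ * (H.rep p * h * (H.rep p)⁻¹) * (H.rep p * h * (H.rep p)⁻¹) =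
      H.rep p * (h * h * h) * (H.rep p)⁻¹ by group, hh3]
    group
  have hi : H.img (H.rep p * h * (H.rep p)⁻¹) = p * B.rot 0 * p⁻¹ := by
    rw [H.img_conj hc hht, H.img_rep, himg]
  have fin : ∀ k, k * t = t * k → k * k * k = 1 → (k = h ∨ k = h⁻¹) → H.img k = p * B.rot 0 * p⁻¹ →
      ∃ c, B.Nh h c ∧ H.img c = p := by
    intro k hkt hk3 hk hkimg
    obtain ⟨q, hq, hqe⟩ := B.exists_conj hkt hk3 0
      (hkimg ▸ B.rot_conj 0 p) (comm_conj hc hht) h' (hi.trans hkimg.symm)
    refine ⟨q⁻¹ * H.rep p, ⟨comm_mul (comm_inv (H.comm_Q hq)) hc, ?_⟩, ?_⟩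
    · rw [conj_mul_eq, ← hqe]
      have e : q⁻¹ * (q * k * q⁻¹) * q⁻¹⁻¹ = k := by group
      rw [e]
      exact hk
    · rw [H.img_mul (comm_inv (H.comm_Q hq)) hc,
        (H.img_iff (comm_inv (H.comm_Q hq))).2 (Q.inv_mem hq), one_mul, H.img_rep]
  rcases B.rot_conj 0 p with e | e
  · exact fin h hht hh3 (Or.inl rfl) (himg.trans e.symm)
  · refine fin h⁻¹ (comm_inv hht) ?_ (Or.inr rfl) (by rw [H.img_inv hht, himg, e])
    rw [show h⁻¹ * h⁻¹ * h⁻¹ = (h * h * h)⁻¹ by group, hh3, inv_one]

/-- A conjugate of order three over the first factor normalised by the three involutions. -/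
theorem exists_h : ∃ h, h * t = t * h ∧ h * h * h = 1 ∧ H.img h = B.rot 0 ∧ ∀ i, B.Nh h (B.x i) := by
  obtain ⟨h, hht, hh3, himg⟩ := B.exists_three 0
  choose c hc hci using fun i => B.nh_lift hht hh3 himg (B.sI i)
  let w : Fin 3 → G := fun i => c i * B.x i
  have hwQ : ∀ i, w i ∈ Q := fun i => by
    rw [← H.img_iff (comm_mul (hc i).1 (B.hx i).2.1), H.img_mul (hc i).1 (B.hx i).2.1, hci, B.img_x]
    funext k
    by_cases e : k = i
    · subst e; simpa [sI] using (B.hs k).2
    · simp [sI, e]
  have hxw : ∀ i j, B.x i * w j * B.x i ∈ Q := fun i j => by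
    simpa [B.x_inv] using H.ctr.conj_mem (B.hx i).2.1 (hwQ j)
  have hcw : ∀ i, c i = w i * B.x i := fun i => by
    show c i = c i * B.x i * B.x i
    rw [mul_assoc, (B.hx i).2.2.1, mul_one]
  have hpair : ∀ i j, c i * c j = w i * (B.x i * w j * B.x i) * (B.x i * B.x j) := fun i j => by
    rw [hcw i, hcw j, show w i * (B.x i * w j * B.x i) * (B.x i * B.x j) =
      w i * B.x i * w j * (B.x i * B.x i) * B.x j by group, (B.hx i).2.2.1]
    group
  let κ : Fin 3 → (Fin 3 → Bool) → Bool := fun i δ => B.co (w i) δ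
  have hvan : ∀ i δ, δ i = true → κ i δ = false := by
    intro i δ hδ
    have hmem : c i * c i ∈ Q := by
      rw [hpair, (B.hx i).2.2.1, mul_one]
      exact Q.mul_mem (hwQ i) (hxw i i)
    have e := B.nh_central hht himg hmem (B.nh_mul (hc i) (hc i))
    rw [hpair, (B.hx i).2.2.1, mul_one] at e
    have h2 : B.co (w i * (B.x i * w i * B.x i)) (Function.update δ i false) = false := by
      rw [co, H.chi_eqv e Q.one_mem (B.v_mem _)]
      exact B.co_one (Function.update δ i false)
    rw [B.co_mul (hwQ i) (hxw i i), B.co_x i (hwQ i)] at h2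
    simp only [Function.update_self, Function.update_idem, Bool.not_false, Bool.true_and] at h2
    rw [upd_self hδ] at h2
    show B.co (w i) δ = false
    cases e1 : B.co (w i) δ
    · rfl
    · rw [e1] at h2; cases e2 : B.co (w i) (Function.update δ i false) <;> simp [e2] at h2
  have hsym : ∀ i j δ, i ≠ j → δ i = false → δ j = false →
      κ j (Function.update δ i true) = κ i (Function.update δ j true) := by
    intro i j δ _ hi hj
    have hd : (c i * c j) * (c j * c i)⁻¹ ∈ Q := by
      rw [hpair i j, hpair j i, B.x_comm i j]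
      have e : w i * (B.x i * w j * B.x i) * (B.x j * B.x i) *
          (w j * (B.x j * w i * B.x j) * (B.x j * B.x i))⁻¹ =
          w i * (B.x i * w j * B.x i) * (w j * (B.x j * w i * B.x j))⁻¹ := by group
      rw [e]
      exact Q.mul_mem (Q.mul_mem (hwQ i) (hxw i j)) (Q.inv_mem (Q.mul_mem (hwQ j) (hxw j i)))
    have e := B.nh_central hht himg hd (B.nh_mul (B.nh_mul (hc i) (hc j)) (B.nh_inv (B.nh_mul (hc j) (hc i))))
    have e' : Eqv t (w j * (B.x j * w i * B.x j)) (w i * (B.x i * w j * B.x i)) := by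
      rw [hpair i j, hpair j i, B.x_comm i j] at e
      rw [show w i * (B.x i * w j * B.x i) * (B.x j * B.x i) *
          (w j * (B.x j * w i * B.x j) * (B.x j * B.x i))⁻¹ =
          w i * (B.x i * w j * B.x i) * (w j * (B.x j * w i * B.x j))⁻¹ by group] at e
      rcases e with e | e
      · exact Or.inl (mul_inv_eq_one.1 e)
      · exact Or.inr (by rw [mul_one] at e; exact mul_inv_eq_iff_eq_mul.1 e)
    have h2 : B.co (w i * (B.x i * w j * B.x i)) δ = B.co (w j * (B.x j * w i * B.x j)) δ :=
      H.chi_eqv e' (Q.mul_mem (hwQ j) (hxw j i)) (B.v_mem _)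
    rw [B.co_mul (hwQ i) (hxw i j), B.co_mul (hwQ j) (hxw j i), B.co_x i (hwQ j), B.co_x j (hwQ i), hi, hj] at h2
    simp only [Bool.not_false, Bool.true_and] at h2
    show B.co (w j) (Function.update δ i true) = B.co (w i) (Function.update δ j true)
    revert h2
    cases B.co (w i) δ <;> cases B.co (w j) δ <;> cases B.co (w j) (Function.update δ i true) <;>
      cases B.co (w i) (Function.update δ j true) <;> simp
  let κq : (Fin 3 → Bool) → Bool := fun δ =>
    if δ 0 then κ 0 (Function.update δ 0 false) else if δ 1 then κ 1 (Function.update δ 1 false)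
      else if δ 2 then κ 2 (Function.update δ 2 false) else false
  have hkey : ∀ i δ, δ i = true → κq δ = κ i (Function.update δ i false) := by
    intro i δ hi
    have step : ∀ j, δ j = true → j ≠ i →
        κ j (Function.update δ j false) = κ i (Function.update δ i false) := by
      intro j hj hne
      have h := hsym i j (Function.update (Function.update δ i false) j false) hne.symm
        (by simp [Function.update_of_ne hne.symm]) (by simp)
      have e1 : Function.update (Function.update (Function.update δ i false) j false) i true =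
          Function.update δ j false := by
        funext k
        by_cases a : k = i <;> by_cases b : k = j <;> simp_all
      have e2 : Function.update (Function.update (Function.update δ i false) j false) j true =
          Function.update δ i false := by
        funext k
        by_cases a : k = i <;> by_cases b : k = j <;> simp_all
      rwa [e1, e2] at h
    show (if δ 0 then _ else _) = _
    split_ifs with h0 h1 h2
    · by_cases e : (0 : Fin 3) = i
      · subst e; rfl
      · exact step 0 h0 e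
    · by_cases e : (1 : Fin 3) = i
      · subst e; rfl
      · exact step 1 h1 e
    · by_cases e : (2 : Fin 3) = i
      · subst e; rfl
      · exact step 2 h2 e
    · exfalso; fin_cases i <;> simp_all
  set q := B.combo κq with hq
  have hqQ : q ∈ Q := B.combo_mem _
  have hcoinv : ∀ δ, B.co q⁻¹ δ = B.co q δ := by
    intro δ
    have := B.co_mul hqQ (Q.inv_mem hqQ) δ
    rw [mul_inv_cancel, B.co_one] at this
    cases e1 : B.co q δ <;> cases e2 : B.co q⁻¹ δ <;> simp_all
  have hnorm : ∀ i, B.Nh h (q * B.x i * q⁻¹) := by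
    intro i
    have hm : q * (B.x i * q⁻¹ * B.x i) ∈ Q := by
      have h2 := H.ctr.conj_mem (B.hx i).2.1 (Q.inv_mem hqQ)
      rw [B.x_inv] at h2
      exact Q.mul_mem hqQ h2
    have e : Eqv t (w i) (q * (B.x i * q⁻¹ * B.x i)) := by
      refine B.eqv_of_co (hwQ i) hm fun δ => ?_
      have hxq : B.x i * q⁻¹ * B.x i ∈ Q := by
        simpa [B.x_inv] using H.ctr.conj_mem (B.hx i).2.1 (Q.inv_mem hqQ)
      rw [B.co_mul hqQ hxq, B.co_x i (Q.inv_mem hqQ), hcoinv, hcoinv, hq, B.co_combo, B.co_combo]
      cases hδ : δ i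
      · rw [hkey i _ (Function.update_self i true δ), Function.update_idem,
          upd_self hδ]
        show κ i δ = _
        cases κq δ <;> simp
      · show κ i δ = _
        rw [hvan i δ hδ]
        cases κq δ <;> simp
    have e' := H.eqv_mul (H.comm_Q (hwQ i)) e (Eqv.refl t (B.x i))
    rw [← hcw i, show q * (B.x i * q⁻¹ * B.x i) * B.x i = q * B.x i * q⁻¹ * (B.x i * B.x i) by group,
      (B.hx i).2.2.1, mul_one] at e'
    exact B.nh_of_eqv hht e' (hc i)
  refine ⟨q⁻¹ * h * q, ?_, ?_, ?_, fun i => ⟨(B.hx i).2.1, ?_⟩⟩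
  · simpa using comm_conj (comm_inv (H.comm_Q hqQ)) hht
  · rw [show q⁻¹ * h * q * (q⁻¹ * h * q) * (q⁻¹ * h * q) = q⁻¹ * (h * h * h) * q by group, hh3]
    group
  · have := H.img_conj (comm_inv (H.comm_Q hqQ)) hht
    rw [inv_inv, H.img_inv (H.comm_Q hqQ), (H.img_iff (H.comm_Q hqQ)).2 hqQ, himg] at this
    simpa using this
  · rcases (hnorm i).2 with e | e
    · left
      calc B.x i * (q⁻¹ * h * q) * (B.x i)⁻¹ = q⁻¹ * (q * B.x i * q⁻¹ * h * (q * B.x i * q⁻¹)⁻¹) * q := by group
        _ = _ := by rw [e]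
    · right
      calc B.x i * (q⁻¹ * h * q) * (B.x i)⁻¹ = q⁻¹ * (q * B.x i * q⁻¹ * h * (q * B.x i * q⁻¹)⁻¹) * q := by group
        _ = _ := by rw [e]; group

/-- Weyl elements of the three factors. -/
structure Split (B : H.Base) where
  n : Fin 3 → G
  hn : ∀ i, n i * t = t * n i ∧ n i * n i = 1 ∧ H.img (n i) = B.mI i
  n_comm : ∀ i j, n i * n j = n j * n i
  n_x : ∀ i j, i ≠ j → n i * B.x j = B.x j * n i
  braid : ∀ i, B.x i * n i * (B.x i * n i) * (B.x i * n i) = 1

theorem exists_split : Nonempty B.Split := by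
  obtain ⟨h₀, hht, hh3, himg, hx⟩ := B.exists_h
  have uniq : ∀ {y z : G}, B.Nh h₀ y → B.Nh h₀ z → y * y * y = 1 → z * z * z = 1 → H.img y = H.img z →
      y = z := by
    intro y z hy hz hy3 hz3 he
    rcases B.nh_central hht himg ((H.img_eq_iff hy.1 hz.1).1 he) (B.nh_mul (B.nh_inv hy) hz) with e | e
    · exact inv_mul_eq_one.1 e
    · exfalso
      rw [mul_one] at e
      have ez : z = y * t := inv_mul_eq_iff_eq_mul.1 e
      apply H.ctr.ne_one
      rw [ez] at hz3
      calc t = y * y * y * (t * t * t) := by rw [hy3, H.ctr.zz, one_mul, one_mul]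
        _ = y * t * (y * t) * (y * t) := by
            have c : Commute y t := hy.1
            calc y * y * y * (t * t * t) = y * y * (y * t) * t * t := by group
              _ = y * y * (t * y) * t * t := by rw [c.eq]
              _ = y * (y * t) * (y * t) * t := by group
              _ = y * (t * y) * (y * t) * t := by rw [c.eq]
              _ = y * t * y * (y * t) * t := by group
              _ = y * t * (y * (t * y)) * t := by rw [c.eq]; group
              _ = _ := by group
        _ = 1 := hz3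
  choose c hc hci using fun i => B.nh_lift hht hh3 himg (B.rot i)
  let hh : Fin 3 → G := fun i => c i * c i * (c i * c i)
  have hhN : ∀ i, B.Nh h₀ (hh i) := fun i => B.nh_mul (B.nh_mul (hc i) (hc i)) (B.nh_mul (hc i) (hc i))
  have hhimg : ∀ i, H.img (hh i) = B.rot i := fun i => by
    show H.img (c i * c i * (c i * c i)) = _
    rw [H.img_mul (comm_mul (hc i).1 (hc i).1) (comm_mul (hc i).1 (hc i).1), H.img_mul (hc i).1 (hc i).1, hci]
    calc B.rot i * B.rot i * (B.rot i * B.rot i) = B.rot i * B.rot i * B.rot i * B.rot i := by group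
      _ = _ := by rw [B.rot_cube, one_mul]
  have hh33 : ∀ i, hh i * hh i * hh i = 1 := fun i => by
    have hm : c i * c i * c i ∈ Q := by
      rw [← H.img_iff (comm_mul (comm_mul (hc i).1 (hc i).1) (hc i).1),
        H.img_mul (comm_mul (hc i).1 (hc i).1) (hc i).1, H.img_mul (hc i).1 (hc i).1, hci]
      exact B.rot_cube i
    have e := B.nh_central hht himg hm (B.nh_mul (B.nh_mul (hc i) (hc i)) (hc i))
    have e6 : c i * c i * c i * (c i * c i * c i) = 1 := by
      rcases e with e | e <;> rw [e]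
      · simp
      · rw [mul_one, H.ctr.zz]
    show c i * c i * (c i * c i) * (c i * c i * (c i * c i)) * (c i * c i * (c i * c i)) = 1
    calc c i * c i * (c i * c i) * (c i * c i * (c i * c i)) * (c i * c i * (c i * c i)) =
        c i * c i * c i * (c i * c i * c i) * (c i * c i * c i * (c i * c i * c i)) := by group
      _ = 1 := by rw [e6, one_mul]
  have conj3 : ∀ (k y : G), y * y * y = 1 → k * y * k⁻¹ * (k * y * k⁻¹) * (k * y * k⁻¹) = 1 := fun k y e => by
    rw [show k * y * k⁻¹ * (k * y * k⁻¹) * (k * y * k⁻¹) = k * (y * y * y) * k⁻¹ by group, e]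
    group
  have hhh : ∀ i j, hh i * hh j = hh j * hh i := by
    intro i j
    refine mul_inv_eq_iff_eq_mul.1 (uniq (B.nh_mul (B.nh_mul (hhN i) (hhN j)) (B.nh_inv (hhN i))) (hhN j)
      (conj3 _ _ (hh33 j)) (hh33 j) ?_)
    rw [H.img_conj (hhN i).1 (hhN j).1, hhimg, hhimg]
    funext k
    by_cases a : k = i <;> by_cases b : k = j
    · subst a; subst b; simp
    · subst a; simp [rot, Function.update_apply, b]
    · subst b; simp [rot, Function.update_apply, a]
    · simp [rot, Function.update_apply, a, b]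
  have hxh : ∀ i j, i ≠ j → B.x i * hh j = hh j * B.x i := by
    intro i j hne
    refine mul_inv_eq_iff_eq_mul.1 (uniq (B.nh_mul (B.nh_mul (hx i) (hhN j)) (B.nh_inv (hx i))) (hhN j)
      (conj3 _ _ (hh33 j)) (hh33 j) ?_)
    rw [H.img_conj (B.hx i).2.1 (hhN j).1, hhimg, B.img_x]
    funext k
    by_cases a : k = i <;> by_cases b : k = j
    · exact absurd (a.symm.trans b) hne
    · subst a; simp [rot, sI, Function.update_apply, b]
    · subst b; simp [rot, sI, Function.update_apply, a]
    · simp [rot, sI, Function.update_apply, a, b]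
  have hxi : ∀ i, B.x i * hh i * B.x i = (hh i)⁻¹ := by
    intro i
    have h3' : (hh i)⁻¹ * (hh i)⁻¹ * (hh i)⁻¹ = 1 := by
      rw [show (hh i)⁻¹ * (hh i)⁻¹ * (hh i)⁻¹ = (hh i * hh i * hh i)⁻¹ by group, hh33, inv_one]
    have := uniq (B.nh_mul (B.nh_mul (hx i) (hhN i)) (B.nh_inv (hx i))) (B.nh_inv (hhN i))
      (conj3 _ _ (hh33 i)) h3' (by
        rw [H.img_conj (B.hx i).2.1 (hhN i).1, H.img_inv (hhN i).1, hhimg, B.img_x]
        funext k
        by_cases a : k = i
        · subst a
          simp only [rot, sI, Pi.mul_apply, Pi.inv_apply, Function.update_self]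
          exact (perm3_rot _ (B.hs k).1 (B.hs k).2 _ (B.hm k).1 (B.hm k).2.1 (B.hm k).2.2).2.2.1
        · simp [rot, sI, a])
    rwa [B.x_inv] at this
  let n : Fin 3 → G := fun i => hh i * B.x i * (hh i)⁻¹
  have hnx : ∀ i j, i ≠ j → n i * B.x j = B.x j * n i := by
    intro i j hne
    have c1 : Commute (B.x j) (hh i) := hxh j i hne.symm
    have c2 : Commute (B.x j) (B.x i) := B.x_comm j i
    exact ((c1.mul_right c2).mul_right c1.inv_right).eq.symm
  refine ⟨⟨n, fun i => ⟨comm_conj (hhN i).1 (B.hx i).2.1, ?_, ?_⟩, fun i j => ?_, hnx, fun i => ?_⟩⟩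
  · show hh i * B.x i * (hh i)⁻¹ * (hh i * B.x i * (hh i)⁻¹) = 1
    rw [show hh i * B.x i * (hh i)⁻¹ * (hh i * B.x i * (hh i)⁻¹) = hh i * (B.x i * B.x i) * (hh i)⁻¹ by group,
      (B.hx i).2.2.1]
    group
  · show H.img (hh i * B.x i * (hh i)⁻¹) = B.mI i
    rw [H.img_conj (hhN i).1 (B.hx i).2.1, hhimg, B.img_x]
    funext k
    by_cases a : k = i
    · subst a
      simp only [rot, sI, mI, Pi.mul_apply, Pi.inv_apply, Function.update_self]
      exact (perm3_rot _ (B.hs k).1 (B.hs k).2 _ (B.hm k).1 (B.hm k).2.1 (B.hm k).2.2).2.2.2.1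
    · simp [rot, sI, mI, a]
  · by_cases e : i = j
    · subst e; rfl
    · have d1 : Commute (hh i) (hh j) := hhh i j
      have d2 : Commute (hh i) (B.x j) := (hxh j i (Ne.symm e)).symm
      have d3 : Commute (B.x i) (hh j) := hxh i j e
      have d4 : Commute (B.x i) (B.x j) := B.x_comm i j
      have e1 : Commute (hh i) (n j) := (d1.mul_right d2).mul_right d1.inv_right
      have e2 : Commute (B.x i) (n j) := (d3.mul_right d4).mul_right d3.inv_right
      exact ((e1.mul_left e2).mul_left e1.inv_left).eq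
  · have e : B.x i * n i = hh i := by
      show B.x i * (hh i * B.x i * (hh i)⁻¹) = hh i
      rw [← mul_assoc, ← mul_assoc, hxi i, ← mul_inv_rev]
      exact inv_eq_of_mul_eq_one_right (hh33 i)
    rw [e]
    exact hh33 i

end Hyp.Base

end Cfsg.Agent.OmegaEightInv
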