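import Cfsg.Agent.Lib.OmegaEightInv.Braid
import Cfsg.Agent.Lib.OmegaEightInv.Fusion

/-!
The root subgroup meets every conjugate of `t` in `Q` and has trivial centre: the hypotheses of the model half.
-/

set_option autoImplicit false
set_option linter.style.haveILetI false
set_option linter.unusedSectionVars false

namespace Cfsg.Agent.OmegaEightInv

open Subgroup Cfsg.Agent.LargeExtra

variable {G : Type*} [Group G]

theorem perm3_conj : ∀ s : Equiv.Perm (Fin 3), s ≠ 1 → s * s = 1 → ∀ s' : Equiv.Perm (Fin 3), s' ≠ 1 →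
    s' * s' = 1 → ∃ c : Equiv.Perm (Fin 3), c * s' = s * c := by decide +kernel

theorem gen_mem {n : Fin 4 → G} {t w : G} (hw : w ∈ closure (Set.range n)) : w * t * w⁻¹ ∈ rootGroup n t :=
  subset_closure ⟨w, hw, rfl⟩

namespace Hyp.Base.Node

variable {Q : Subgroup G} {t : G} [Finite G] {H : Hyp Q t} {B : H.Base} {S : B.Split} (N : Node S)

theorem k_closure : N.k ∈ closure (Set.range N.nn) := subset_closure ⟨1, rfl⟩

theorem P_closure (δ : Fin 3 → Bool) : S.P δ ∈ closure (Set.range N.nn) := by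
  have h : ∀ i, (if δ i then S.n i else 1) ∈ closure (Set.range N.nn) := fun i => by
    split_ifs
    · fin_cases i
      · exact subset_closure ⟨0, rfl⟩
      · exact subset_closure ⟨2, rfl⟩
      · exact subset_closure ⟨3, rfl⟩
    · exact one_mem _
  exact mul_mem (mul_mem (h 0) (h 1)) (h 2)

theorem conj_P_k (w : G) (δ : Fin 3 → Bool) : w * S.q δ * w⁻¹ = w * S.P δ * N.k * t * (w * S.P δ * N.k)⁻¹ := by
  rw [Split.q, ← N.k_t]
  simp only [mul_inv_rev, N.k_inv]
  group

theorem t_root : t ∈ rootGroup N.nn t := by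
  simpa using gen_mem (t := t) (one_mem (closure (Set.range N.nn)))

theorem q_root (δ : Fin 3 → Bool) : S.q δ ∈ rootGroup N.nn t := by
  have h := N.conj_P_k 1 δ
  rw [one_mul, inv_one, mul_one, one_mul] at h
  rw [h]
  exact gen_mem (mul_mem (N.P_closure δ) N.k_closure)

theorem y_root : N.y ∈ rootGroup N.nn t := by
  have e : N.y = N.k * S.top * N.k⁻¹ := by rw [N.k_inv, N.k_top]
  rw [e, Split.top, N.conj_P_k]
  exact gen_mem (mul_mem (mul_mem N.k_closure (N.P_closure _)) N.k_closure)

theorem k_root : N.k ∈ rootGroup N.nn t := mul_mem (mul_mem (N.q_root _) N.y_root) (N.q_root _)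

theorem center {c : G} (hcom : ∀ z ∈ rootGroup N.nn t, c * z = z * c) : c = 1 := by
  have ha : B.a ∈ rootGroup N.nn t := by rw [← S.q_none]; exact N.q_root _
  have hX := hcom S.top (N.q_root _)
  rcases S.small (hcom t N.t_root) (hcom _ ha) (fun i => hcom _ (N.q_root _)) (fun i => hcom _ (N.q_root _))
    with e | e | e | e
  · exact e
  · exfalso
    have h := hcom N.y N.y_root
    rw [e] at h
    have h2 := N.y_t
    rw [← h, mul_assoc, N.y_sq] at h2
    exact H.a_ne_one (mul_left_cancel h2).symm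
  · exfalso
    have h2 := S.top_a
    rw [← e, ← hX, mul_assoc, S.top_sq, mul_one] at h2
    exact H.ctr.ne_one (mul_eq_right.1 h2.symm)
  · exfalso
    have h2 : S.top * c * S.top = c := by rw [← hX, mul_assoc, S.top_sq, mul_one]
    rw [e, conj_two S.top_sq, S.top_t.eq, mul_assoc t, S.top_sq, mul_one, S.top_a] at h2
    exact H.ctr.ne_one (mul_eq_right.1 (mul_left_cancel h2))

theorem fused (hle : centralizer ({t} : Set G) ≤ rootGroup N.nn t) {g : G} (hg : g * t * g⁻¹ ∈ Q) :
    ∃ m ∈ rootGroup N.nn t, m * t * m⁻¹ = g * t * g⁻¹ := by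
  by_cases hne : g * t * g⁻¹ = t
  · exact ⟨1, one_mem _, by rw [hne]; simp⟩
  obtain ⟨B', rfl⟩ := exists_base H ⟨hg, hne⟩
  choose p hp using fun i => perm3_conj (B.s i) (B.hs i).1 (B.hs i).2 (B'.s i) (B'.hs i).1 (B'.hs i).2
  set a'' := H.act p B'.a with ha''
  have hQ : a'' ∈ Q := H.act_mem B'.a_mem _
  have hfix : ∀ i, Eqv t a'' (B.x i * a'' * B.x i) := fun i => by
    have e : B.sI i * p = p * B'.sI i := by
      funext j
      by_cases h : j = i
      · subst h; simp [sI, hp]
      · simp [sI, h]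
    have h1 : Eqv t a'' (H.act p (H.act (B'.sI i) B'.a)) := H.act_eqv (B'.act_sI_a i) p
    have h2 : Eqv t (H.act (p * B'.sI i) B'.a) (H.act p (H.act (B'.sI i) B'.a)) := H.act_mul B'.a_mem _ _
    rw [← e] at h2
    have h3 : Eqv t (H.act (B.sI i * p) B'.a) (H.act (B.sI i) a'') := H.act_mul B'.a_mem _ _
    exact H.eqv_trans (H.eqv_trans (H.eqv_trans h1 (H.eqv_symm h2)) h3) (B.x_act i hQ)
  have hco : ∀ δ, δ ≠ (fun _ => false) → B.co a'' δ = false := by
    intro δ hδ
    obtain ⟨i, hi⟩ : ∃ i, δ i = true := by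
      by_contra hh
      push Not at hh
      exact hδ (funext fun i => by simpa using hh i)
    set δ' := Function.update δ i false with hδ'
    have he : B.co a'' δ' = B.co (B.x i * a'' * B.x i) δ' := by
      rw [co, co]
      exact (H.chi_eqv (hfix i) hQ (B.v_mem _)).symm
    rw [B.co_x i hQ, hδ', Function.update_self, Function.update_idem, upd_self hi] at he
    revert he
    cases B.co a'' (Function.update δ i false) <;> cases B.co a'' δ <;> simp
  have hcl : Eqv t 1 a'' ∨ Eqv t B.a a'' := by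
    cases hb : B.co a'' fun _ => false
    · refine Or.inl (B.eqv_of_co Q.one_mem hQ fun δ => ?_)
      rw [B.co_one]
      by_cases e : δ = fun _ => false
      · rw [e, hb]
      · exact (hco δ e).symm
    · refine Or.inr (B.eqv_of_co B.a_mem hQ fun δ => ?_)
      rw [← S.q_none, S.co_q]
      by_cases e : δ = fun _ => false
      · rw [e, hb, decide_eq_true rfl]
      · rw [hco δ e, decide_eq_false (Ne.symm e)]
  set r := H.rep p with hr
  have hrt := H.rep_comm p
  rw [← hr] at hrt
  have back : ∀ m ∈ rootGroup N.nn t, m * t * m⁻¹ = a'' → ∃ m ∈ rootGroup N.nn t, m * t * m⁻¹ = B'.a := by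
    intro m hm e
    refine ⟨r⁻¹ * m, mul_mem (inv_mem (hle (mem_centralizer_singleton_iff.2 hrt))) hm, ?_⟩
    have e' : m * t * m⁻¹ = r * B'.a * r⁻¹ := e
    revert e'
    generalize B'.a = A
    intro e'
    calc r⁻¹ * m * t * (r⁻¹ * m)⁻¹ = r⁻¹ * (m * t * m⁻¹) * r := by group
      _ = r⁻¹ * (r * A * r⁻¹) * r := by rw [e']
      _ = _ := by group
  rcases hcl with (e | e) | (e | e)
  · refine absurd ?_ (H.a_ne_one (g := B'.g))
    have e' : r * B'.a * r⁻¹ = 1 := e
    exact conj_eq_one_iff.1 e'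
  · refine absurd ?_ hne
    have e' : r * B'.a * r⁻¹ = t := e.trans (mul_one t)
    rw [mul_inv_eq_iff_eq_mul, ← hrt] at e'
    exact mul_left_cancel e'
  · exact back N.k N.k_root (by rw [N.k_inv, N.k_t, e])
  · refine back (S.top * N.k) (mul_mem (N.q_root _) N.k_root) ?_
    rw [e, mul_inv_rev, N.k_inv, inv_eq_of_mul_eq_one_right S.top_sq]
    calc S.top * N.k * t * (N.k * S.top) = S.top * (N.k * t * N.k) * S.top := by group
      _ = _ := by rw [N.k_t, S.top_a]

theorem topHyp (hle : centralizer ({t} : Set G) ≤ rootGroup N.nn t) : TopHyp N.nn t Q where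
  rels := N.rels
  cent_le := hle
  card_cent := H.card_C
  sq_mem := fun _ hg ⟨_, hk⟩ => H.sq_mem hg hk
  fused := fun _ hg => N.fused hle hg
  center := fun _ _ hcom => N.center hcom

end Hyp.Base.Node

end Cfsg.Agent.OmegaEightInv
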