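import Cfsg.Agent.Lib.OmegaEightInv.Levi

/-!
The exact root elements `q δ` of `Q` and the root element `y` of the branch node in `Q_a`. Multiplying
some of the `x i`, `n i` by `t` makes `[q (others i), y] = x i`.
-/

set_option autoImplicit false
set_option linter.style.haveILetI false
set_option linter.unusedSectionVars false

namespace Cfsg.Agent.OmegaEightInv

open Subgroup Cfsg.Agent.LargeExtra

variable {G : Type*} [Group G]

/-- The indicator of one index. -/
def one3 (i : Fin 3) : Fin 3 → Bool := fun j => decide (j = i)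

/-- The indicator of the other two indices. -/
def oth (i : Fin 3) : Fin 3 → Bool := fun j => !decide (j = i)

theorem oth_ne_none : ∀ i : Fin 3, (fun _ => false) ≠ fun k => !oth i k := by decide

theorem one3_ne_oth : ∀ i l : Fin 3, i ≠ l → one3 l ≠ fun k => !oth i k := by decide

theorem oth_update : ∀ i l : Fin 3, i ≠ l → ∃ k, Function.update (oth i) l false = one3 k := by decide

theorem oth_opp : ∀ l i : Fin 3, decide (oth l = fun k => !one3 i k) = decide (l = i) := by decide

theorem bits_cases : ∀ δ : Fin 3 → Bool, δ = (fun _ => false) ∨ (∃ i, δ = one3 i) ∨ (∃ i, δ = oth i) ∨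
    δ = fun _ => true := by decide +kernel

theorem swap_conj {y t a : G} (e : y * t = a * (t * y)) (y2 : y * y = 1) (ta : a * t = t * a) :
    y * t * y = t * a := by
  rw [e, mul_assoc, mul_assoc, y2, mul_one, ta]

theorem twist_comm {y u x t a : G} (ux : u * x = a * (x * u)) (ut : u * t = t * u) (ya : y * a = a * y)
    (yx : y * x = x * y) (yt : y * t = t * a * y) (ta : a * t = t * a) (xa : x * a = a * x) (a2 : a * a = 1) :
    y * u * (x * t) = x * t * (y * u) := by
  calc y * u * (x * t) = y * (u * x) * t := by group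
    _ = (y * a) * x * (u * t) := by rw [ux]; group
    _ = a * (y * x) * t * u := by rw [ya, ut]; group
    _ = a * x * (y * t) * u := by rw [yx]; group
    _ = a * x * (a * t) * (y * u) := by rw [yt, ta]; group
    _ = a * (x * a) * t * (y * u) := by group
    _ = _ := by rw [xa, ← mul_assoc a a x, a2, one_mul]

theorem twist_conj {y u p x t a : G} (up : u * p = t * (p * u)) (uy : u * y = y * u) (u2 : u * u = 1)
    (yt : y * t = t * a * y) (ypy : y * p * y = p * a * x) (pt : p * t = t * p) (pa : p * a = a * p)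
    (a2 : a * a = 1) (xt : x * t = t * x) : y * u * p * (y * u) = p * (x * t) := by
  have c : t * a * p = p * (t * a) := ((Commute.mul_right pt pa : Commute p (t * a)).eq).symm
  calc y * u * p * (y * u) = y * (u * p) * (y * u) := by group
    _ = (y * t) * p * (u * y) * u := by rw [up]; group
    _ = t * a * (y * p * y) * (u * u) := by rw [yt, uy]; group
    _ = t * a * p * (a * x) := by rw [ypy, u2]; group
    _ = p * (t * (a * a) * x) := by rw [c]; group
    _ = _ := by rw [a2, mul_one, xt]

namespace Hyp.Base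

variable {Q : Subgroup G} {t : G} [Finite G] {H : Hyp Q t} {B : H.Base} (S : B.Split)

theorem Split.n_inv (i : Fin 3) : (S.n i)⁻¹ = S.n i := inv_eq_of_mul_eq_one_right (S.hn i).2.1

/-- The product of the Weyl elements over a subset. -/
def Split.P (δ : Fin 3 → Bool) : G :=
  (if δ 0 then S.n 0 else 1) * (if δ 1 then S.n 1 else 1) * (if δ 2 then S.n 2 else 1)

theorem Split.P_comm_t (δ : Fin 3 → Bool) : S.P δ * t = t * S.P δ := by
  have h : ∀ i, (if δ i then S.n i else 1) * t = t * (if δ i then S.n i else 1) := fun i => by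
    split_ifs
    · exact (S.hn i).1
    · simp
  exact comm_mul (comm_mul (h 0) (h 1)) (h 2)

theorem Split.n_mul_P (i : Fin 3) (δ : Fin 3 → Bool) :
    S.n i * S.P δ = S.P (Function.update δ i (!δ i)) := by
  have key : ∀ i, ∀ b : Bool, S.n i * (if b then S.n i else 1) = if !b then S.n i else 1 := fun i b => by
    cases b <;> simp [(S.hn i).2.1]
  have c10 : ∀ b : Bool, S.n 1 * (if b then S.n 0 else 1) = (if b then S.n 0 else 1) * S.n 1 := fun b => by
    cases b <;> simp [S.n_comm 1 0]
  have c20 : ∀ b : Bool, S.n 2 * (if b then S.n 0 else 1) = (if b then S.n 0 else 1) * S.n 2 := fun b => by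
    cases b <;> simp [S.n_comm 2 0]
  have c21 : ∀ b : Bool, S.n 2 * (if b then S.n 1 else 1) = (if b then S.n 1 else 1) * S.n 2 := fun b => by
    cases b <;> simp [S.n_comm 2 1]
  fin_cases i
  · show S.n 0 * _ = _
    simp only [Split.P, ← mul_assoc, key]
    simp
  · show S.n 1 * _ = _
    simp only [Split.P, ← mul_assoc, c10]
    rw [mul_assoc _ (S.n 1), key]
    simp
  · show S.n 2 * _ = _
    simp only [Split.P, ← mul_assoc, c20]
    rw [mul_assoc _ (S.n 2), c21, ← mul_assoc, mul_assoc _ (S.n 2), key]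
    simp

theorem Split.img_P (δ : Fin 3 → Bool) : H.img (S.P δ) = B.mS δ := by
  have h : ∀ i, (if δ i then S.n i else 1) * t = t * (if δ i then S.n i else 1) ∧
      H.img (if δ i then S.n i else 1) = Function.update (1 : P3) i (if δ i then B.m i else 1) := fun i => by
    cases δ i
    · simp [H.img_one]
    · exact ⟨(S.hn i).1, (S.hn i).2.2⟩
  rw [Split.P, H.img_mul (comm_mul (h 0).1 (h 1).1) (h 2).1, H.img_mul (h 0).1 (h 1).1, (h 0).2, (h 1).2, (h 2).2]
  funext k
  fin_cases k <;> simp [mS, Function.update]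

/-- The root elements in `Q`. -/
def Split.q (δ : Fin 3 → Bool) : G := S.P δ * B.a * (S.P δ)⁻¹

theorem Split.q_mem (δ : Fin 3 → Bool) : S.q δ ∈ Q := H.ctr.conj_mem (S.P_comm_t δ) B.a_mem

theorem Split.q_v (δ : Fin 3 → Bool) : Eqv t (B.v δ) (S.q δ) :=
  H.act_congr (S.P_comm_t δ) B.a_mem (S.img_P δ)

theorem Split.q_none : S.q (fun _ => false) = B.a := by simp [Split.q, Split.P]

theorem a_sq : B.a * B.a = 1 := (H.ctr' (g := B.g)).zz

theorem Split.q_sq (δ : Fin 3 → Bool) : S.q δ * S.q δ = 1 := by
  rw [Split.q, show S.P δ * B.a * (S.P δ)⁻¹ * (S.P δ * B.a * (S.P δ)⁻¹) = S.P δ * (B.a * B.a) * (S.P δ)⁻¹ by group,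
    a_sq]
  group

theorem Split.n_q (i : Fin 3) (δ : Fin 3 → Bool) :
    S.n i * S.q δ * S.n i = S.q (Function.update δ i (!δ i)) := by
  rw [Split.q, Split.q, ← S.n_mul_P, mul_inv_rev, S.n_inv]
  simp only [mul_assoc]

theorem Split.chi_q (δ ε : Fin 3 → Bool) : chi (S.q δ) (S.q ε) = decide (ε = fun i => !δ i) := by
  rw [H.chi_eqv (S.q_v δ) (B.v_mem δ) (S.q_mem ε), chi_comm, H.chi_eqv (S.q_v ε) (B.v_mem ε) (B.v_mem δ),
    B.chi_v, B.f_eq]
  revert δ ε
  decide

theorem Split.q_comm {δ ε : Fin 3 → Bool} (h : ε ≠ fun i => !δ i) : S.q δ * S.q ε = S.q ε * S.q δ :=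
  chi_eq_false.1 (by rw [S.chi_q]; simpa using h)

theorem Split.q_opp (δ : Fin 3 → Bool) :
    S.q δ * S.q (fun i => !δ i) = t * (S.q (fun i => !δ i) * S.q δ) := by
  have h := chi_conj H.ctr (S.q_mem δ) (S.q_mem fun i => !δ i)
  rwa [S.chi_q, decide_eq_true rfl, if_pos rfl] at h

theorem Split.x_P {δ : Fin 3 → Bool} {j : Fin 3} (h : δ j = false) : B.x j * S.P δ = S.P δ * B.x j := by
  have h' : ∀ i, Commute (B.x j) (if δ i then S.n i else 1) := fun i => by
    by_cases e : i = j
    · subst e; simp [h]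
    · split_ifs
      · exact (S.n_x i j e).symm
      · exact Commute.one_right _
  exact (((h' 0).mul_right (h' 1)).mul_right (h' 2)).eq

theorem Split.x_out {δ : Fin 3 → Bool} {j : Fin 3} (h : δ j = false) :
    B.x j * S.q δ * B.x j = S.q δ := by
  have c1 : Commute (B.x j) (S.P δ) := S.x_P h
  have c2 : Commute (B.x j) (S.q δ) := ((c1.mul_right (B.x_a j)).mul_right c1.inv_right)
  rw [c2.eq, mul_assoc, (B.hx j).2.2.1, mul_one]

theorem Split.q_one3_mem (i : Fin 3) : S.q (one3 i) ∈ Q ⊓ H.Qa B.g := by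
  refine H.eqv_mem_W B.pair (S.q_v _) ?_
  fin_cases i
  · exact B.v_single_mem_W (i := 0) (j := 1) (k := 2) (by decide) (by decide) (by decide)
  · exact B.v_single_mem_W (i := 1) (j := 0) (k := 2) (by decide) (by decide) (by decide)
  · exact B.v_single_mem_W (i := 2) (j := 0) (k := 1) (by decide) (by decide) (by decide)

theorem Split.x_one3 (i : Fin 3) : B.x i * S.q (one3 i) * B.x i = B.a * S.q (one3 i) := by
  refine (B.x_W i (S.q_one3_mem i)).resolve_left fun e => ?_
  have h1 := B.x_v_in (δ := one3 i) (i := i) (by simp [one3])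
  have hu : Function.update (one3 i) i false = fun _ => false := by
    funext k; by_cases h : k = i <;> simp [one3, h]
  rw [hu] at h1
  have h2 : Eqv t (B.a * S.q (one3 i)) (B.x i * S.q (one3 i) * B.x i) := by
    refine H.eqv_trans (H.eqv_mul (H.comm_Q B.a_mem) B.v_none (H.eqv_symm (S.q_v _))) (H.eqv_trans h1 ?_)
    have := H.eqv_conj (B.hx i).2.1 (S.q_v (one3 i))
    rwa [B.x_inv] at this
  rw [e] at h2
  rcases h2 with f | f
  · exact H.a_ne_one (mul_eq_right.1 f.symm)
  · have f' : (1 : G) * S.q (one3 i) = t * B.a * S.q (one3 i) := by rw [one_mul, mul_assoc]; exact f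
    exact B.pair.ne ((eq_inv_of_mul_eq_one_right (mul_right_cancel f').symm).trans H.ctr.inv_self)

theorem Split.x_in {δ : Fin 3 → Bool} {i : Fin 3} (h : δ i = true) :
    B.x i * S.q δ * B.x i = S.q (Function.update δ i false) * S.q δ := by
  set δ' := Function.update δ i false
  have hP : S.P δ = S.P δ' * S.P (one3 i) := by
    have e1 : S.n i * S.P δ' = S.P δ := by
      rw [S.n_mul_P]
      congr 1
      funext k
      by_cases e : k = i
      · subst e; simp [δ', h]
      · simp [δ', e]
    have e2 : S.P (one3 i) = S.n i := by fin_cases i <;> simp [Split.P, one3]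
    have hc : ∀ k, Commute (S.n i) (if δ' k then S.n k else 1) := fun k => by
      split_ifs
      · exact S.n_comm i k
      · exact Commute.one_right _
    rw [e2, ← e1]
    exact (((hc 0).mul_right (hc 1)).mul_right (hc 2)).eq
  have hq : S.q δ = S.P δ' * S.q (one3 i) * (S.P δ')⁻¹ := by
    simp only [Split.q, hP]; group
  have hc : B.x i * S.P δ' = S.P δ' * B.x i := S.x_P (by simp [δ'])
  have hc' : (S.P δ')⁻¹ * B.x i = B.x i * (S.P δ')⁻¹ := ((show Commute (B.x i) (S.P δ') from hc).inv_right).eq.symm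
  calc B.x i * S.q δ * B.x i = (B.x i * S.P δ') * S.q (one3 i) * ((S.P δ')⁻¹ * B.x i) := by rw [hq]; group
    _ = S.P δ' * (B.x i * S.q (one3 i) * B.x i) * (S.P δ')⁻¹ := by rw [hc, hc']; group
    _ = (S.P δ' * B.a * (S.P δ')⁻¹) * (S.P δ' * S.q (one3 i) * (S.P δ')⁻¹) := by rw [S.x_one3]; group
    _ = _ := by rw [← hq]; rfl

theorem Split.chi_x_one3 (i l : Fin 3) : chi (B.x i) (S.q (one3 l)) = decide (i = l) := by
  by_cases h : i = l
  · subst h
    simp only [decide_true]
    refine chi_eq_true.2 fun e => ?_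
    have h1 := S.x_one3 i
    rw [e, mul_assoc, (B.hx i).2.2.1, mul_one] at h1
    exact H.a_ne_one (mul_eq_right.1 h1.symm)
  · simp only [h, decide_false]
    refine chi_eq_false.2 ?_
    have h1 := S.x_out (δ := one3 l) (j := i) (by simp [one3, h])
    calc B.x i * S.q (one3 l) = B.x i * S.q (one3 l) * (B.x i * B.x i) := by rw [(B.hx i).2.2.1, mul_one]
      _ = B.x i * S.q (one3 l) * B.x i * B.x i := by group
      _ = _ := by rw [h1]

/-- An element of `C` fixing `a` and the single classes lies in `Q`. -/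
theorem Split.mem_of_fix {c : G} (hc : c * t = t * c) (hca : c * B.a = B.a * c)
    (hq : ∀ i, c * S.q (one3 i) = S.q (one3 i) * c) : c ∈ Q := by
  rw [← H.img_iff hc]
  by_contra hne
  obtain ⟨i, hi⟩ : ∃ i, H.img c i ≠ 1 := by
    by_contra hh
    push Not at hh
    exact hne (funext hh)
  let f : Fin 3 → G := fun j => if H.img c j = 1 then 1 else B.x j
  have hf : ∀ j, f j * t = t * f j ∧ H.img (f j) = Function.update (1 : P3) j (H.img c j) ∧
      f j * S.q (one3 i) * (f j)⁻¹ = if j = i then B.a * S.q (one3 i) else S.q (one3 i) := by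
    intro j
    by_cases e : H.img c j = 1
    · have hji : j ≠ i := fun h => hi (h ▸ e)
      simp [f, e, H.img_one, hji]
    · refine ⟨by simp [f, if_neg e, (B.hx j).2.1], ?_, ?_⟩
      · simp only [f, if_neg e, B.img_x, sI]
        rw [(B.img_fix c hc hca j).resolve_left e]
      · simp only [f, if_neg e, B.x_inv]
        split_ifs with h
        · subst h; exact S.x_one3 j
        · exact S.x_out (by simp [one3, h])
  have hfa : ∀ j, f j * B.a * (f j)⁻¹ = B.a := fun j => by
    by_cases e : H.img c j = 1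
    · simp [f, e]
    · simp only [f, if_neg e]; exact mul_inv_eq_iff_eq_mul.2 (B.x_a j)
  have hpt := comm_mul (comm_mul (hf 0).1 (hf 1).1) (hf 2).1
  have himg : H.img (f 0 * f 1 * f 2) = H.img c := by
    rw [H.img_mul (comm_mul (hf 0).1 (hf 1).1) (hf 2).1, H.img_mul (hf 0).1 (hf 1).1, (hf 0).2.1, (hf 1).2.1,
      (hf 2).2.1]
    funext k
    fin_cases k <;> simp [Function.update]
  have hconj : f 0 * f 1 * f 2 * S.q (one3 i) * (f 0 * f 1 * f 2)⁻¹ = B.a * S.q (one3 i) := by
    have step : ∀ j, f j * (B.a * S.q (one3 i)) * (f j)⁻¹ = B.a * (f j * S.q (one3 i) * (f j)⁻¹) := fun j => by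
      rw [show f j * (B.a * S.q (one3 i)) * (f j)⁻¹ = f j * B.a * (f j)⁻¹ * (f j * S.q (one3 i) * (f j)⁻¹) by group,
        hfa j]
    rw [conj_mul_eq, (hf 2).2.2, conj_mul_eq]
    obtain rfl | rfl | rfl : i = 0 ∨ i = 1 ∨ i = 2 := by omega
    · rw [if_neg (by decide), (hf 1).2.2, if_neg (by decide), (hf 0).2.2, if_pos rfl]
    · rw [if_neg (by decide), (hf 1).2.2, if_pos rfl, step, (hf 0).2.2, if_neg (by decide)]
    · rw [if_pos rfl, step, (hf 1).2.2, if_neg (by decide), step, (hf 0).2.2, if_neg (by decide)]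
  have h1 := H.act_congr hpt (S.q_mem (one3 i)) himg
  have h2 := H.act_congr hc (S.q_mem (one3 i)) (rfl : H.img c = H.img c)
  rw [hconj] at h1
  rw [mul_inv_eq_iff_eq_mul.2 (hq i)] at h2
  have h3 := H.eqv_trans (H.eqv_symm h2) h1
  rcases h3 with e | e
  · exact H.a_ne_one (mul_eq_right.1 e)
  · exact B.pair.ne (mul_right_cancel e)

/-- The coordinates of the root elements. -/
theorem Split.co_q (δ ε : Fin 3 → Bool) : B.co (S.q δ) ε = decide (δ = ε) := by
  rw [co, H.chi_eqv (S.q_v δ) (B.v_mem δ) (B.v_mem _)]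
  exact B.co_v δ ε

theorem Split.co_eq {w : G} (hw : w ∈ Q) (δ : Fin 3 → Bool) : B.co w δ = chi w (S.q fun i => !δ i) := by
  rw [chi_comm, H.chi_eqv (S.q_v _) (B.v_mem _) hw, chi_comm]
  rfl

/-- An element of `W` in the root elements. -/
theorem Split.W_gen {u : G} (hu : u ∈ Q ⊓ H.Qa B.g) : ∃ α : Bool, ∃ β : Fin 3 → Bool,
    Eqv t ((if α then B.a else 1) * ((if β 0 then S.q (one3 0) else 1) *
      ((if β 1 then S.q (one3 1) else 1) * (if β 2 then S.q (one3 2) else 1)))) u := by
  refine ⟨B.co u (fun _ => false), fun i => B.co u (one3 i), ?_⟩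
  have ha : ∀ b : Bool, (if b then B.a else 1) ∈ Q := fun b => by
    split_ifs <;> simp [B.a_mem, Q.one_mem]
  have hq : ∀ (b : Bool) i, (if b then S.q (one3 i) else 1) ∈ Q := fun b i => by
    split_ifs <;> simp [S.q_mem, Q.one_mem]
  refine B.eqv_of_co (Q.mul_mem (ha _) (Q.mul_mem (hq _ _) (Q.mul_mem (hq _ _) (hq _ _)))) hu.1 fun δ => ?_
  rw [B.co_mul (ha _) (Q.mul_mem (hq _ _) (Q.mul_mem (hq _ _) (hq _ _))),
    B.co_mul (hq _ _) (Q.mul_mem (hq _ _) (hq _ _)), B.co_mul (hq _ _) (hq _ _)]
  have h1 : ∀ b : Bool, B.co (if b then B.a else 1) δ = (b && decide ((fun _ => false) = δ)) := fun b => by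
    cases b
    · simp [B.co_one]
    · simp only [Bool.true_and, if_true]
      rw [← S.q_none]; exact S.co_q _ _
  have h2 : ∀ (b : Bool) i, B.co (if b then S.q (one3 i) else 1) δ = (b && decide (one3 i = δ)) := fun b i => by
    cases b
    · simp [B.co_one]
    · simp only [Bool.true_and, if_true]; exact S.co_q _ _
  rw [h1, h2, h2, h2]
  rcases bits_cases δ with e | ⟨i, e⟩ | ⟨i, e⟩ | e <;> subst e
  · have d : ∀ i, decide (one3 i = fun _ => false) = false := by decide
    simp [d]
  · have d : ∀ i, decide ((fun _ => false) = one3 i) = false := by decide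
    rw [d]
    fin_cases i <;> simp [show decide (one3 0 = one3 1) = false by decide, show decide (one3 0 = one3 2) = false by decide,
      show decide (one3 1 = one3 0) = false by decide, show decide (one3 1 = one3 2) = false by decide,
      show decide (one3 2 = one3 0) = false by decide, show decide (one3 2 = one3 1) = false by decide]
  · have h0 : B.co u (oth i) = false := by
      rw [S.co_eq hu.1]
      refine chi_eq_false.2 (FPair.W_comm H B.pair hu ?_)
      have : (fun j => !oth i j) = one3 i := by funext j; simp [oth, one3]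
      rw [this]; exact S.q_one3_mem i
    rw [h0]
    have d : ∀ i, decide ((fun _ => false) = oth i) = false := by decide
    have d' : ∀ i j, decide (one3 i = oth j) = false := by decide
    simp [d, d']
  · have h0 : B.co u (fun _ => true) = false := by
      rw [S.co_eq hu.1]
      refine chi_eq_false.2 (FPair.W_comm H B.pair hu ?_)
      simp only [Bool.not_true, S.q_none]
      exact FPair.a_mem_W H B.pair
    rw [h0]
    have d : decide ((fun _ => false) = fun _ : Fin 3 => true) = false := by decide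
    have d' : ∀ i, decide (one3 i = fun _ => true) = false := by decide
    simp [d, d']

/-- An element of `Q_a` commuting with `t`, the single classes and the three involutions. -/
theorem Split.double {z : G} (hz : z ∈ H.Qa B.g) (hzt : chi z t = false)
    (hzq : ∀ i, chi z (S.q (one3 i)) = false) (hzx : ∀ i, chi z (B.x i) = false) :
    z = 1 ∨ z = B.a ∨ z = t ∨ z = B.a * t := by
  refine H.ctr'.double_centralizer (FPair.t_mem H B.pair) H.ctr.ne_one B.pair.ne.symm hz fun w hw hwt => ?_
  have hwa : w * B.a = B.a * w := H.ctr'.comm hw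
  let f : Fin 3 → G := fun i => if H.img w i = 1 then 1 else B.x i
  have hf : ∀ i, f i ∈ H.Qa B.g ∧ f i * t = t * f i ∧
      H.img (f i) = Function.update (1 : P3) i (H.img w i) ∧ chi (f i) z = false := by
    intro i
    by_cases e : H.img w i = 1
    · simp [f, e, H.img_one, one_mem, chi_eq_false]
    · refine ⟨by simp [f, if_neg e, (B.hx i).1], by simp [f, if_neg e, (B.hx i).2.1], ?_,
        by simp only [f, if_neg e]; rw [chi_comm]; exact hzx i⟩
      simp only [f, if_neg e, B.img_x, sI]
      rw [(B.img_fix w hwt hwa i).resolve_left e]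
  have hp : f 0 * f 1 * f 2 ∈ H.Qa B.g :=
    (H.Qa B.g).mul_mem ((H.Qa B.g).mul_mem (hf 0).1 (hf 1).1) (hf 2).1
  have hpt := comm_mul (comm_mul (hf 0).2.1 (hf 1).2.1) (hf 2).2.1
  set u := (f 0 * f 1 * f 2)⁻¹ * w with hu'
  have hu : u ∈ Q ⊓ H.Qa B.g := by
    refine ⟨(H.img_eq_iff hpt hwt).1 ?_, (H.Qa B.g).mul_mem ((H.Qa B.g).inv_mem hp) hw⟩
    rw [H.img_mul (comm_mul (hf 0).2.1 (hf 1).2.1) (hf 2).2.1, H.img_mul (hf 0).2.1 (hf 1).2.1,
      (hf 0).2.2.1, (hf 1).2.2.1, (hf 2).2.2.1]
    funext i
    fin_cases i <;> simp [Function.update]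
  have hchiu : chi u z = false := by
    obtain ⟨α, β, he⟩ := S.W_gen hu
    rw [chi_comm]
    refine chi_eq_false.2 ?_
    have hza : Commute z B.a := H.ctr'.comm hz
    have hzt' : Commute z t := chi_eq_false.1 hzt
    have hzq' : ∀ i, Commute z (S.q (one3 i)) := fun i => chi_eq_false.1 (hzq i)
    have hcomb : Commute z ((if α then B.a else 1) * ((if β 0 then S.q (one3 0) else 1) *
        ((if β 1 then S.q (one3 1) else 1) * (if β 2 then S.q (one3 2) else 1)))) := by
      refine Commute.mul_right ?_ (Commute.mul_right ?_ (Commute.mul_right ?_ ?_))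
      all_goals split_ifs
      all_goals first
        | exact hza
        | exact hzq' _
        | exact Commute.one_right _
    rcases he with e | e
    · rw [e]; exact hcomb.eq
    · rw [e]; exact (hzt'.mul_right hcomb).eq
  refine chi_eq_false.1 ?_
  rw [show w = f 0 * f 1 * f 2 * u by rw [hu', ← mul_assoc, mul_inv_cancel, one_mul],
    chi_mul_left H.ctr' hp hu.2 hz, chi_mul_left H.ctr' ((H.Qa B.g).mul_mem (hf 0).1 (hf 1).1) (hf 2).1 hz,
    chi_mul_left H.ctr' (hf 0).1 (hf 1).1 hz, (hf 0).2.2.2, (hf 1).2.2.2, (hf 2).2.2.2, hchiu]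
  rfl

/-- The root element of the branch node in `Q_a`. -/
structure Node (S : B.Split) where
  y : G
  y_mem : y ∈ H.Qa B.g
  y_sq : y * y = 1
  y_t : y * t * y = t * B.a
  y_q : ∀ i, y * S.q (one3 i) = S.q (one3 i) * y
  y_x : ∀ i, y * B.x i = B.x i * y
  y_p : ∀ i, y * S.q (oth i) * y = S.q (oth i) * B.x i

theorem Split.exists_y : ∃ y, y ∈ H.Qa B.g ∧ y * y = 1 ∧ chi y t = true ∧
    (∀ i, chi y (S.q (one3 i)) = false) ∧ ∀ i, chi y (B.x i) = false := by
  have h' := H.ctr' (g := B.g)
  have htQ := FPair.t_mem H B.pair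
  have hqQ : ∀ i, S.q (one3 i) ∈ H.Qa B.g := fun i => (S.q_one3_mem i).2
  have hxQ : ∀ i, B.x i ∈ H.Qa B.g := fun i => (B.hx i).1
  obtain ⟨p, hp, hpt⟩ := h'.exists_move htQ H.ctr.ne_one B.pair.ne.symm
  have hpt' : chi p t = true := chi_eq_true.2 fun e => H.a_ne_one (by
    rw [mul_inv_eq_iff_eq_mul.2 e] at hpt
    exact mul_eq_right.1 hpt.symm)
  -- multiply by the single classes
  let qq : Fin 3 → G := fun i => if chi p (B.x i) then S.q (one3 i) else 1
  have qqQ : ∀ i, qq i ∈ H.Qa B.g := fun i => by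
    show (if chi p (B.x i) then S.q (one3 i) else 1) ∈ _
    split_ifs <;> simp [hqQ, one_mem]
  have qq_chi : ∀ i w, w ∈ H.Qa B.g → chi (qq i) w = (chi p (B.x i) && chi (S.q (one3 i)) w) := fun i w _ => by
    show chi (if chi p (B.x i) then S.q (one3 i) else 1) w = _
    cases chi p (B.x i) <;> simp [chi_eq_false]
  set p' := p * (qq 0 * (qq 1 * qq 2)) with hp'
  have hp'Q : p' ∈ H.Qa B.g :=
    (H.Qa B.g).mul_mem hp ((H.Qa B.g).mul_mem (qqQ 0) ((H.Qa B.g).mul_mem (qqQ 1) (qqQ 2)))
  have hp'chi : ∀ w, w ∈ H.Qa B.g → chi p' w = xor (chi p w) (xor (chi p (B.x 0) && chi (S.q (one3 0)) w)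
      (xor (chi p (B.x 1) && chi (S.q (one3 1)) w) (chi p (B.x 2) && chi (S.q (one3 2)) w))) := by
    intro w hw
    rw [hp', chi_mul_left h' hp ((H.Qa B.g).mul_mem (qqQ 0) ((H.Qa B.g).mul_mem (qqQ 1) (qqQ 2))) hw,
      chi_mul_left h' (qqQ 0) ((H.Qa B.g).mul_mem (qqQ 1) (qqQ 2)) hw, chi_mul_left h' (qqQ 1) (qqQ 2) hw,
      qq_chi _ _ hw, qq_chi _ _ hw, qq_chi _ _ hw]
  have hx' : ∀ i, chi p' (B.x i) = false := fun i => by
    rw [hp'chi _ (hxQ i), chi_comm (S.q _) (B.x i), chi_comm (S.q _) (B.x i), chi_comm (S.q _) (B.x i),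
      S.chi_x_one3, S.chi_x_one3, S.chi_x_one3]
    fin_cases i <;> simp
  have ht' : chi p' t = true := by
    rw [hp'chi _ htQ, hpt']
    simp [chi_eq_false.2 (H.comm_Q (S.q_mem _))]
  -- multiply by the involutions
  let xx : Fin 3 → G := fun i => if chi p' (S.q (one3 i)) then B.x i else 1
  have xxQ : ∀ i, xx i ∈ H.Qa B.g := fun i => by
    show (if chi p' (S.q (one3 i)) then B.x i else 1) ∈ _
    split_ifs <;> simp [hxQ, one_mem]
  have xx_chi : ∀ i w, w ∈ H.Qa B.g → chi (xx i) w = (chi p' (S.q (one3 i)) && chi (B.x i) w) := fun i w _ => by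
    show chi (if chi p' (S.q (one3 i)) then B.x i else 1) w = _
    cases chi p' (S.q (one3 i)) <;> simp [chi_eq_false]
  set r := p' * (xx 0 * (xx 1 * xx 2)) with hr
  have hrQ : r ∈ H.Qa B.g :=
    (H.Qa B.g).mul_mem hp'Q ((H.Qa B.g).mul_mem (xxQ 0) ((H.Qa B.g).mul_mem (xxQ 1) (xxQ 2)))
  have hrchi : ∀ w, w ∈ H.Qa B.g → chi r w = xor (chi p' w) (xor (chi p' (S.q (one3 0)) && chi (B.x 0) w)
      (xor (chi p' (S.q (one3 1)) && chi (B.x 1) w) (chi p' (S.q (one3 2)) && chi (B.x 2) w))) := by
    intro w hw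
    rw [hr, chi_mul_left h' hp'Q ((H.Qa B.g).mul_mem (xxQ 0) ((H.Qa B.g).mul_mem (xxQ 1) (xxQ 2))) hw,
      chi_mul_left h' (xxQ 0) ((H.Qa B.g).mul_mem (xxQ 1) (xxQ 2)) hw, chi_mul_left h' (xxQ 1) (xxQ 2) hw,
      xx_chi _ _ hw, xx_chi _ _ hw, xx_chi _ _ hw]
  have rt : chi r t = true := by
    rw [hrchi _ htQ, ht']
    simp [chi_eq_false.2 (B.hx _).2.1]
  have rq : ∀ i, chi r (S.q (one3 i)) = false := fun i => by
    rw [hrchi _ (hqQ i), S.chi_x_one3, S.chi_x_one3, S.chi_x_one3]
    fin_cases i <;> simp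
  have rx : ∀ i, chi r (B.x i) = false := fun i => by
    rw [hrchi _ (hxQ i), hx']
    simp [chi_eq_false.2 (B.x_comm _ i)]
  rcases h'.sq_cases hrQ with e | e
  · exact ⟨r, hrQ, e, rt, rq, rx⟩
  · refine ⟨r * t, (H.Qa B.g).mul_mem hrQ htQ, ?_, ?_, fun i => ?_, fun i => ?_⟩
    · rw [sq_mul h' hrQ htQ H.ctr.zz rt, e]; exact a_sq
    · rw [chi_mul_left h' hrQ htQ htQ, rt, chi_self]; rfl
    · rw [chi_mul_left h' hrQ htQ (hqQ i), rq, H.chi_t (S.q_mem _)]; rfl
    · rw [chi_mul_left h' hrQ htQ (hxQ i), rx, chi_comm t, chi_eq_false.2 (B.hx i).2.1]; rfl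

/-- The commutator of `q (oth i)` with `y` is `x i` up to `a`. -/
theorem Split.comm_y {y : G} (hy : y ∈ H.Qa B.g) (hy2 : y * y = 1) (hyt : chi y t = true)
    (hyq : ∀ i, chi y (S.q (one3 i)) = false) (hyx : ∀ i, chi y (B.x i) = false) (i : Fin 3) :
    ∃ d : Bool, S.q (oth i) * y * S.q (oth i) = (if d then B.a else 1) * B.x i * y := by
  have h' := H.ctr' (g := B.g)
  set p := S.q (oth i) with hp
  have htQ := FPair.t_mem H B.pair
  have hp2 : p * p = 1 := S.q_sq _
  have hpinv : p⁻¹ = p := inv_eq_of_mul_eq_one_right hp2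
  have hpt : p * t = t * p := H.comm_Q (S.q_mem _)
  have hpa : p * B.a = B.a * p := by
    rw [← S.q_none]
    exact S.q_comm (oth_ne_none i)
  have hpy : p * y * p ∈ H.Qa B.g := by simpa [hpinv] using h'.conj_mem hpa hy
  set c := p * y * p * y with hc
  have hcQ : c ∈ H.Qa B.g := (H.Qa B.g).mul_mem hpy hy
  have hchi : ∀ s, s ∈ H.Qa B.g → p * s * p ∈ H.Qa B.g → chi c s = xor (chi y (p * s * p)) (chi y s) := by
    intro s hs _
    rw [hc, chi_mul_left h' hpy hy hs]
    congr 1
    have := H.chi_conj_eq p y (p * s * p)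
    rw [hpinv, show p * (p * s * p) * p = p * p * s * (p * p) by group, hp2, one_mul, mul_one] at this
    exact this
  have hxQ : B.x i ∈ H.Qa B.g := (B.hx i).1
  have hz1 : chi (c * B.x i) t = false := by
    have e : p * t * p = t := by rw [hpt, mul_assoc, hp2, mul_one]
    rw [chi_mul_left h' hcQ hxQ htQ, hchi t htQ (e.symm ▸ htQ), e, chi_eq_false.2 (B.hx i).2.1]
    simp
  have hz2 : ∀ l, chi (c * B.x i) (S.q (one3 l)) = false := by
    intro l
    have hq := (S.q_one3_mem l).2
    have e : p * S.q (one3 l) * p = if i = l then t * S.q (one3 l) else S.q (one3 l) := by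
      split_ifs with h
      · subst h
        have := S.q_opp (oth i)
        rw [show (fun j => !oth i j) = one3 i by funext j; simp [oth, one3]] at this
        rw [this, mul_assoc, mul_assoc, hp2, mul_one]
      · rw [S.q_comm (δ := oth i) (ε := one3 l) (one3_ne_oth i l h), mul_assoc, hp2, mul_one]
    have hmem : p * S.q (one3 l) * p ∈ H.Qa B.g := by
      rw [e]; split_ifs
      · exact (H.Qa B.g).mul_mem htQ hq
      · exact hq
    rw [chi_mul_left h' hcQ hxQ hq, hchi _ hq hmem, e, S.chi_x_one3, hyq]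
    split_ifs with h
    · rw [chi_mul_right h' htQ hq hy, hyt, hyq]; simp [h]
    · rw [hyq]; simp [h]
  have hz3 : ∀ l, chi (c * B.x i) (B.x l) = false := by
    intro l
    have hx := (B.hx l).1
    have e : p * B.x l * p = if i = l then B.x l else B.x l * S.q (Function.update (oth i) l false) := by
      have key : B.x l * (B.x l * p * B.x l) * p = p * B.x l * p := by
        calc B.x l * (B.x l * p * B.x l) * p = B.x l * B.x l * p * B.x l * p := by group
          _ = _ := by rw [(B.hx l).2.2.1, one_mul]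
      split_ifs with h
      · subst h
        rw [← key, S.x_out (by simp [oth]), mul_assoc, hp2, mul_one]
      · rw [← key, S.x_in (by simp [oth, Ne.symm h]), mul_assoc, mul_assoc, hp2, mul_one]
    have hex : i ≠ l → ∃ k, Function.update (oth i) l false = one3 k := oth_update i l
    have hmem : p * B.x l * p ∈ H.Qa B.g := by
      rw [e]; split_ifs with h
      · exact hx
      · obtain ⟨k, hk⟩ := hex h
        rw [hk]; exact (H.Qa B.g).mul_mem hx (S.q_one3_mem k).2
    rw [chi_mul_left h' hcQ hxQ hx, hchi _ hx hmem, e, hyx, chi_eq_false.2 (B.x_comm i l)]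
    split_ifs with h
    · rw [hyx]; rfl
    · obtain ⟨k, hk⟩ := hex h
      rw [hk, chi_mul_right h' hx (S.q_one3_mem k).2 hy, hyx, hyq]; rfl
  have hzQ : c * B.x i ∈ H.Qa B.g := (H.Qa B.g).mul_mem hcQ hxQ
  have back : ∀ w, c * B.x i = w → p * y * p = w * B.x i * y := by
    intro w hw
    rw [← hw, mul_assoc c (B.x i), (B.hx i).2.2.1, mul_one, hc, mul_assoc (p * y * p) y y, hy2, mul_one]
  have hbad : ∀ w, (w = t ∨ w = B.a * t) → c * B.x i ≠ w := by
    intro w hw hcw
    have hwy : chi w y = true := by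
      rcases hw with rfl | rfl
      · rw [chi_comm]; exact hyt
      · rw [chi_mul_left h' h'.z_mem htQ hy, chi_comm t, hyt, chi_comm B.a, chi_center h' hy]
        rfl
    have hwQ : w ∈ H.Qa B.g := by
      rcases hw with rfl | rfl
      · exact htQ
      · exact (H.Qa B.g).mul_mem h'.z_mem htQ
    have hwx : Commute w (B.x i) := by
      have c1 : Commute t (B.x i) := (B.hx i).2.1.symm
      rcases hw with rfl | rfl
      · exact c1
      · exact Commute.mul_left (B.x_a i).symm c1
    have hwxQ := (H.Qa B.g).mul_mem hwQ hxQ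
    have hwxy : chi (w * B.x i) y = true := by
      rw [chi_mul_left h' hwQ hxQ hy, hwy, chi_comm, hyx]; rfl
    have hsq : (w * B.x i) * (w * B.x i) = 1 := by
      have hw2 : w * w = 1 := by
        rcases hw with rfl | rfl
        · exact H.ctr.zz
        · rw [mul_assoc, ← mul_assoc t, ← H.comm_Q B.a_mem, mul_assoc B.a, H.ctr.zz, mul_one, a_sq]
      rw [hwx.symm.mul_mul_mul_comm, hw2, one_mul, (B.hx i).2.2.1]
    apply H.a_ne_one
    have e1 := sq_mul h' hwxQ hy hy2 hwxy
    rw [hsq, mul_one, ← back w hcw, show p * y * p * (p * y * p) = p * y * (p * p) * y * p by group, hp2,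
      mul_one, mul_assoc p, hy2, mul_one, hp2] at e1
    exact e1.symm
  rcases S.double hzQ hz1 hz2 hz3 with e | e | e | e
  · exact ⟨false, by rw [back _ e]; simp⟩
  · exact ⟨true, by rw [back _ e]; simp⟩
  · exact absurd e (hbad _ (Or.inl rfl))
  · exact absurd e (hbad _ (Or.inr rfl))

/-- After multiplying some involutions by `t`, the branch node exists. -/
theorem exists_node {H : Hyp Q t} {g : G} (P : H.FPair g) :
    ∃ (B : H.Base) (S : B.Split), Nonempty (Node S) := by
  obtain ⟨B, rfl⟩ := exists_base H P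
  obtain ⟨S⟩ := B.exists_split
  obtain ⟨y, hy, hy2, hyt, hyq, hyx⟩ := S.exists_y
  choose d hd using S.comm_y hy hy2 hyt hyq hyx
  let T : Fin 3 → G := fun i => if d i then t else 1
  have hT : ∀ i, T i ∈ H.Qa B.g ∧ T i ∈ Q ∧ T i * T i = 1 := fun i => by
    have key : ∀ b : Bool, (if b then t else 1) ∈ H.Qa B.g ∧ (if b then t else 1) ∈ Q ∧
        (if b then t else 1) * (if b then t else 1) = (1 : G) := fun b => by
      cases b
      · simp [one_mem]
      · exact ⟨FPair.t_mem H B.pair, H.ctr.z_mem, H.ctr.zz⟩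
    exact key (d i)
  have hTc : ∀ i {w : G}, w * t = t * w → T i * w = w * T i := fun i {w} hw => by
    show (if d i then t else 1) * w = w * (if d i then t else 1)
    cases d i
    · simp
    · exact hw.symm
  have hTT : ∀ i, T i * t = t * T i := fun i => H.comm_Q (hT i).2.1
  have himg : ∀ i, H.img (T i) = 1 := fun i => (H.img_iff (hTT i)).2 (hT i).2.1
  have mulsq : ∀ i w, w * t = t * w → w * w = 1 → w * T i * (w * T i) = 1 := fun i w hw hw2 => by
    rw [mul_assoc, ← mul_assoc (T i), hTc i hw, mul_assoc w, (hT i).2.2, mul_one, hw2]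
  have comm2 : ∀ i j a b, a * t = t * a → b * t = t * b → a * b = b * a →
      a * T i * (b * T j) = b * T j * (a * T i) := fun i j a b ha hb hab => by
    have c1 : Commute a b := hab
    have c2 : Commute a (T j) := (hTc j ha).symm
    have c3 : Commute (T i) b := hTc i hb
    have c4 : Commute (T i) (T j) := hTc i (hTT j)
    exact ((c1.mul_right c2).mul_left (c3.mul_right c4)).eq
  let x' : Fin 3 → G := fun i => B.x i * T i
  have hx' : ∀ i, x' i ∈ H.Qa B.g ∧ x' i * t = t * x' i ∧ x' i * x' i = 1 ∧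
      H.img (x' i) = Function.update (1 : P3) i (B.s i) := fun i =>
    ⟨(H.Qa B.g).mul_mem (B.hx i).1 (hT i).1, comm_mul (B.hx i).2.1 (hTT i),
      mulsq i _ (B.hx i).2.1 (B.hx i).2.2.1, by
        rw [H.img_mul (B.hx i).2.1 (hTT i), himg, mul_one]; exact (B.hx i).2.2.2⟩
  let B' : H.Base := { B with
    x := x'
    hx := hx'
    x_comm := fun i j => comm2 i j _ _ (B.hx i).2.1 (B.hx j).2.1 (B.x_comm i j)
    dual := fun δ => by
      obtain ⟨w, hw, h⟩ := B.dual δ
      refine ⟨w, hw, fun i => ?_⟩
      rw [← h i, chi_mul_left H.ctr' (B.hx i).1 (hT i).1 hw.2,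
        chi_eq_false.2 (hTc i (H.comm_Q hw.1)), Bool.xor_false] }
  let S' : B'.Split :=
    { n := fun i => S.n i * T i
      hn := fun i => ⟨comm_mul (S.hn i).1 (hTT i), mulsq i _ (S.hn i).1 (S.hn i).2.1, by
        rw [H.img_mul (S.hn i).1 (hTT i), himg, mul_one]; exact (S.hn i).2.2⟩
      n_comm := fun i j => comm2 i j _ _ (S.hn i).1 (S.hn j).1 (S.n_comm i j)
      n_x := fun i j h => comm2 i j _ _ (S.hn i).1 (B.hx j).2.1 (S.n_x i j h)
      braid := fun i => by
        show B.x i * T i * (S.n i * T i) * (B.x i * T i * (S.n i * T i)) * (B.x i * T i * (S.n i * T i)) = 1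
        have e : B.x i * T i * (S.n i * T i) = B.x i * S.n i := by
          rw [mul_assoc, ← mul_assoc (T i), hTc i (S.hn i).1, mul_assoc (S.n i), (hT i).2.2, mul_one]
        rw [e]
        exact S.braid i }
  have hq : ∀ δ, S'.q δ = S.q δ := by
    intro δ
    have key : ∃ z, S'.P δ = S.P δ * z ∧ (z = 1 ∨ z = t) := by
      have one : ∀ i, ∃ z, (if δ i then S'.n i else 1) = (if δ i then S.n i else 1) * z ∧ (z = 1 ∨ z = t) := by
        intro i
        cases δ i
        · exact ⟨1, by simp, Or.inl rfl⟩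
        · refine ⟨T i, rfl, ?_⟩
          show (if d i then t else 1) = 1 ∨ (if d i then t else 1) = t
          cases d i <;> simp
      obtain ⟨z0, e0, h0⟩ := one 0
      obtain ⟨z1, e1, h1⟩ := one 1
      obtain ⟨z2, e2, h2⟩ := one 2
      refine ⟨z0 * (z1 * z2), ?_, ?_⟩
      · have ct : ∀ {z}, (z = 1 ∨ z = t) → ∀ i, Commute z (if δ i then S.n i else 1) := by
          intro z hz i
          rcases hz with rfl | rfl
          · exact Commute.one_left _
          · split_ifs
            · exact (S.hn i).1.symm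
            · exact Commute.one_right _
        simp only [Split.P]
        rw [e0, e1, e2]
        calc (if δ 0 then S.n 0 else 1) * z0 * ((if δ 1 then S.n 1 else 1) * z1) *
              ((if δ 2 then S.n 2 else 1) * z2)
            = (if δ 0 then S.n 0 else 1) * (z0 * (if δ 1 then S.n 1 else 1)) * (z1 * (if δ 2 then S.n 2 else 1)) * z2 := by
              group
          _ = (if δ 0 then S.n 0 else 1) * (if δ 1 then S.n 1 else 1) * (z0 * (if δ 2 then S.n 2 else 1)) * (z1 * z2) := by
              rw [(ct h0 1).eq, (ct h1 2).eq]; group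
          _ = _ := by rw [(ct h0 2).eq]; group
      · rcases h0 with rfl | rfl <;> rcases h1 with rfl | rfl <;> rcases h2 with rfl | rfl <;>
          simp [H.ctr.zz]
    obtain ⟨z, hz, hz'⟩ := key
    show S'.P δ * B.a * (S'.P δ)⁻¹ = S.P δ * B.a * (S.P δ)⁻¹
    rw [hz, conj_mul_eq]
    congr 2
    rcases hz' with rfl | rfl
    · rw [one_mul, inv_one, mul_one]
    · exact mul_inv_eq_iff_eq_mul.2 (H.comm_Q B.a_mem).symm
  let Y : Fin 3 → G := fun i => if d i then S.q (one3 i) else 1
  have hYQ : ∀ i, Y i ∈ H.Qa B.g := fun i => by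
    show (if d i then S.q (one3 i) else 1) ∈ _
    split_ifs
    · exact (S.q_one3_mem i).2
    · exact one_mem _
  have hYc : ∀ i {w : G}, (∀ l, Commute (S.q (one3 l)) w) → Commute (Y i) w := fun i {w} hw => by
    show Commute (if d i then S.q (one3 i) else 1) w
    split_ifs
    · exact hw i
    · exact Commute.one_left _
  have hqq : ∀ l m, Commute (S.q (one3 l)) (S.q (one3 m)) := fun l m =>
    FPair.W_comm H B.pair (S.q_one3_mem l) (S.q_one3_mem m)
  have hYY : ∀ i j, Commute (Y i) (Y j) := fun i j =>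
    hYc i fun l => (hYc j fun m => hqq m l).symm
  set u := Y 0 * (Y 1 * Y 2) with hu
  have huQ : u ∈ H.Qa B.g := (H.Qa B.g).mul_mem (hYQ 0) ((H.Qa B.g).mul_mem (hYQ 1) (hYQ 2))
  have huc : ∀ {w}, (∀ l, Commute (S.q (one3 l)) w) → Commute u w := fun hw =>
    (hYc 0 hw).mul_left ((hYc 1 hw).mul_left (hYc 2 hw))
  have hu2 : u * u = 1 := by
    have hY2 : ∀ i, Y i * Y i = 1 := fun i => by
      show (if d i then S.q (one3 i) else 1) * (if d i then S.q (one3 i) else 1) = 1
      cases d i <;> simp [S.q_sq]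
    rw [hu, ((hYY 1 0).mul_left (hYY 2 0)).mul_mul_mul_comm, hY2, one_mul, (hYY 2 1).mul_mul_mul_comm, hY2,
      hY2, one_mul]
  have hyu : Commute y u := (huc fun l => (chi_eq_false.1 (hyq l)).symm).symm
  have hut : Commute u t := huc fun l => H.comm_Q (S.q_mem _)
  have hy'2 : y * u * (y * u) = 1 := by rw [hyu.symm.mul_mul_mul_comm, hy2, hu2, one_mul]
  have hyt' : y * t * y = t * B.a := by
    have e := chi_conj H.ctr' hy (FPair.t_mem H B.pair)
    rw [hyt, if_pos rfl] at e
    exact swap_conj e hy2 (H.comm_Q B.a_mem)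
  refine ⟨B', S', ⟨{
    y := y * u
    y_mem := (H.Qa B.g).mul_mem hy huQ
    y_sq := hy'2
    y_t := ?_
    y_q := fun l => ?_
    y_x := fun l => ?_
    y_p := fun l => ?_ }⟩⟩
  · calc y * u * t * (y * u) = y * (u * t) * (y * u) := by group
      _ = y * t * (u * y) * u := by rw [hut.eq]; group
      _ = y * t * y * (u * u) := by rw [← hyu.eq]; group
      _ = _ := by rw [hyt', hu2, mul_one]
  · rw [hq]
    exact ((show Commute y (S.q (one3 l)) from chi_eq_false.1 (hyq l)).mul_left (huc fun m => hqq m l)).eq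
  · show y * u * (B.x l * T l) = B.x l * T l * (y * u)
    have ux : u * B.x l = (if d l then B.a else 1) * (B.x l * u) := by
      have step : ∀ i, Y i * B.x l = (if d i && decide (l = i) then B.a else 1) * (B.x l * Y i) := by
        intro i
        show (if d i then S.q (one3 i) else 1) * B.x l = (if d i && decide (l = i) then B.a else 1) *
          (B.x l * (if d i then S.q (one3 i) else 1))
        cases hdi : d i
        · simp
        · have e := chi_conj H.ctr' (S.q_one3_mem i).2 (B.hx l).1
          rw [chi_comm, S.chi_x_one3] at e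
          simp only [if_true, Bool.true_and]
          rw [e]
          cases decide (l = i) <;> simp
      have ca : ∀ (i : Fin 3) (b : Bool), Commute (Y i) (if b then B.a else 1) := fun i b => by
        cases b
        · simp
        · exact H.ctr'.comm (hYQ i)
      have hprod : ∀ (b0 b1 b2 : Bool), u * B.x l = (if d 0 && decide (l = 0) then B.a else 1) *
          ((if d 1 && decide (l = 1) then B.a else 1) * ((if d 2 && decide (l = 2) then B.a else 1) *
            (B.x l * u))) := by
        intro _ _ _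
        calc u * B.x l = Y 0 * (Y 1 * (Y 2 * B.x l)) := by rw [hu]; group
          _ = Y 0 * ((Y 1 * (if d 2 && decide (l = 2) then B.a else 1)) * (B.x l * Y 2)) := by rw [step 2]; group
          _ = Y 0 * ((if d 2 && decide (l = 2) then B.a else 1) * (Y 1 * B.x l) * Y 2) := by
              rw [(ca 1 _).eq]; group
          _ = (Y 0 * (if d 2 && decide (l = 2) then B.a else 1)) *
              ((if d 1 && decide (l = 1) then B.a else 1) * (B.x l * (Y 1 * Y 2))) := by rw [step 1]; group
          _ = (if d 2 && decide (l = 2) then B.a else 1) *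
              (Y 0 * (if d 1 && decide (l = 1) then B.a else 1)) * (B.x l * (Y 1 * Y 2)) := by
              rw [(ca 0 _).eq]; group
          _ = (if d 2 && decide (l = 2) then B.a else 1) * (if d 1 && decide (l = 1) then B.a else 1) *
              (Y 0 * B.x l) * (Y 1 * Y 2) := by rw [(ca 0 _).eq]; group
          _ = _ := by
              rw [step 0, hu]
              fin_cases l <;> simp [mul_assoc]
      rw [hprod false false false]
      fin_cases l <;> simp
    have yx : y * B.x l = B.x l * y := chi_eq_false.1 (hyx l)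
    have uT : u * T l = T l * u := (hTc l hut).symm
    show y * u * (B.x l * T l) = B.x l * T l * (y * u)
    by_cases hdl : d l = true
    · have hTl : T l = t := by show (if d l then t else 1) = t; rw [if_pos hdl]
      rw [if_pos hdl] at ux
      rw [hTl] at uT ⊢
      have ya : y * B.a = B.a * y := H.ctr'.comm hy
      have yt : y * t = t * B.a * y := by
        rw [← hyt', mul_assoc (y * t), hy2, mul_one]
      exact twist_comm ux uT ya yx yt (H.comm_Q B.a_mem) (B.x_a l) a_sq
    · have hTl : T l = 1 := by show (if d l then t else 1) = 1; rw [if_neg hdl]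
      rw [if_neg hdl, one_mul] at ux
      rw [hTl, mul_one, mul_assoc, ux, ← mul_assoc, yx, mul_assoc]
  · rw [hq]
    show y * u * S.q (oth l) * (y * u) = S.q (oth l) * (B.x l * T l)
    have hp2 : S.q (oth l) * S.q (oth l) = 1 := S.q_sq _
    have hpt : S.q (oth l) * t = t * S.q (oth l) := H.comm_Q (S.q_mem _)
    have hpa : S.q (oth l) * B.a = B.a * S.q (oth l) := by
      rw [← S.q_none]; exact S.q_comm (oth_ne_none l)
    have up : u * S.q (oth l) = T l * (S.q (oth l) * u) := by
      have step : ∀ i, Y i * S.q (oth l) = (if d i && decide (l = i) then t else 1) * (S.q (oth l) * Y i) := by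
        intro i
        show (if d i then S.q (one3 i) else 1) * S.q (oth l) = (if d i && decide (l = i) then t else 1) *
          (S.q (oth l) * (if d i then S.q (one3 i) else 1))
        cases hdi : d i
        · simp
        · have e := chi_conj H.ctr (S.q_mem (one3 i)) (S.q_mem (oth l))
          rw [S.chi_q, oth_opp l i] at e
          simp only [if_true, Bool.true_and]
          rw [e]
          cases decide (l = i) <;> simp
      have ct : ∀ (i : Fin 3) (b : Bool), Commute (Y i) (if b then t else 1) := fun i b => by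
        cases b
        · simp
        · exact hYc i fun m => H.comm_Q (S.q_mem _)
      calc u * S.q (oth l) = Y 0 * (Y 1 * (Y 2 * S.q (oth l))) := by rw [hu]; group
        _ = Y 0 * ((Y 1 * (if d 2 && decide (l = 2) then t else 1)) * (S.q (oth l) * Y 2)) := by rw [step 2]; group
        _ = Y 0 * ((if d 2 && decide (l = 2) then t else 1) * (Y 1 * S.q (oth l)) * Y 2) := by
            rw [(ct 1 _).eq]; group
        _ = (Y 0 * (if d 2 && decide (l = 2) then t else 1)) *
            ((if d 1 && decide (l = 1) then t else 1) * (S.q (oth l) * (Y 1 * Y 2))) := by rw [step 1]; group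
        _ = (if d 2 && decide (l = 2) then t else 1) *
            (Y 0 * (if d 1 && decide (l = 1) then t else 1)) * (S.q (oth l) * (Y 1 * Y 2)) := by
            rw [(ct 0 _).eq]; group
        _ = (if d 2 && decide (l = 2) then t else 1) * (if d 1 && decide (l = 1) then t else 1) *
            (Y 0 * S.q (oth l)) * (Y 1 * Y 2) := by rw [(ct 0 _).eq]; group
        _ = _ := by
            rw [step 0]
            fin_cases l <;> simp [T, hu, mul_assoc]
    have ypy : y * S.q (oth l) * y = S.q (oth l) * (if d l then B.a else 1) * B.x l := by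
      calc y * S.q (oth l) * y = S.q (oth l) * S.q (oth l) * y * S.q (oth l) * y := by rw [hp2, one_mul]
        _ = S.q (oth l) * (S.q (oth l) * y * S.q (oth l)) * y := by group
        _ = S.q (oth l) * (if d l then B.a else 1) * B.x l * (y * y) := by rw [hd l]; group
        _ = _ := by rw [hy2, mul_one]
    by_cases hdl : d l = true
    · have hTl : T l = t := by show (if d l then t else 1) = t; rw [if_pos hdl]
      rw [if_pos hdl] at ypy
      rw [hTl] at up ⊢
      have yt : y * t = t * B.a * y := by rw [← hyt', mul_assoc (y * t), hy2, mul_one]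
      exact twist_conj up hyu.symm.eq hu2 yt ypy hpt hpa a_sq (B.hx l).2.1
    · have hTl : T l = 1 := by show (if d l then t else 1) = 1; rw [if_neg hdl]
      rw [if_neg hdl, mul_one] at ypy
      rw [hTl, one_mul] at up
      rw [hTl, mul_one]
      calc y * u * S.q (oth l) * (y * u) = y * (u * S.q (oth l)) * (y * u) := by group
        _ = y * S.q (oth l) * (u * y) * u := by rw [up]; group
        _ = y * S.q (oth l) * y * (u * u) := by rw [← hyu.eq]; group
        _ = _ := by rw [ypy, hu2, mul_one]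

end Hyp.Base

end Cfsg.Agent.OmegaEightInv
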