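import Cfsg.Agent.Lib.OmegaEightInv.Fusion

/-!
A conjugate `a ≠ t` of `t` in `Q`, with `Q' = Q_a`: `W = Q ∩ Q'` is elementary of order `32`, the group
`T = C_{Q'}(t)` maps onto a Sylow subgroup of `C/Q` which contains the image of `C(t, a)`, and the three
factors lift to commuting involutions of `T`.
-/

set_option autoImplicit false
set_option linter.style.haveILetI false

namespace Cfsg.Agent.OmegaEightInv

open Subgroup Cfsg.Agent.LargeExtra

variable {G : Type*} [Group G]

open Classical in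
/-- Do the two elements fail to commute? -/
noncomputable def chi (x y : G) : Bool := decide (x * y ≠ y * x)

theorem chi_eq_false {x y : G} : chi x y = false ↔ x * y = y * x := by simp [chi]

theorem chi_eq_true {x y : G} : chi x y = true ↔ x * y ≠ y * x := by simp [chi]

theorem chi_comm (x y : G) : chi x y = chi y x := by
  classical
  simp [chi, eq_comm]

theorem chi_self (x : G) : chi x x = false := chi_eq_false.2 rfl

section

variable {Q : Subgroup G} {z : G} (h : Ctr Q z) [Finite G]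
include h

theorem chi_conj {x y : G} (hx : x ∈ Q) (hy : y ∈ Q) :
    x * y = if chi x y then z * (y * x) else y * x := by
  cases e : chi x y
  · simpa using chi_eq_false.1 e
  · rcases h.conj_cases hx hy with f | f
    · exact absurd (mul_inv_eq_iff_eq_mul.1 f) (chi_eq_true.1 e)
    · rw [if_pos rfl, ← mul_assoc]
      exact mul_inv_eq_iff_eq_mul.1 f

theorem chi_mul_left {x y w : G} (hx : x ∈ Q) (hy : y ∈ Q) (hw : w ∈ Q) :
    chi (x * y) w = xor (chi x w) (chi y w) := by
  have key : x * y * w = if xor (chi x w) (chi y w) then z * (w * (x * y)) else w * (x * y) := by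
    rw [mul_assoc, chi_conj h hy hw]
    have hxw := chi_conj h hx hw
    have hxz : ∀ v, x * (z * v) = z * (x * v) := fun v => by rw [← mul_assoc, h.comm hx, mul_assoc]
    have hzz : ∀ v, z * (z * v) = v := fun v => by rw [← mul_assoc, h.zz, one_mul]
    cases e2 : chi y w <;> cases e1 : chi x w <;>
      simp only [e1, Bool.false_eq_true, if_false, if_true, Bool.xor_false, Bool.false_xor, Bool.xor_self,
        Bool.xor_true, Bool.not_false] at hxw ⊢
    · rw [← mul_assoc, hxw, mul_assoc]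
    · rw [← mul_assoc, hxw]; simp only [mul_assoc]
    · rw [hxz, ← mul_assoc x, hxw]; simp only [mul_assoc]
    · rw [hxz, ← mul_assoc x, hxw]; simp only [mul_assoc, hzz]
  cases e : xor (chi x w) (chi y w) <;> rw [e] at key
  · exact chi_eq_false.2 (by simpa using key)
  · refine chi_eq_true.2 fun f => ?_
    rw [if_pos rfl, f] at key
    exact h.ne_one (mul_eq_right.1 key.symm)

theorem chi_mul_right {x y w : G} (hx : x ∈ Q) (hy : y ∈ Q) (hw : w ∈ Q) :
    chi w (x * y) = xor (chi w x) (chi w y) := by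
  rw [chi_comm, chi_mul_left h hx hy hw, chi_comm x, chi_comm y]

theorem chi_center {x : G} (hx : x ∈ Q) : chi x z = false := chi_eq_false.2 (h.comm hx)

theorem sq_mul {x w : G} (hx : x ∈ Q) (hw : w ∈ Q) (hw2 : w * w = 1) (hc : chi x w = true) :
    x * w * (x * w) = z * (x * x) := by
  have e : w * x = z * (x * w) := by
    have h1 := chi_conj h hw hx
    rwa [chi_comm, hc, if_pos rfl] at h1
  calc x * w * (x * w) = x * (w * x) * w := by group
    _ = x * z * (x * (w * w)) := by rw [e]; group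
    _ = z * (x * x) := by rw [hw2, mul_one, h.comm hx, mul_assoc]

end

set_option synthInstance.maxSize 2048 in
set_option synthInstance.maxHeartbeats 200000 in
/-- A proper subspace of three bits has a nonzero functional killing it. -/
theorem bits_functional : ∀ R : Finset (Fin 3 → Bool), (fun _ => false) ∈ R →
    (∀ a ∈ R, ∀ b ∈ R, (fun i => xor (a i) (b i)) ∈ R) → R = Finset.univ ∨
      ∃ m : Fin 3 → Bool, m ≠ (fun _ => false) ∧
        ∀ a ∈ R, xor (m 0 && a 0) (xor (m 1 && a 1) (m 2 && a 2)) = false := by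
  decide +kernel

namespace Hyp

variable {Q : Subgroup G} {t : G} (H : Hyp Q t)

/-- A conjugate of `t` in `Q` other than `t`. -/
structure FPair (H : Hyp Q t) (g : G) : Prop where
  mem : g * t * g⁻¹ ∈ Q
  ne : g * t * g⁻¹ ≠ t

variable {g : G}

/-- `Q_a`. -/
def Qa (_H : Hyp Q t) (g : G) : Subgroup G := Q.map (MulAut.conj g).toMonoidHom

include H

theorem mem_Qa {x : G} : x ∈ H.Qa g ↔ g⁻¹ * x * g ∈ Q := by
  rw [Qa, mem_map_equiv, MulAut.conj_symm_apply]

theorem ctr' : Ctr (H.Qa g) (g * t * g⁻¹) := H.ctr.of_conj g fun _ => H.mem_Qa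

/-- The transported hypotheses. -/
def conjHyp (g : G) : Hyp (H.Qa g) (g * t * g⁻¹) where
  ctr := H.ctr'
  card := by rw [Qa, card_map_of_injective (MulAut.conj g).injective, H.card]
  img := fun x => H.img (g⁻¹ * x * g)
  img_mul := fun {x y} hx hy => by
    rw [show g⁻¹ * (x * y) * g = g⁻¹ * x * g * (g⁻¹ * y * g) by group]
    refine H.img_mul ?_ ?_
    · calc g⁻¹ * x * g * t = g⁻¹ * (x * (g * t * g⁻¹)) * g := by group
        _ = _ := by rw [hx]; group
    · calc g⁻¹ * y * g * t = g⁻¹ * (y * (g * t * g⁻¹)) * g := by group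
        _ = _ := by rw [hy]; group
  img_surj := fun p => by
    obtain ⟨x, hx, e⟩ := H.img_surj p
    refine ⟨g * x * g⁻¹, ?_, by rw [show g⁻¹ * (g * x * g⁻¹) * g = x by group, e]⟩
    calc g * x * g⁻¹ * (g * t * g⁻¹) = g * (x * t) * g⁻¹ := by group
      _ = _ := by rw [hx]; group
  img_iff := fun {x} hx => by
    rw [H.mem_Qa]
    refine H.img_iff ?_
    calc g⁻¹ * x * g * t = g⁻¹ * (x * (g * t * g⁻¹)) * g := by group
      _ = _ := by rw [hx]; group

variable [Finite G]

theorem FPair.two (P : H.FPair g) : Pair₂ Q (H.Qa g) t (g * t * g⁻¹) :=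
  (Pair.mk' H.ctr P.mem P.ne).two (by rw [H.card]; norm_num)

theorem FPair.t_mem (P : H.FPair g) : t ∈ H.Qa g := (Hyp.FPair.two H P).p'.mem

theorem FPair.a_mem_W (P : H.FPair g) : g * t * g⁻¹ ∈ Q ⊓ H.Qa g := ⟨P.mem, H.ctr'.z_mem⟩

theorem FPair.t_mem_W (P : H.FPair g) : t ∈ Q ⊓ H.Qa g := ⟨H.ctr.z_mem, FPair.t_mem H P⟩

/-- `Q ∩ Q_a` is elementary abelian. -/
theorem FPair.W_sq (P : H.FPair g) {x : G} (hx : x ∈ Q ⊓ H.Qa g) : x * x = 1 := by
  rcases H.ctr.sq_cases hx.1 with e | e
  · exact e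
  rcases H.ctr'.sq_cases hx.2 with e' | e'
  · exact e'
  · exact absurd (e'.symm.trans e) P.ne

theorem FPair.W_comm (P : H.FPair g) {x y : G} (hx : x ∈ Q ⊓ H.Qa g) (hy : y ∈ Q ⊓ H.Qa g) :
    x * y = y * x := by
  have h1 := FPair.W_sq H P hx
  have h2 := FPair.W_sq H P hy
  have h3 := FPair.W_sq H P ((Q ⊓ H.Qa g).mul_mem hx hy)
  calc x * y = (x * y)⁻¹ := (inv_eq_of_mul_eq_one_right h3).symm
    _ = y⁻¹ * x⁻¹ := mul_inv_rev x y
    _ = y * x := by rw [inv_eq_of_mul_eq_one_right h1, inv_eq_of_mul_eq_one_right h2]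

omit H in
/-- An element of an extraspecial group moved by conjugation has centraliser of index two. -/
theorem card_half {R : Subgroup G} {z b : G} (h : Ctr R z) (hb : b ∈ R) (hb1 : b ≠ 1) (hbz : b ≠ z) :
    2 * Nat.card ↥(R ⊓ centralizer ({b} : Set G)) = Nat.card ↥R := by
  obtain ⟨q, hq, hqb⟩ := h.exists_move hb hb1 hbz
  have hc : chi q b = true := chi_eq_true.2 fun e => h.ne_one (by
    rw [mul_inv_eq_iff_eq_mul.2 e] at hqb
    exact mul_eq_right.1 hqb.symm)
  set S := (R ⊓ centralizer ({b} : Set G)).subgroupOf R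
  have hidx : S.index = 2 := by
    refine index_eq_two_iff_exists_notMem_and.2 ⟨⟨q, hq⟩, fun h0 => ?_, fun r => ?_⟩
    · exact chi_eq_true.1 hc (mem_centralizer_singleton_iff.1 h0.2)
    · by_cases hr : r ∈ S
      · exact Or.inr hr
      · left
        refine ⟨R.mul_mem r.2 hq, mem_centralizer_singleton_iff.2 (chi_eq_false.1 ?_)⟩
        show chi ((r : G) * q) b = false
        rw [chi_mul_left h r.2 hq hb, hc]
        have : chi (r : G) b = true := chi_eq_true.2 fun e =>
          hr ⟨r.2, mem_centralizer_singleton_iff.2 e⟩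
        rw [this]; rfl
  have := S.card_mul_index
  rw [hidx, Nat.card_congr (subgroupOfEquivOfLe inf_le_left).toEquiv, mul_comm] at this
  exact this

theorem a_ne_one : g * t * g⁻¹ ≠ 1 := H.ctr'.ne_one

theorem FPair.card_S (P : H.FPair g) : Nat.card ↥(Q ⊓ centralizer ({g * t * g⁻¹} : Set G)) = 256 := by
  have := card_half H.ctr P.mem H.a_ne_one P.ne
  rw [H.card] at this
  omega

theorem FPair.card_T (P : H.FPair g) : Nat.card ↥(H.Qa g ⊓ centralizer ({t} : Set G)) = 256 := by
  have := card_half H.ctr' (FPair.t_mem H P) H.ctr.ne_one P.ne.symm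
  rw [(H.conjHyp g).card] at this
  omega

theorem FPair.T_inf (P : H.FPair g) : H.Qa g ⊓ centralizer ({t} : Set G) ⊓ Q = Q ⊓ H.Qa g := by
  ext x
  simp only [mem_inf, mem_centralizer_singleton_iff]
  exact ⟨fun h => ⟨h.2, h.1.1⟩, fun h => ⟨⟨h.2, H.comm_Q h.1⟩, h.1⟩⟩

theorem FPair.card_W (P : H.FPair g) : Nat.card ↥(Q ⊓ H.Qa g) = 32 := by
  haveI : Fact (Nat.Prime 2) := ⟨Nat.prime_two⟩
  have h1 : Nat.card ↥(Q ⊓ H.Qa g) ≤ 32 := by
    haveI : IsMulCommutative ↥((Q ⊓ H.Qa g).subgroupOf Q) :=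
      ⟨⟨fun a b => Subtype.ext (Subtype.ext (FPair.W_comm H P a.2 b.2))⟩⟩
    have h := Cfsg.Agent.PGroups.Extraspecial.card_sq_le_of_abelian H.ctr.ext ((Q ⊓ H.Qa g).subgroupOf Q)
    rw [Nat.card_congr (subgroupOfEquivOfLe (inf_le_left : Q ⊓ H.Qa g ≤ Q)).toEquiv, H.card] at h
    nlinarith
  have h2 := ((H.conjHyp g).index_le (A := Q ⊓ centralizer ({g * t * g⁻¹} : Set G)) inf_le_right
    (H.ctr.pgroup.to_le inf_le_left)).1
  have e : Q ⊓ centralizer ({g * t * g⁻¹} : Set G) ⊓ H.Qa g = Q ⊓ H.Qa g := by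
    ext x
    simp only [mem_inf, mem_centralizer_singleton_iff]
    exact ⟨fun h => ⟨h.1.1, h.2⟩, fun h => ⟨⟨h.1, H.ctr'.comm h.2⟩, h.2⟩⟩
  rw [e, FPair.card_S H P] at h2
  omega

/-- The image of `T` in the top has order eight. -/
theorem FPair.img_T (P : H.FPair g) : Nat.card ↥(((H.Qa g ⊓ centralizer ({t} : Set G)).subgroupOf
    (centralizer ({t} : Set G))).map H.psi) = 8 :=
  (H.index_le inf_le_right (H.ctr'.pgroup.to_le inf_le_left)).2
    (by rw [FPair.T_inf H P, FPair.card_T H P, FPair.card_W H P])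

/-- The three transpositions: the image of `C(t, a)` consists of their products, all from `T`. -/
theorem FPair.exists_image (P : H.FPair g) : ∃ s : P3, (∀ i, s i ≠ 1 ∧ s i * s i = 1) ∧
    (∀ c, c * t = t * c → c * (g * t * g⁻¹) = g * t * g⁻¹ * c → ∀ i, H.img c i = 1 ∨ H.img c i = s i) ∧
    ∀ p : P3, (∀ i, p i = 1 ∨ p i = s i) → ∃ x, x ∈ H.Qa g ∧ x * t = t * x ∧ H.img x = p := by
  obtain ⟨s, hs, hmem⟩ := P3.eight (FPair.img_T H P)
  refine ⟨s, hs, fun c hc hca => ?_, fun p hp => ?_⟩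
  · refine (hmem _).1 (H.sq_of_normal inf_le_right (FPair.img_T H P) hc fun x hx => ?_)
    exact ⟨H.ctr'.conj_mem hca hx.1,
      mem_centralizer_singleton_iff.2 (comm_conj hc (mem_centralizer_singleton_iff.1 hx.2))⟩
  · obtain ⟨x, hx, hxp⟩ := (hmem p).2 hp
    exact ⟨x, hx.1, mem_centralizer_singleton_iff.1 hx.2, hxp⟩

/-- `W` is self-centralising in `Q_a`. -/
theorem FPair.mem_W (P : H.FPair g) {x : G} (hx : x ∈ H.Qa g) (hc : ∀ w ∈ Q ⊓ H.Qa g, chi x w = false) :
    x ∈ Q := by
  haveI : Fact (Nat.Prime 2) := ⟨Nat.prime_two⟩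
  by_contra hxQ
  set W' := (Q ⊓ H.Qa g).subgroupOf (H.Qa g)
  set A : Subgroup ↥(H.Qa g) := closure ((W' : Set ↥(H.Qa g)) ∪ {⟨x, hx⟩}) with hAdef
  haveI : IsMulCommutative ↥A := by
    refine ⟨⟨fun a b => Subtype.ext ?_⟩⟩
    have hle : A ≤ centralizer (A : Set ↥(H.Qa g)) := by
      rw [hAdef, centralizer_closure, closure_le]
      intro a ha
      refine mem_centralizer_iff.2 fun b hb => ?_
      rcases ha with ha | ha <;> rcases hb with hb | hb
      · exact Subtype.ext (FPair.W_comm H P hb ha)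
      · rw [Set.mem_singleton_iff] at hb; subst hb
        exact Subtype.ext (chi_eq_false.1 (hc _ ha))
      · rw [Set.mem_singleton_iff] at ha; subst ha
        exact Subtype.ext (chi_eq_false.1 (hc _ hb)).symm
      · rw [Set.mem_singleton_iff] at ha hb; rw [ha, hb]
    exact (mem_centralizer_iff.1 (hle b.2) a a.2)
  have h := Cfsg.Agent.PGroups.Extraspecial.card_sq_le_of_abelian H.ctr'.ext A
  rw [(H.conjHyp g).card] at h
  have hlt : W' < A := by
    refine lt_of_le_of_ne (fun a ha => subset_closure (Or.inl ha)) fun e => hxQ ?_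
    have : (⟨x, hx⟩ : ↥(H.Qa g)) ∈ W' := e.symm ▸ subset_closure (Or.inr rfl)
    exact this.1
  have hc' : Nat.card ↥W' = 32 := by
    rw [Nat.card_congr (subgroupOfEquivOfLe (inf_le_right : Q ⊓ H.Qa g ≤ H.Qa g)).toEquiv, FPair.card_W H P]
  obtain ⟨k, hk⟩ := card_dvd_of_le hlt.le
  have hne : Nat.card ↥W' ≠ Nat.card ↥A := fun e => hlt.ne (eq_of_le_of_card_ge hlt.le e.ge)
  rw [hc'] at hk hne
  have : 2 ≤ k := by
    rcases k with _ | _ | k
    · exact absurd (hk.trans (mul_zero _)) Nat.card_pos.ne'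
    · exact absurd (hk.trans (mul_one _)).symm hne
    · omega
  nlinarith

/-- Commuting involutions of `T` over the three transpositions, dual to `W`. -/
theorem FPair.exists_lifts (P : H.FPair g) {s : P3} (hs : ∀ i, s i ≠ 1 ∧ s i * s i = 1)
    (hT : ∀ p : P3, (∀ i, p i = 1 ∨ p i = s i) → ∃ x, x ∈ H.Qa g ∧ x * t = t * x ∧ H.img x = p) :
    ∃ x : Fin 3 → G, (∀ i, x i ∈ H.Qa g ∧ x i * t = t * x i ∧ x i * x i = 1 ∧
      H.img (x i) = Function.update (1 : P3) i (s i)) ∧ (∀ i j, x i * x j = x j * x i) ∧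
      ∀ δ : Fin 3 → Bool, ∃ w ∈ Q ⊓ H.Qa g, ∀ i, chi (x i) w = δ i := by
  classical
  choose y hy using fun i => hT (Function.update (1 : P3) i (s i)) fun j => by
    by_cases h : j = i
    · subst h; simp
    · simp [h]
  have h' := H.ctr' (g := g)
  set W := Q ⊓ H.Qa g with hW
  -- any set of representatives is dual to `W`
  have dual : ∀ x : Fin 3 → G, (∀ i, x i ∈ H.Qa g ∧ x i * t = t * x i ∧
      H.img (x i) = Function.update (1 : P3) i (s i)) → ∀ δ : Fin 3 → Bool, ∃ w ∈ W, ∀ i, chi (x i) w = δ i := by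
    intro x hx
    let R : Finset (Fin 3 → Bool) := Finset.univ.filter fun δ => ∃ w ∈ W, ∀ i, chi (x i) w = δ i
    have h0 : (fun _ => false) ∈ R :=
      Finset.mem_filter.2 ⟨Finset.mem_univ _, 1, W.one_mem, fun i => chi_eq_false.2 (by simp)⟩
    have hadd : ∀ a ∈ R, ∀ b ∈ R, (fun i => xor (a i) (b i)) ∈ R := by
      intro a ha b hb
      obtain ⟨-, v, hv, hva⟩ := Finset.mem_filter.1 ha
      obtain ⟨-, w, hw, hwb⟩ := Finset.mem_filter.1 hb
      exact Finset.mem_filter.2 ⟨Finset.mem_univ _, v * w, W.mul_mem hv hw, fun i => by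
        rw [chi_mul_right h' hv.2 hw.2 (hx i).1, hva, hwb]⟩
    rcases bits_functional R h0 hadd with hR | ⟨m, hm, hkill⟩
    · intro δ
      exact (Finset.mem_filter.1 (show δ ∈ R by rw [hR]; exact Finset.mem_univ _)).2
    · exfalso
      apply hm
      let f : Fin 3 → G := fun i => if m i then x i else 1
      have hf : ∀ i, f i ∈ H.Qa g ∧ f i * t = t * f i ∧
          H.img (f i) = Function.update (1 : P3) i (if m i then s i else 1) := by
        intro i
        cases e : m i <;> simp [f, e, hx i, H.img_one, one_mem]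
      have hp : f 0 * f 1 * f 2 ∈ H.Qa g :=
        (H.Qa g).mul_mem ((H.Qa g).mul_mem (hf 0).1 (hf 1).1) (hf 2).1
      have hfc : ∀ w ∈ W, chi (f 0 * f 1 * f 2) w = false := by
        intro w hw
        have hb : ∀ i, chi (f i) w = (m i && chi (x i) w) := fun i => by
          cases e : m i <;> simp [f, e, chi_eq_false]
        rw [chi_mul_left h' ((H.Qa g).mul_mem (hf 0).1 (hf 1).1) (hf 2).1 hw.2,
          chi_mul_left h' (hf 0).1 (hf 1).1 hw.2, hb, hb, hb, Bool.xor_assoc]
        exact hkill _ (Finset.mem_filter.2 ⟨Finset.mem_univ _, w, hw, fun i => rfl⟩)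
      have h1 := (H.img_iff (comm_mul (comm_mul (hf 0).2.1 (hf 1).2.1) (hf 2).2.1)).2
        (FPair.mem_W H P hp hfc)
      rw [H.img_mul (comm_mul (hf 0).2.1 (hf 1).2.1) (hf 2).2.1, H.img_mul (hf 0).2.1 (hf 1).2.1,
        (hf 0).2.2, (hf 1).2.2, (hf 2).2.2] at h1
      funext i
      have := congrFun h1 i
      cases e : m i
      · rfl
      · fin_cases i <;> simp_all [Function.update]
  -- multiplying by elements of `W` changes neither images nor duality
  have shift : ∀ x : Fin 3 → G, (∀ i, x i ∈ H.Qa g ∧ x i * t = t * x i ∧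
      H.img (x i) = Function.update (1 : P3) i (s i)) → ∀ v : Fin 3 → G, (∀ i, v i ∈ W) →
      ∀ i, x i * v i ∈ H.Qa g ∧ x i * v i * t = t * (x i * v i) ∧
        H.img (x i * v i) = Function.update (1 : P3) i (s i) := by
    intro x hx v hv i
    refine ⟨(H.Qa g).mul_mem (hx i).1 (hv i).2, comm_mul (hx i).2.1 (H.comm_Q (hv i).1), ?_⟩
    rw [H.img_mul (hx i).2.1 (H.comm_Q (hv i).1), (H.img_iff (H.comm_Q (hv i).1)).2 (hv i).1, mul_one,
      (hx i).2.2]
  -- make them commute
  obtain ⟨v₁, hv₁, hv₁'⟩ := dual y hy ![chi (y 0) (y 1), false, false]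
  obtain ⟨v₂, hv₂, hv₂'⟩ := dual y hy ![chi (y 0) (y 2), chi (y 1) (y 2), false]
  let v : Fin 3 → G := ![1, v₁, v₂]
  have hv : ∀ i, v i ∈ W := fun i => by fin_cases i <;> simp [v, hv₁, hv₂, W.one_mem]
  let x : Fin 3 → G := fun i => y i * v i
  have hx := shift y hy v hv
  have hWW : ∀ {p q}, p ∈ W → q ∈ W → chi p q = false := fun hp hq =>
    chi_eq_false.2 (FPair.W_comm H P hp hq)
  have hxx : ∀ i j, chi (x i) (x j) =
      xor (xor (chi (y i) (y j)) (chi (y i) (v j))) (chi (v i) (y j)) := by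
    intro i j
    show chi (y i * v i) (y j * v j) = _
    rw [chi_mul_left h' (hy i).1 (hv i).2 (hx j).1, chi_mul_right h' (hy j).1 (hv j).2 (hy i).1,
      chi_mul_right h' (hy j).1 (hv j).2 (hv i).2, hWW (hv i) (hv j), Bool.xor_false]
  have hcomm : ∀ i j, chi (x i) (x j) = false := by
    have a01 : chi (x 0) (x 1) = false := by
      rw [hxx]; simp [v, hv₁' 0, chi_eq_false.2 (show (1 : G) * y 1 = y 1 * 1 by simp)]
    have a02 : chi (x 0) (x 2) = false := by
      rw [hxx]; simp [v, hv₂' 0, chi_eq_false.2 (show (1 : G) * y 2 = y 2 * 1 by simp)]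
    have a12 : chi (x 1) (x 2) = false := by
      rw [hxx, chi_comm (v 1) (y 2)]; simp [v, hv₂' 1, hv₁' 2]
    intro i j
    fin_cases i <;> fin_cases j <;>
      first
        | exact chi_self _
        | assumption
        | (rw [chi_comm]; assumption)
  -- make them involutions
  have hd : ∀ i, ∃ w ∈ W, ∀ j, chi (x j) w = (decide (j = i) && decide (x i * x i ≠ 1)) :=
    fun i => dual x hx fun j => decide (j = i) && decide (x i * x i ≠ 1)
  choose w hw hw' using hd
  let z : Fin 3 → G := fun i => x i * w i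
  have hz := shift x hx w hw
  refine ⟨z, fun i => ⟨(hz i).1, (hz i).2.1, ?_, (hz i).2.2⟩, fun i j => ?_, dual z hz⟩
  · by_cases hsq : x i * x i = 1
    · have hc : chi (x i) (w i) = false := by rw [hw' i i]; simp [hsq]
      show x i * w i * (x i * w i) = 1
      calc x i * w i * (x i * w i) = x i * (w i * x i) * w i := by simp only [mul_assoc]
        _ = x i * (x i * w i) * w i := by rw [chi_eq_false.1 hc]
        _ = x i * x i * (w i * w i) := by simp only [mul_assoc]
        _ = 1 := by rw [FPair.W_sq H P (hw i), hsq, one_mul]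
    · have hc : chi (x i) (w i) = true := by rw [hw' i i]; simp [hsq]
      show x i * w i * (x i * w i) = 1
      rw [sq_mul h' (hx i).1 (hw i).2 (FPair.W_sq H P (hw i)) hc,
        (h'.sq_cases (hx i).1).resolve_left hsq, h'.zz]
  · refine chi_eq_false.1 ?_
    by_cases hij : i = j
    · subst hij; exact chi_self _
    · show chi (x i * w i) (x j * w j) = false
      rw [chi_mul_left h' (hx i).1 (hw i).2 (hz j).1, chi_mul_right h' (hx j).1 (hw j).2 (hx i).1,
        chi_mul_right h' (hx j).1 (hw j).2 (hw i).2, hWW (hw i) (hw j), hcomm, chi_comm (w i), hw', hw']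
      simp [hij, Ne.symm hij]

end Hyp

end Cfsg.Agent.OmegaEightInv
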