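import Cfsg.Agent.Lib.OmegaEightInv.Main
import Cfsg.Agent.Lib.OmegaEightInv.Cent
import Cfsg.Agent.Lib.OmegaEightInv.Entry

/-!
S3345 from the model half.
-/

set_option autoImplicit false

namespace Cfsg.Agent.OmegaEightInv

open Subgroup

universe u

/-- The recognition, given the model half. -/
theorem of_topFact (htop : TopFact.{u}) {G : Type u} [Group G] [Finite G]
    (hG : Cfsg.pResidual 2 G = ⊤) (t : G) (ht : orderOf t = 2)
    (C : Subgroup G) (hC : C = Subgroup.centralizer ({t} : Set G))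
    (hF : Cfsg.IsExtraspecial 2 (Cfsg.generalizedFittingSubgroup C))
    (hFcard : Nat.card (Cfsg.generalizedFittingSubgroup C) = 2 ^ 9)
    (e : C ⧸ Cfsg.pCore 2 C ≃* Equiv.Perm (Fin 3) × Equiv.Perm (Fin 3) × Equiv.Perm (Fin 3)) :
    (∀ g : G, g * t * g⁻¹ * t⁻¹ ∈ Cfsg.oddCore G) ∨
      Nonempty (G ≃* Cfsg.Omega (ZMod 2) (Cfsg.quadFormPlus 4 (ZMod 2))) := by
  by_cases h : ∀ g : G, g * t * g⁻¹ * t = t * (g * t * g⁻¹) → g * t * g⁻¹ = t
  · exact Or.inl (oddCore_of_isolated t ht h)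
  right
  push Not at h
  obtain ⟨Q, ⟨H⟩⟩ := exists_hyp t ht C hC hF hFcard e
  obtain ⟨g, hg, hne⟩ := H.exists_fused h
  obtain ⟨B, S, ⟨N⟩⟩ := Hyp.Base.exists_node (H := H) ⟨hg, hne⟩
  exact htop N.nn t Q hG (N.topHyp N.cent_le)

end Cfsg.Agent.OmegaEightInv
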