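import Cfsg.Agent.Lib.OmegaEightInv.TopInvol

/-!
# A subgroup `Ω⁺₈(2)` containing the centralizer of a root is the whole group
-/

set_option autoImplicit false
set_option linter.unusedSectionVars false

namespace Cfsg.Agent.OmegaEightInv

open Subgroup

variable {G : Type*} [Group G]

/-- In the group generated by two involutions an odd power of the product in a set of elements
commuting with both moves one involution to a translate of the other. -/
theorem dihedral_odd {r x a : G} (hr : r * r = 1) (hx : x * x = 1) {m : ℕ}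
    (ha : (r * x) ^ (2 * m + 1) = a) :
    x = (r * x) ^ m * (r * a) * ((r * x) ^ m)⁻¹ := by
  have hxr : (r * x)⁻¹ = x * r := by
    rw [mul_inv_rev, inv_eq_of_mul_eq_one_right hr, inv_eq_of_mul_eq_one_right hx]
  have h1 : ∀ k : ℕ, x * (r * x) ^ k = (x * r) ^ k * x := by
    intro k
    induction k with
    | zero => simp
    | succ k ih => rw [pow_succ, ← mul_assoc, ih, pow_succ]; simp only [mul_assoc]
  have e : a = (r * x) ^ m * r * ((r * x) ^ m)⁻¹ * x := by
    rw [← ha, ← inv_pow, hxr, show 2 * m + 1 = m + (1 + m) by omega, pow_add, pow_add, pow_one,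
      mul_assoc r x, h1]
    simp only [mul_assoc]
  have hd : Commute ((r * x) ^ m) a := by
    rw [← ha]; exact (Commute.refl (r * x)).pow_pow m (2 * m + 1)
  calc x = ((r * x) ^ m * r * ((r * x) ^ m)⁻¹)⁻¹ * a := by rw [e]; group
    _ = (r * x) ^ m * (r * a) * ((r * x) ^ m)⁻¹ := by
      rw [mul_inv_rev, mul_inv_rev, inv_inv, inv_eq_of_mul_eq_one_right hr, mul_assoc ((r * x) ^ m) (r * a),
        mul_assoc r a, ← hd.inv_left.eq, ← mul_assoc r, mul_assoc]

/-- In the group generated by two involutions, one of them times a power of the product is a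
conjugate of one of the two. -/
theorem dihedral_pow {r x : G} (hr : r * r = 1) (hx : x * x = 1) (k : ℕ) :
    ∃ d, r * (r * x) ^ k = d * r * d⁻¹ ∨ r * (r * x) ^ k = d * x * d⁻¹ := by
  have hxr : (r * x)⁻¹ = x * r := by
    rw [mul_inv_rev, inv_eq_of_mul_eq_one_right hr, inv_eq_of_mul_eq_one_right hx]
  have h1 : ∀ k : ℕ, r * (r * x) ^ k = (x * r) ^ k * r := by
    intro k
    induction k with
    | zero => simp
    | succ k ih =>
      rw [pow_succ, ← mul_assoc, ih, pow_succ]
      simp only [mul_assoc]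
      rw [← mul_assoc r r, hr, one_mul]
      rw [mul_one]
  refine ⟨((r * x) ^ (k / 2))⁻¹, ?_⟩
  rw [inv_inv, ← inv_pow, hxr]
  rcases Nat.mod_two_eq_zero_or_one k with hk | hk
  · left
    nth_rewrite 1 [show k = k / 2 + k / 2 by omega]
    rw [pow_add, ← mul_assoc, h1]
  · right
    nth_rewrite 1 [show k = k / 2 + (1 + k / 2) by omega]
    rw [pow_add, ← mul_assoc, h1, pow_add, pow_one]
    simp only [mul_assoc]
    rw [← mul_assoc r r, hr, one_mul]

variable (f : St →* G)

/-- The hypotheses on the image of the root generator. -/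
structure StrongHyp (f : St →* G) : Prop where
  inj : Function.Injective f
  cent : Subgroup.centralizer ({f (stR 23)} : Set G) ≤ f.range
  five : ¬ 5 ∣ Nat.card ↥(Subgroup.centralizer ({f (stR 23)} : Set G))
  sq : ∀ g : G, g * f (stR 23) = f (stR 23) * g → g ^ 4 = 1 → ∀ a : G,
    a * f (stR 23) * a⁻¹ = g * g → ∃ m ∈ f.range, m * f (stR 23) * m⁻¹ = g * g

namespace StrongHyp

variable {f} (H : StrongHyp f)
include H

theorem t_sq : f (stR 23) * f (stR 23) = 1 := by rw [← map_mul, stR_sq (by norm_num), map_one]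

theorem cent_mem {g : G} (h : Commute g (f (stR 23))) : g ∈ f.range :=
  H.cent (mem_centralizer_singleton_iff.2 h.eq)

theorem not_conj {g : G} {k : ℕ} (hk : k < 4) (h : g * f (stR 23) * g⁻¹ = f (classRep k)) :
    g ∈ f.range := by
  obtain ⟨y, hc, hy⟩ := witness hk
  have hmem : Commute (g⁻¹ * f y * g) (f (stR 23)) := by
    have e : f (stR 23) = g⁻¹ * f (classRep k) * g := by rw [← h]; group
    rw [e, Commute, SemiconjBy, show g⁻¹ * f y * g * (g⁻¹ * f (classRep k) * g) =
      g⁻¹ * (f y * f (classRep k)) * g by group, (hc.map f).eq]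
    group
  have hp : ∀ n : ℕ, (g⁻¹ * f y * g) ^ n = g⁻¹ * f (y ^ n) * g := by
    intro n
    have e := conj_pow (a := g⁻¹) (b := f y) (i := n)
    rw [inv_inv] at e
    rw [e, map_pow]
  rcases hy with ⟨h5, hne⟩ | ⟨h4, hr⟩
  · refine absurd ?_ H.five
    let z : Subgroup.centralizer ({f (stR 23)} : Set G) :=
      ⟨g⁻¹ * f y * g, mem_centralizer_singleton_iff.2 hmem.eq⟩
    have : Fact (Nat.Prime 5) := ⟨by norm_num⟩
    have ho : orderOf z = 5 := by
      refine orderOf_eq_prime (Subtype.ext ?_) fun e => hne (H.inj ?_)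
      · show (g⁻¹ * f y * g) ^ 5 = 1
        rw [hp, h5, map_one, mul_one, inv_mul_cancel]
      · have e' : g⁻¹ * f y * g = 1 := congrArg Subtype.val e
        rw [map_one, show f y = g * (g⁻¹ * f y * g) * g⁻¹ by group, e', mul_one, mul_inv_cancel]
    exact ho ▸ orderOf_dvd_natCard z
  · obtain ⟨a, ha⟩ := hr
    have e2 : g⁻¹ * f y * g * (g⁻¹ * f y * g) = g⁻¹ * f a * f (stR 23) * (g⁻¹ * f a)⁻¹ := by
      rw [show g⁻¹ * f y * g * (g⁻¹ * f y * g) = g⁻¹ * f (y * y) * g by rw [map_mul]; group, ha,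
        map_mul, map_mul, map_inv]
      group
    obtain ⟨m, hm, em⟩ := H.sq _ hmem.eq (by rw [hp, h4, map_one, mul_one, inv_mul_cancel]) _ e2.symm
    rw [e2] at em
    have hcm : m⁻¹ * (g⁻¹ * f a) ∈ f.range := by
      refine H.cent_mem ?_
      rw [Commute, SemiconjBy, show m⁻¹ * (g⁻¹ * f a) * f (stR 23) =
        m⁻¹ * (g⁻¹ * f a * f (stR 23) * (g⁻¹ * f a)⁻¹) * (g⁻¹ * f a) by group, ← em]
      group
    have h2 := f.range.mul_mem hm hcm
    rw [mul_inv_cancel_left] at h2
    have h3 := f.range.mul_mem ⟨a, rfl⟩ (f.range.inv_mem h2)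
    rwa [mul_inv_rev, inv_inv, mul_inv_cancel_left] at h3

/-- A conjugate of the root inside the subgroup comes from an element of the subgroup. -/
theorem mem_of_conj {g : G} {y : St} (h : g * f (stR 23) * g⁻¹ = f y) :
    g ∈ f.range ∧ IsRootS y := by
  have h1 : y ≠ 1 := by
    rintro rfl
    rw [map_one] at h
    have : stR 23 = 1 := H.inj (by
      rw [map_one, show f (stR 23) = g⁻¹ * (g * f (stR 23) * g⁻¹) * g by group, h, mul_one,
        inv_mul_cancel])
    have e := congrArg evS this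
    rw [evS_stR (by norm_num), evS_one] at e
    exact absurd e (by simpa using gen23_ne)
  have h2 : y * y = 1 := H.inj (by
    rw [map_mul, ← h, map_one, show g * f (stR 23) * g⁻¹ * (g * f (stR 23) * g⁻¹) =
      g * (f (stR 23) * f (stR 23)) * g⁻¹ by group, H.t_sq, mul_one, mul_inv_cancel])
  have root_case : IsRootS y → g ∈ f.range := by
    rintro ⟨a, rfl⟩
    have hc : (f a)⁻¹ * g ∈ f.range := by
      refine H.cent_mem ?_
      rw [Commute, SemiconjBy, show (f a)⁻¹ * g * f (stR 23) =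
        (f a)⁻¹ * (g * f (stR 23) * g⁻¹) * g by group, h, map_mul, map_mul, map_inv]
      group
    have := f.range.mul_mem ⟨a, rfl⟩ hc
    rwa [mul_inv_cancel_left] at this
  rcases classify h2 h1 with hr | ⟨k, hk, a, ha⟩
  · exact ⟨root_case hr, hr⟩
  · have hg : (f a)⁻¹ * g ∈ f.range := H.not_conj hk (by
      rw [show (f a)⁻¹ * g * f (stR 23) * ((f a)⁻¹ * g)⁻¹ =
        (f a)⁻¹ * (g * f (stR 23) * g⁻¹) * f a by group, h, ha, map_mul, map_mul, map_inv]
      group)
    obtain ⟨b, hb⟩ := f.range.mul_mem ⟨a, rfl⟩ hg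
    rw [mul_inv_cancel_left] at hb
    refine ⟨⟨b, hb⟩, b, H.inj ?_⟩
    rw [← h, ← hb, map_mul, map_mul, map_inv]

theorem of_root_comm {y : St} (hy : IsRootS y) {x : G} (h : Commute x (f y)) : x ∈ f.range := by
  obtain ⟨a, rfl⟩ := hy
  have hc : (f a)⁻¹ * x * f a ∈ f.range := by
    refine H.cent_mem ?_
    rw [map_mul, map_mul, map_inv] at h
    rw [Commute, SemiconjBy, show (f a)⁻¹ * x * f a * f (stR 23) =
      (f a)⁻¹ * (x * (f a * f (stR 23) * (f a)⁻¹)) * f a by group, h.eq]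
    group
  have := f.range.mul_mem (f.range.mul_mem ⟨a, rfl⟩ hc) (f.range.inv_mem ⟨a, rfl⟩)
  rwa [show f a * ((f a)⁻¹ * x * f a) * (f a)⁻¹ = x by group] at this

theorem mem_of_conj_root {y : St} (hy : IsRootS y) {g : G} (h : g * f y * g⁻¹ ∈ f.range) :
    g ∈ f.range := by
  obtain ⟨a, rfl⟩ := hy
  obtain ⟨z, hz⟩ := h
  have h1 := (H.mem_of_conj (g := g * f a) (y := z) (by
    rw [hz, map_mul, map_mul, map_inv]; group)).1
  have := f.range.mul_mem h1 (f.range.inv_mem ⟨a, rfl⟩)
  rwa [mul_inv_cancel_right] at this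

/-- A conjugate of the root outside the subgroup. -/
def Outer (f : St →* G) (x : G) : Prop := x ∉ f.range ∧ ∃ g, g * f (stR 23) * g⁻¹ = x

theorem outer_sq {x : G} (hx : Outer f x) : x * x = 1 := by
  obtain ⟨g, rfl⟩ := hx.2
  rw [show g * f (stR 23) * g⁻¹ * (g * f (stR 23) * g⁻¹) =
      g * (f (stR 23) * f (stR 23)) * g⁻¹ by group, H.t_sq, mul_one, mul_inv_cancel]

theorem outer_conj {x : G} (hx : Outer f x) (b : St) : Outer f (f b * x * (f b)⁻¹) := by
  obtain ⟨g, rfl⟩ := hx.2
  refine ⟨fun h => hx.1 ?_, f b * g, by group⟩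
  have := f.range.mul_mem (f.range.mul_mem (f.range.inv_mem ⟨b, rfl⟩) h) ⟨b, rfl⟩
  rwa [show (f b)⁻¹ * (f b * (g * f (stR 23) * g⁻¹) * (f b)⁻¹) * f b =
    g * f (stR 23) * g⁻¹ by group] at this

/-- An outer conjugate commuting with a node and a root of it leads to a translate of the root. -/
theorem step [Finite G] {n : ℕ} {A : List St} (hone : (1 : St) ∈ A) {r : St} (hc : Closed n A r) {x : G}
    (hx : Outer f x) (hxA : ∀ a ∈ A, Commute x (f a))
    (ih : ∀ m < n, ∀ y, Outer f y → (∀ a ∈ nodeSet m, Commute y (f a)) → False) :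
    ∃ a ∈ A, IsRootS (r * a) ∧ ∃ d : G, (∀ b ∈ A, Commute d (f b)) ∧
      x = d * f (r * a) * d⁻¹ := by
  classical
  obtain ⟨⟨hr, hrA⟩, -, hbr⟩ := hc
  have hrr : f r * f r = 1 := by rw [← map_mul, root_sq hr, map_one]
  have hxx := H.outer_sq hx
  have hq : ∀ b ∈ A, ∀ k : ℕ, Commute ((f r * x) ^ k) (f b) := fun b hb k =>
    ((((hrA b hb).map f)).mul_left (hxA b hb)).pow_left k
  obtain ⟨g₀, hg₀⟩ := hx.2
  by_cases hodd : ∃ m, ∃ a ∈ A, (f r * x) ^ (2 * m + 1) = f a
  · obtain ⟨m, a, ha, e⟩ := hodd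
    have e2 := dihedral_odd hrr hxx e
    rw [← map_mul] at e2
    refine ⟨a, ha, (H.mem_of_conj (g := ((f r * x) ^ m)⁻¹ * g₀) (y := r * a) ?_).2, _,
      fun b hb => hq b hb m, e2⟩
    rw [show ((f r * x) ^ m)⁻¹ * g₀ * f (stR 23) * (((f r * x) ^ m)⁻¹ * g₀)⁻¹ =
      ((f r * x) ^ m)⁻¹ * (g₀ * f (stR 23) * g₀⁻¹) * (f r * x) ^ m by group, hg₀]
    conv_lhs => arg 1; arg 2; rw [e2]
    group
  exfalso
  have hne : ∃ k, 0 < k ∧ ∃ a ∈ A, (f r * x) ^ k = f a := by
    exact ⟨orderOf (f r * x), orderOf_pos _, 1, hone, by rw [pow_orderOf_eq_one, map_one]⟩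
  obtain ⟨hk0, a, ha, ek⟩ := Nat.find_spec hne
  set k := Nat.find hne with hk
  obtain ⟨m, hm⟩ : ∃ m, k = 2 * m := by
    refine ⟨k / 2, ?_⟩
    by_contra h
    exact hodd ⟨k / 2, a, ha, by rw [show 2 * (k / 2) + 1 = k by omega, ek]⟩
  set j := (f r * x) ^ m with hj
  have hjA : ∀ b ∈ A, j ≠ f b := fun b hb e =>
    Nat.find_min hne (show m < k by omega) ⟨by omega, b, hb, e⟩
  have hj2 : j * j = f a := by rw [hj, ← pow_add, ← ek]; congr 1; omega
  have hinv : f r * j * f r = j⁻¹ := by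
    have hc' := conj_pow (a := f r) (b := f r * x) (i := m)
    rw [inv_eq_of_mul_eq_one_right hrr, show f r * (f r * x) * f r = x * f r by
      rw [← mul_assoc (f r), hrr, one_mul]] at hc'
    rw [hj, ← hc', ← inv_pow, mul_inv_rev, inv_eq_of_mul_eq_one_right hrr,
      inv_eq_of_mul_eq_one_right hxx]
  have hjM : j ∈ f.range := by
    refine H.mem_of_conj_root hr ⟨a * r, ?_⟩
    have h1 : f r * j⁻¹ = j * f r := by
      rw [← hinv, ← mul_assoc (f r), ← mul_assoc (f r), hrr, one_mul]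
    rw [map_mul, ← hj2, mul_assoc j (f r), h1, mul_assoc]
  obtain ⟨jS, hjS⟩ := hjM
  obtain ⟨d, hd⟩ := dihedral_pow hrr hxx m
  have hroot : IsRootS (r * jS) := by
    obtain ⟨b, hb⟩ := hr
    rcases hd with hd | hd
    · refine (H.mem_of_conj (g := d * f b) (y := r * jS) ?_).2
      rw [map_mul, hjS, hj, hd, hb, map_mul, map_mul, map_inv]
      group
    · refine (H.mem_of_conj (g := d * g₀) (y := r * jS) ?_).2
      rw [map_mul, hjS, hj, hd, ← hg₀]
      group
  have hs : CentRoot A (r * jS) := ⟨hroot, fun b hb =>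
    (hrA b hb).mul_left (Commute.of_map H.inj (by rw [hjS]; exact hq b hb m))⟩
  have erjS : r * (r * jS) = jS := by rw [← mul_assoc, root_sq hr, one_mul]
  obtain ⟨h1, h2⟩ := hbr _ hs
  rw [erjS] at h1 h2
  by_cases hcs : Commute r (r * jS)
  swap
  · refine h2 hcs ?_
    rw [show jS * jS = a from H.inj (by rw [map_mul, hjS, hj2])]
    exact ha
  have hjr : Commute (f r) j := by
    have : Commute r jS := by
      have e := (Commute.refl r).mul_right hcs
      rwa [erjS] at e
    rw [← hjS]; exact this.map f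
  have hjj : j⁻¹ = j := by rw [← hinv, hjr.eq, mul_assoc, hrr, mul_one]
  have hxj : Commute x j := by
    have e : j * (f r * x) = f r * x * j :=
      ((Commute.refl (f r * x)).pow_left m).eq
    rw [← mul_assoc, ← hjr.eq, mul_assoc (f r), mul_assoc (f r)] at e
    exact (mul_left_cancel e).symm
  rcases h1 hcs with h | ⟨b, hb, h⟩ | ⟨m', hm', g, hg⟩
  · exact hjA _ h hjS.symm
  · exact hx.1 (H.of_root_comm h (by rw [map_mul, hjS]; exact (hxA b hb).mul_right hxj))
  · refine ih m' hm' _ (H.outer_conj hx g⁻¹) fun b hb => ?_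
    have key : Commute x (f (g * b * g⁻¹)) := by
      rcases hg b hb with h | ⟨c, hc, h⟩
      · exact hxA _ h
      · rw [← h, map_mul, hjS]; exact (hxA c hc).mul_right hxj
    rw [map_mul, map_mul, map_inv] at key
    rw [map_inv, inv_inv, Commute, SemiconjBy,
      show (f g)⁻¹ * x * f g * f b = (f g)⁻¹ * (x * (f g * f b * (f g)⁻¹)) * f g by group, key.eq]
    group

/-- No outer conjugate commutes with a node. -/
theorem no_outer [Finite G] : ∀ n < 10, ∀ x, Outer f x → (∀ a ∈ nodeSet n, Commute x (f a)) → False := by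
  intro n
  induction n using Nat.strong_induction_on with
  | _ n ih =>
  intro hn x hx hxA
  obtain ⟨hone, -, r₁, r₂, h₁, h₂, hne⟩ := node_facts hn
  have ih' : ∀ m < n, ∀ y, Outer f y → (∀ a ∈ nodeSet m, Commute y (f a)) → False :=
    fun m hm => ih m hm (by omega)
  obtain ⟨a₁, ha₁, hr₁, d₁, hd₁, e₁⟩ := H.step hone h₁ hx hxA ih'
  obtain ⟨a₂, ha₂, hr₂, d₂, hd₂, e₂⟩ := H.step hone h₂ hx hxA ih'
  have e : d₂⁻¹ * d₁ * f (r₁ * a₁) * (d₂⁻¹ * d₁)⁻¹ = f (r₂ * a₂) := by
    rw [show d₂⁻¹ * d₁ * f (r₁ * a₁) * (d₂⁻¹ * d₁)⁻¹ =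
      d₂⁻¹ * (d₁ * f (r₁ * a₁) * d₁⁻¹) * d₂ by group, ← e₁, e₂]
    group
  obtain ⟨c, hc⟩ := H.mem_of_conj_root hr₁ (g := d₂⁻¹ * d₁) ⟨_, e.symm⟩
  have ec : c * (r₁ * a₁) * c⁻¹ = r₂ * a₂ := H.inj (by rw [map_mul, map_mul, map_inv, hc, e])
  have hcA : ∀ b ∈ nodeSet n, Commute c b := fun b hb =>
    Commute.of_map H.inj (by rw [hc]; exact (hd₂ b hb).inv_left.mul_left (hd₁ b hb))
  refine hne ?_
  rw [← h₁.2.1 a₁ ha₁ hr₁, ← h₂.2.1 a₂ ha₂ hr₂, ← ec, invS_conj hcA]

theorem no_outer_class [Finite G] {k : ℕ} (hk : k < 4) {x : G} (hx : Outer f x)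
    (h : Commute x (f (classRep k))) : False := by
  obtain ⟨hn, e⟩ := classNode_set hk
  refine H.no_outer _ hn x hx fun a ha => ?_
  rw [e, List.mem_cons, List.mem_singleton] at ha
  rcases ha with rfl | rfl
  · rw [map_one]; exact Commute.one_right x
  · exact h

/-- The subgroup is everything. -/
theorem range_eq_top [Finite G] : f.range = ⊤ := by
  classical
  by_contra hne
  obtain ⟨g, hg⟩ : ∃ g, g ∉ f.range := by
    by_contra h
    push Not at h
    exact hne (eq_top_iff.2 fun z _ => h z)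
  set x := g * f (stR 23) * g⁻¹ with hxdef
  have hx : Outer f x := ⟨fun ⟨y, hy⟩ => hg (H.mem_of_conj hy.symm).1, g, rfl⟩
  obtain ⟨-, -, r, -, hr, -⟩ := node_facts (classNode_set (k := 0) (by norm_num)).1
  rw [(classNode_set (k := 0) (by norm_num)).2] at hr
  have hru : Commute r (classRep 0) := hr.1.2 _ (by simp)
  obtain ⟨y5, hy5c, hy5⟩ := witness (k := 0) (by norm_num)
  set u := f (classRep 0) with hu
  have huu : u * u = 1 := by
    rw [hu, ← map_mul, classRep_facts.1, map_one]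
  have hxx := H.outer_sq hx
  have hfin : 0 < orderOf (u * x) := orderOf_pos _
  rcases Nat.even_or_odd (orderOf (u * x)) with ⟨m, hm⟩ | ⟨m, hm⟩
  · set i := (u * x) ^ m with hi
    have hi1 : i ≠ 1 := by
      intro e
      have := orderOf_dvd_of_pow_eq_one e
      exact absurd (Nat.le_of_dvd (by omega) this) (by omega)
    have hii : i * i = 1 := by rw [hi, ← pow_add, ← hm, pow_orderOf_eq_one]
    have hiinv : i⁻¹ = i := inv_eq_of_mul_eq_one_right hii
    have hiu : Commute i u := by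
      have hc' := conj_pow (a := u) (b := u * x) (i := m)
      rw [inv_eq_of_mul_eq_one_right huu, show u * (u * x) * u = x * u by
        rw [← mul_assoc u, huu, one_mul]] at hc'
      have e : u * i * u = i := by
        rw [hi, ← hc', show x * u = (u * x)⁻¹ by rw [mul_inv_rev,
          inv_eq_of_mul_eq_one_right huu, inv_eq_of_mul_eq_one_right hxx], inv_pow, ← hi, hiinv]
      have := congrArg (u * ·) e
      simp only [← mul_assoc, huu, one_mul] at this
      exact this
    have hix : Commute i x := by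
      have e : i * (u * x) = u * x * i := ((Commute.refl (u * x)).pow_left m).eq
      rw [← mul_assoc, hiu.eq, mul_assoc u, mul_assoc u] at e
      exact mul_left_cancel e
    have hiM : i ∈ f.range := by
      refine H.mem_of_conj_root hr.1.1 ?_
      by_contra h
      obtain ⟨b, hb⟩ := hr.1.1
      refine H.no_outer_class (k := 0) (by norm_num) ⟨h, i * f b, ?_⟩ ?_
      · rw [hb, map_mul, map_mul, map_inv]; group
      · exact ((hiu.mul_left (hru.map f)).mul_left hiu.inv_left)
    obtain ⟨iS, hiS⟩ := hiM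
    have hiS1 : iS ≠ 1 := fun e => hi1 (by rw [← hiS, e, map_one])
    have hiS2 : iS * iS = 1 := H.inj (by rw [map_mul, hiS, hii, map_one])
    rcases classify hiS2 hiS1 with hroot | ⟨k, hk, a, ha⟩
    · exact hx.1 (H.of_root_comm hroot (by rw [hiS]; exact hix.symm))
    · refine H.no_outer_class hk (H.outer_conj hx a⁻¹) ?_
      have h : Commute x (f a * f (classRep k) * (f a)⁻¹) := by
        rw [← map_inv, ← map_mul, ← map_mul, ← ha, hiS]; exact hix.symm
      rw [map_inv, inv_inv, Commute, SemiconjBy,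
        show (f a)⁻¹ * x * f a * f (classRep k) =
          (f a)⁻¹ * (x * (f a * f (classRep k) * (f a)⁻¹)) * f a by group, h.eq]
      group
  · have e := dihedral_odd huu hxx (m := m) (a := 1)
      (by rw [← hm, pow_orderOf_eq_one])
    rw [mul_one] at e
    have hconj : ((u * x) ^ m)⁻¹ * g * f (stR 23) * (((u * x) ^ m)⁻¹ * g)⁻¹ = u := by
      rw [show ((u * x) ^ m)⁻¹ * g * f (stR 23) * (((u * x) ^ m)⁻¹ * g)⁻¹ =
        ((u * x) ^ m)⁻¹ * x * (u * x) ^ m by rw [hxdef]; group]
      conv_lhs => arg 1; arg 2; rw [e]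
      group
    exact classRep_facts.2 (H.mem_of_conj hconj).2

end StrongHyp

end Cfsg.Agent.OmegaEightInv
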