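import Cfsg.Agent.Lib.OmegaEightInv.TopModel
import Cfsg.Agent.Lib.OmegaEightInv.TopStrong

/-!
# The model half of the recognition of `Ω⁺₈(2)`
-/

set_option autoImplicit false

namespace Cfsg.Agent.OmegaEightInv

universe u

/-- The root elements give `Ω⁺₈(2)`, and it is the whole group. -/
theorem top_fact : TopFact.{u} := by
  intro G _ _ n t Q _ h
  have hR := h.rels.rels_rootElt
  set f : St →* G := OmegaTwoHom.stMap hR with hf
  have ht : f (stR 23) = t :=
    (OmegaTwoHom.stMap_gen hR (r := 23) (by norm_num)).trans h.rels.rootElt_top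
  have hrange : f.range = rootGroup n t :=
    (OmegaTwoHom.stMap_range hR).trans h.rels.rootGroup_eq.symm
  have hinj : Function.Injective f := by
    rw [← MonoidHom.ker_eq_bot_iff]
    have := simple_St
    refine ((MonoidHom.normal_ker _).eq_bot_or_eq_top).resolve_right fun e => h.rels.t_ne ?_
    rw [← ht]
    exact MonoidHom.mem_ker.1 (e ▸ Subgroup.mem_top _)
  have H : StrongHyp f := by
    refine ⟨hinj, ?_, ?_, fun g hg h4 a ha => ?_⟩
    · rw [ht, hrange]; exact h.cent_le
    · rw [ht, h.card_cent]; norm_num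
    · rw [ht] at hg ha ⊢
      rw [hrange]
      obtain ⟨m, hm, e⟩ := h.fused a (by rw [ha]; exact h.sq_mem g hg ⟨2, h4⟩)
      exact ⟨m, hm, e.trans ha⟩
  obtain ⟨-, ⟨e⟩⟩ := OmegaTwoHom.exists_omega_iso
  exact ⟨(MulEquiv.ofBijective f ⟨hinj, MonoidHom.range_eq_top.1 H.range_eq_top⟩).symm.trans e⟩

end Cfsg.Agent.OmegaEightInv
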