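import Mathlib

/-!
# Square matrices of size eight over the field with two elements as lists of rows, and search trees
-/

set_option autoImplicit false

namespace Cfsg.Agent.OmegaEightInv

/-- Eight by eight matrices over the field with two elements. -/
abbrev M8 := Matrix (Fin 8) (Fin 8) (ZMod 2)

/-- A binary digit as an element of the field. -/
def bit2 (v i : ℕ) : ZMod 2 := if v.testBit i then 1 else 0

/-- The matrix of a list of rows. -/
def toM8 (a : List ℕ) : M8 := Matrix.of fun i j => bit2 (a.getD (i : ℕ) 0) j

/-- The sum of the rows of `B` selected by the digits of `a`. -/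
def rowComb : ℕ → List ℕ → ℕ
  | _, [] => 0
  | a, b :: B => bif Nat.beq (a % 2) 1 then Nat.xor b (rowComb (a / 2) B) else rowComb (a / 2) B

/-- The product. -/
def mul8 (A B : List ℕ) : List ℕ := A.map fun a => rowComb a B

/-- The identity. -/
def one8 : List ℕ := [1, 2, 4, 8, 16, 32, 64, 128]

/-- Eight rows of eight digits. -/
def Wide8 (a : List ℕ) : Prop := a.length = 8 ∧ ∀ v ∈ a, v < 2 ^ 8

theorem bit2_xor (a b i : ℕ) : bit2 (a ^^^ b) i = bit2 a i + bit2 b i := by
  unfold bit2
  rw [Nat.testBit_xor]
  cases a.testBit i <;> cases b.testBit i <;> rfl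

theorem bit2_rowComb (j : ℕ) : ∀ (B : List ℕ) (a : ℕ),
    bit2 (rowComb a B) j = ∑ k ∈ Finset.range B.length, bit2 a k * bit2 (B.getD k 0) j
  | [], a => by simp [rowComb, bit2]
  | b :: B, a => by
    rw [List.length_cons, Finset.sum_range_succ', rowComb]
    simp only [List.getD_cons_succ, List.getD_cons_zero]
    have e : ∀ k, bit2 a (k + 1) = bit2 (a / 2) k := fun k => by
      simp [bit2, Nat.testBit_succ]
    simp only [e]
    rw [← bit2_rowComb j B (a / 2)]
    rcases Nat.mod_two_eq_zero_or_one a with h | h
    · rw [h, show bit2 a 0 = 0 by simp [bit2, Nat.testBit_zero, h],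
        show Nat.beq 0 1 = false from rfl]
      simp
    · rw [h, show bit2 a 0 = 1 by simp [bit2, Nat.testBit_zero, h]]
      simp only [Nat.beq_refl, cond_true, one_mul]
      rw [show Nat.xor b (rowComb (a / 2) B) = b ^^^ rowComb (a / 2) B from rfl, bit2_xor, add_comm]

theorem toM8_mul8 {A B : List ℕ} (hB : B.length = 8) : toM8 (mul8 A B) = toM8 A * toM8 B := by
  refine Matrix.ext fun i j => ?_
  have h0 : ∀ B : List ℕ, rowComb 0 B = 0 := by
    intro B
    induction B with
    | nil => rfl
    | cons b B ih => simp [rowComb, ih, show Nat.beq 0 1 = false from rfl]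
  have h : (mul8 A B).getD (i : ℕ) 0 = rowComb (A.getD (i : ℕ) 0) B := by
    simp only [mul8, List.getD_eq_getElem?_getD, List.getElem?_map]
    cases A[(i : ℕ)]? <;> simp [h0]
  rw [Matrix.mul_apply]
  show bit2 ((mul8 A B).getD (i : ℕ) 0) j = _
  rw [h, bit2_rowComb, hB, Finset.sum_range]
  rfl

theorem toM8_one8 : toM8 one8 = 1 := by decide +kernel

theorem rowComb_lt : ∀ (B : List ℕ) (a : ℕ), (∀ v ∈ B, v < 2 ^ 8) → rowComb a B < 2 ^ 8
  | [], a, _ => by simp [rowComb]
  | b :: B, a, h => by
    rw [rowComb]
    have ih := rowComb_lt B (a / 2) fun v hv => h v (List.mem_cons_of_mem _ hv)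
    cases Nat.beq (a % 2) 1
    · exact ih
    · exact Nat.xor_lt_two_pow (h b List.mem_cons_self) ih

theorem wide_mul8 {A B : List ℕ} (hA : Wide8 A) (hB : Wide8 B) : Wide8 (mul8 A B) := by
  refine ⟨by simp [mul8, hA.1], fun v hv => ?_⟩
  obtain ⟨a, -, rfl⟩ := List.mem_map.1 hv
  exact rowComb_lt B a hB.2

theorem toM8_inj {A B : List ℕ} (hA : Wide8 A) (hB : Wide8 B) (h : toM8 A = toM8 B) : A = B := by
  refine List.ext_getElem (by rw [hA.1, hB.1]) fun i hi hi' => Nat.eq_of_testBit_eq fun j => ?_
  by_cases hj : j < 8
  · have e := congrFun (congrFun h ⟨i, hA.1 ▸ hi⟩) ⟨j, hj⟩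
    simp only [toM8, Matrix.of_apply, bit2, List.getD_eq_getElem?_getD, List.getElem?_eq_getElem hi,
      List.getElem?_eq_getElem hi', Option.getD_some] at e
    revert e
    cases (A[i]).testBit j <;> cases (B[i]).testBit j <;> decide
  · rw [Nat.testBit_lt_two_pow ((hA.2 _ (List.getElem_mem hi)).trans_le
        (Nat.pow_le_pow_right (by norm_num) (not_lt.1 hj))),
      Nat.testBit_lt_two_pow ((hB.2 _ (List.getElem_mem hi')).trans_le
        (Nat.pow_le_pow_right (by norm_num) (not_lt.1 hj)))]

/-- The rows read as one number, for ordering. -/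
def key8 (a : List ℕ) : ℕ := a.foldl (fun n v => n * 256 + v) 0

/-- A search tree. -/
inductive Tree8 (α : Type) where
  | nil : Tree8 α
  | node (l : Tree8 α) (k : ℕ) (v : α) (r : Tree8 α) : Tree8 α

namespace Tree8

variable {α : Type}

/-- The value stored at a key. -/
def find? : Tree8 α → ℕ → Option α
  | nil, _ => none
  | node l k v r, q => bif Nat.blt q k then find? l q else bif Nat.blt k q then find? r q else some v

/-- The values of a tree. -/
def vals : Tree8 α → List α
  | nil => []
  | node l _ v r => vals l ++ v :: vals r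

/-- The keys of a tree. -/
def keys : Tree8 α → List ℕ
  | nil => []
  | node l k _ r => keys l ++ k :: keys r

/-- A property holds for all values. -/
def allV (P : α → Bool) : Tree8 α → Bool
  | nil => true
  | node l _ v r => P v && allV P l && allV P r

theorem mem_of_find : ∀ {t : Tree8 α} {q : ℕ} {v : α}, find? t q = some v → v ∈ vals t
  | nil, q, v, h => by simp [find?] at h
  | node l k w r, q, v, h => by
    simp only [find?] at h
    cases h1 : Nat.blt q k <;> cases h2 : Nat.blt k q <;> simp only [h1, h2, cond_true, cond_false] at h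
    · cases h; simp [vals]
    · simp [vals, mem_of_find h]
    · simp [vals, mem_of_find h]
    · simp [vals, mem_of_find h]

theorem of_allV {P : α → Bool} : ∀ {t : Tree8 α}, allV P t = true → ∀ v ∈ vals t, P v = true
  | nil, _, v, hv => by simp [vals] at hv
  | node l k w r, h, v, hv => by
    simp only [allV, Bool.and_eq_true] at h
    simp only [vals, List.mem_append, List.mem_cons] at hv
    rcases hv with hv | rfl | hv
    · exact of_allV h.1.2 v hv
    · exact h.1.1
    · exact of_allV h.2 v hv

theorem allV_node {P : α → Bool} {l r : Tree8 α} {k : ℕ} {v : α} (hl : allV P l = true)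
    (hv : P v = true) (hr : allV P r = true) : allV P (node l k v r) = true := by
  simp [allV, hl, hv, hr]

end Tree8

/-- A strictly increasing list. -/
def incB : List ℕ → Bool
  | a :: b :: l => Nat.blt a b && incB (b :: l)
  | _ => true

theorem sorted_of_incB : ∀ {l : List ℕ}, incB l = true → l.IsChain (· < ·)
  | [], _ => by simp
  | [a], _ => by simp
  | a :: b :: l, h => by
    simp only [incB, Bool.and_eq_true, Nat.blt_eq] at h
    exact List.isChain_cons_cons.2 ⟨h.1, sorted_of_incB h.2⟩

theorem nodup_of_incB {l : List ℕ} (h : incB l = true) : l.Nodup :=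
  ((List.isChain_iff_pairwise).1 (sorted_of_incB h)).imp fun hab => Nat.ne_of_lt hab

end Cfsg.Agent.OmegaEightInv
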