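import Cfsg.Agent.Lib.OmegaEightInv.TopBits

/-!
Certificates for the root-free elementary abelian subgroups.
-/

set_option autoImplicit false
set_option maxRecDepth 100000
set_option maxHeartbeats 4000000

namespace Cfsg.Agent.OmegaEightInv


/-- The tree. -/
def kidTree0_0 : Tree8 (ℕ × List ℕ) := .nil


/-- The tree. -/
def kidTree0_1 : Tree8 (ℕ × List ℕ) := .nil

/-- A node of the search. -/
def node0 : List (List ℕ) × List (List ℕ × Tree8 (ℕ × List ℕ)) :=
  ([[],
    [12,18],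
    [14,9,2,23,2,9,14,9,23,9],
    [12,18,14,9,2,23,2,9,14,9,23,9],
    [16,7,1,23,1,7,16,16,8,7,23,7,8,16],
    [12,18,16,7,1,23,1,7,16,16,8,7,23,7,8,16],
    [14,9,2,23,2,9,14,9,23,9,16,7,1,23,1,7,16,16,8,7,23,7,8,16],
    [12,18,14,9,2,23,2,9,14,9,23,9,16,7,1,23,1,7,16,16,8,7,23,7,8,16]],
  [([], kidTree0_0),
    ([16,7], kidTree0_1)])


/-- The tree. -/
def kidTree1_0 : Tree8 (ℕ × List ℕ) := .nil


/-- The tree. -/
def kidTree1_1 : Tree8 (ℕ × List ℕ) := .nil

/-- A node of the search. -/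
def node1 : List (List ℕ) × List (List ℕ × Tree8 (ℕ × List ℕ)) :=
  ([[],
    [12,18],
    [14,9,2,23,2,9,14,1,23,9,7,0,23,0,7,9,23,1],
    [12,18,14,9,2,23,2,9,14,1,23,9,7,0,23,0,7,9,23,1]],
  [([16,7], kidTree1_0),
    ([16,7,3], kidTree1_1)])


/-- The tree. -/
def kidTree2_0 : Tree8 (ℕ × List ℕ) := .nil


/-- The tree. -/
def kidTree2_1 : Tree8 (ℕ × List ℕ) := (.node (.node (.node .nil 72765989034410112 (0,[14,9,7,6,23,6,7,9,14]) .nil) 216740164745052288 (0,[14,9,7,6,23,6,7,9,14]) (.node .nil 2382971585509212288 (0,[14,9,7,6,23,6,7,9,14]) .nil)) 9296138094608662656 (0,[]) (.node (.node .nil 9440112270319304832 (0,[]) .nil) 11606343691083464832 (0,[]) .nil))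

/-- A node of the search. -/
def node2 : List (List ℕ) × List (List ℕ × Tree8 (ℕ × List ℕ)) :=
  ([[],
    [12,18],
    [14,9,2,23,2,9,14,9,23,9],
    [12,18,14,9,2,23,2,9,14,9,23,9]],
  [([16,7], kidTree2_0),
    ([16,7,1], kidTree2_1)])


/-- The tree. -/
def kidTree3_0 : Tree8 (ℕ × List ℕ) := .nil


/-- The tree. -/
def kidTree3_1 : Tree8 (ℕ × List ℕ) := .nil

/-- A node of the search. -/
def node3 : List (List ℕ) × List (List ℕ × Tree8 (ℕ × List ℕ)) :=
  ([[],
    [12,18],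
    [23,6,2,23,2,6],
    [12,18,23,6,2,23,2,6]],
  [([16,7], kidTree3_0),
    ([16,7,3,1], kidTree3_1)])


/-- The tree. -/
def kidTree4_0 : Tree8 (ℕ × List ℕ) := (.node (.node (.node (.node .nil 72768188061859968 (1,[8,4,23,4,8,16,7,1,23,1,7,16]) .nil) 72768196660183168 (1,[8,4,23,4,8,23,7,0,23,0,7,23]) .nil) 216742363772502144 (1,[8,4,23,4,8,16,7,1,23,1,7,16]) (.node .nil 216742372370825344 (1,[8,4,23,4,8,23,7,0,23,0,7,23]) .nil)) 4684471798675292288 (1,[16,7,1,23,1,7,16]) (.node (.node .nil 4828445974385934464 (1,[16,7,1,23,1,7,16]) .nil) 13907843912847868032 (1,[]) (.node .nil 14051818088558510208 (1,[]) .nil)))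


/-- The tree. -/
def kidTree4_1 : Tree8 (ℕ × List ℕ) := (.node (.node (.node (.node (.node .nil 72624993848049792 (3,[8,4,23,4,8,20,14,9,3,23,3,9,14,20]) .nil) 72629357534806080 (3,[8,4,23,4,8]) .nil) 72633772761170112 (3,[16,7,1,23,1,7,16,8,4,23,4,8,21,14,9,2,23,2,9,14,21]) (.node (.node .nil 72765989034410112 (2,[]) .nil) 216740164745052288 (2,[]) .nil)) 2707230913298747520 (3,[]) (.node (.node (.node .nil 2977490716787228880 (3,[16,7,1,23,1,7,16,14,9,7,6,23,6,7,9,14,20,14,9,3,23,3,9,14,20]) .nil) 3301745612170498128 (3,[20,14,9,3,23,3,9,14,20]) .nil) 4684337383374602432 (3,[16,7,1,23,1,7,16,8,4,23,4,8]) (.node .nil 4684469599647842432 (2,[8,4,23,4,8]) .nil))) 4828443775358484608 (2,[8,4,23,4,8]) (.node (.node (.node (.node .nil 7589194327400661200 (3,[16,7,1,23,1,7,16,20,14,9,3,23,3,9,14,20]) .nil) 9295997099422302336 (3,[8,4,23,4,8,14,9,7,6,23,6,7,9,14,20,14,9,3,23,3,9,14,20]) .nil) 9296138094608662656 (2,[23,22,6,2,0,23,0,2,6,22,23,21,14,9,2,23,2,9,14,21,23,22,6,2,0,23,0,2,6,22,23])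 (.node .nil 9440112270319304832 (2,[23,22,6,2,0,23,0,2,6,22,23,21,14,9,2,23,2,9,14,21,23,22,6,2,0,23,0,2,6,22,23]) .nil)) 11930603018873000064 (3,[21,14,9,2,23,2,9,14,21]) (.node (.node (.node .nil 13907705073722490944 (3,[8,4,23,4,8,21,14,9,2,23,2,9,14,21]) .nil) 13907841705222094976 (2,[16,7,1,23,1,7,16,8,4,23,4,8]) .nil) 14051815880932737152 (2,[16,7,1,23,1,7,16,8,4,23,4,8]) (.node .nil 17136821328358182992 (3,[14,9,7,6,23,6,7,9,14,20,14,9,3,23,3,9,14,20]) .nil))))

/-- A node of the search. -/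
def node4 : List (List ℕ) × List (List ℕ × Tree8 (ℕ × List ℕ)) :=
  ([[],
    [12,18]],
  [([16,7], kidTree4_0),
    ([], kidTree4_1)])


/-- The tree. -/
def kidTree5_0 : Tree8 (ℕ × List ℕ) := .nil


/-- The tree. -/
def kidTree5_1 : Tree8 (ℕ × List ℕ) := .nil

/-- A node of the search. -/
def node5 : List (List ℕ) × List (List ℕ × Tree8 (ℕ × List ℕ)) :=
  ([[],
    [13,18],
    [14,9,3,23,3,9,14,19,14,9,3,1,23,1,3,9,14,19],
    [13,18,14,9,3,23,3,9,14,19,14,9,3,1,23,1,3,9,14,19]],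
  [([15,8], kidTree5_0),
    ([14,9], kidTree5_1)])


/-- The tree. -/
def kidTree6_0 : Tree8 (ℕ × List ℕ) := (.node (.node (.node (.node .nil 72635971788619968 (5,[]) .nil) 72635971789144258 (5,[15,8,1,23,1,8,15]) .nil) 216742363772502144 (5,[]) (.node .nil 216742363773026434 (5,[15,8,1,23,1,8,15]) .nil)) 4684339582402052288 (5,[7,4,23,4,7]) (.node (.node .nil 4828445974385934464 (5,[7,4,23,4,7]) .nil) 5260800334706000082 (5,[23,12,6,3,0,23,0,3,6,12,23]) (.node .nil 5404906726689882258 (5,[23,12,6,3,0,23,0,3,6,12,23]) .nil)))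


/-- The tree. -/
def kidTree6_1 : Tree8 (ℕ × List ℕ) := (.node (.node (.node (.node (.node .nil 72624976668672130 (5,[15,8,1,23,1,8,15,9,6,3,0,23,0,3,6,9]) .nil) 72627175696121986 (5,[23,12,6,3,0,23,0,3,6,12,23]) (.node .nil 72765989034410112 (4,[17]) .nil)) 72767098251722880 (4,[21,3,2]) (.node (.node .nil 72768188061859968 (4,[17,4]) .nil) 72769297279172736 (4,[21,4,3,2]) (.node .nil 649085728972095634 (5,[9,6,3,0,23,0,3,6,9]) .nil))) 793211912168947920 (5,[7,4,23,4,7]) (.node (.node (.node .nil 2382971585509212288 (4,[2,21,18,8,15,3]) .nil) 2673453761474615460 (4,[17,14,12,11]) (.node .nil 2959432337812635792 (4,[7,16,13,15,4]) .nil)) 3249914513778038964 (4,[14,12,16,11]) (.node (.node .nil 4684469599647842432 (4,[]) .nil) 4684471798675292288 (4,[4]) (.node .nil 4828594693035606210 (4,[3,2]) .nil)))) 4828596892063056066 (4,[4,3,2]) (.node (.node (.node (.node .nil 5260791538612977810 (5,[15,8,1,23,1,8,15]) .nil) 5404915522782380240 (5,[]) (.node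 .nil 6994675196122644608 (4,[7,16,8,15,4]) .nil)) 7429281356258498790 (4,[4,20,17,11,3]) (.node (.node .nil 7571135948426068112 (4,[7,16,15,4]) .nil) 8005742108561922294 (4,[4,20,16,11,3]) (.node .nil 11551914851286728832 (4,[23,21,3,2]) .nil))) 11915012029890435108 (4,[19,17,11]) (.node (.node (.node .nil 12272501786788053202 (4,[23,4,3,2]) .nil) 12635598965391759478 (4,[20,16,11,4]) (.node .nil 16163620660927611008 (4,[8,23,3,2]) .nil)) 16670841823701768294 (4,[19,16,11,4]) (.node (.node .nil 16884203198374035666 (4,[23,3,2]) .nil) 17103176392807290932 (4,[19,16,11]) .nil))))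

/-- A node of the search. -/
def node6 : List (List ℕ) × List (List ℕ × Tree8 (ℕ × List ℕ)) :=
  ([[],
    [13,18]],
  [([15,8], kidTree6_0),
    ([14,9,3], kidTree6_1)])


/-- The tree. -/
def kidTree7_0 : Tree8 (ℕ × List ℕ) := .nil


/-- The tree. -/
def kidTree7_1 : Tree8 (ℕ × List ℕ) := .nil

/-- A node of the search. -/
def node7 : List (List ℕ) × List (List ℕ × Tree8 (ℕ × List ℕ)) :=
  ([[],
    [12,13],
    [14,9,2,23,2,9,14,14,13,9,2,1,23,1,2,9,13,14],
    [12,13,14,9,2,23,2,9,14,14,13,9,2,1,23,1,2,9,13,14]],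
  [([19,4], kidTree7_0),
    ([14,9], kidTree7_1)])


/-- The tree. -/
def kidTree8_0 : Tree8 (ℕ × List ℕ) := (.node (.node (.node (.node .nil 72635971788619968 (7,[]) .nil) 72637072373989568 (7,[19,4,1,23,1,4,19]) .nil) 72768188061859968 (7,[]) (.node .nil 72769288647229568 (7,[19,4,1,23,1,4,19]) .nil)) 4684339582402052288 (7,[9,4,23,4,9]) (.node (.node .nil 4684471798675292288 (7,[9,4,23,4,9]) .nil) 4702390265868992704 (7,[8,7,0,23,0,7,8]) (.node .nil 4702522482142232704 (7,[8,7,0,23,0,7,8]) .nil)))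


/-- The tree. -/
def kidTree8_1 : Tree8 (ℕ × List ℕ) := (.node (.node (.node (.node (.node .nil 72626077253517440 (7,[19,4,1,23,1,4,19,9,3,2,0,23,0,2,3,9]) .nil) 72628276280967296 (7,[8,7,0,23,0,7,8]) (.node .nil 90675660135088256 (7,[9,3,2,0,23,0,2,3,9]) .nil)) 90826567036453056 (7,[9,4,23,4,9]) (.node (.node .nil 216740164745052288 (6,[17]) .nil) 216740173377519746 (6,[17,3,2]) (.node .nil 216742363772502144 (6,[17,4]) .nil))) 216742372404969602 (4,[17,4,3,2]) (.node (.node (.node .nil 2382971585509212288 (6,[3,20,18,7,16,2]) .nil) 2401021168390783104 (6,[19,13,8,15,4]) (.node .nil 2421533795294396576 (4,[21,18,15,5]) .nil)) 2439583378175967392 (4,[18,16,15,5]) (.node (.node .nil 4702381469775970432 (7,[19,4,1,23,1,4,19]) .nil) 4702530177649885376 (7,[]) (.node .nil 4828443775358484608 (6,[]) .nil)))) 4828445974385934464 (6,[4]) (.node (.node (.node (.node .nil 4828594693035606210 (4,[3,2]) .nil) 4828596892063056066 (4,[4,3,2]) (.node .nil 6994675196122644608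 (4,[7,16,8,15,4]) .nil)) 7012724779004215424 (6,[19,8,15,4]) (.node (.node .nil 7033388314952483040 (4,[21,8,20,5,3]) .nil) 7051437897834053856 (4,[8,20,16,5,3]) (.node .nil 12254299095834378386 (4,[23,17,3,2]) .nil))) 12272501786788053202 (6,[23,4,3,2]) (.node (.node (.node .nil 12292861296987095216 (6,[20,16,5]) .nil) 12311063987940770032 (6,[21,15,5,4]) (.node .nil 16866004905475260562 (6,[4,23,3,2]) .nil)) 16884203198374035666 (6,[23,3,2]) (.node (.node .nil 16904718015672631536 (6,[16,15,5,4]) .nil) 16922614490482098352 (6,[16,15,5]) .nil))))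

/-- A node of the search. -/
def node8 : List (List ℕ) × List (List ℕ × Tree8 (ℕ × List ℕ)) :=
  ([[],
    [12,13]],
  [([19,4], kidTree8_0),
    ([14,9,2], kidTree8_1)])


/-- The tree. -/
def kidTree9_0 : Tree8 (ℕ × List ℕ) := (.node (.node (.node (.node .nil 72633772761170112 (4,[7,16,8,15,4]) .nil) 72765989034410112 (6,[7,16,8,15,4]) (.node .nil 216740164745052288 (8,[4,19,8,15,7]) .nil)) 2977490716787228880 (4,[7,16,4]) (.node (.node .nil 4684337383374602432 (4,[2,21,18,8,15,3]) .nil) 4684469599647842432 (6,[3,20,18,7,16,2]) .nil)) 4828443775358484608 (8,[2,21,13,8,15,6]) (.node (.node (.node .nil 7589194327400661200 (4,[16]) .nil) 11624534286331297920 (6,[8,15,4]) .nil) 12326919631463792784 (8,[4,19,7]) (.node (.node .nil 16236237896944730240 (6,[13,8,15,4]) .nil) 16938623242077225104 (8,[19]) .nil)))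


/-- The tree. -/
def kidTree9_1 : Tree8 (ℕ × List ℕ) := .nil

/-- A node of the search. -/
def node9 : List (List ℕ) × List (List ℕ × Tree8 (ℕ × List ℕ)) :=
  ([[],
    [12,13,18]],
  [([], kidTree9_0),
    ([14,9], kidTree9_1)])

/-- All nodes, each relying on earlier ones. -/
def nodeList : List (List (List ℕ) × List (List ℕ × Tree8 (ℕ × List ℕ))) := [node0,node1,node2,node3,node4,node5,node6,node7,node8,node9]

/-- The nodes of the four representatives. -/
def classNode : List ℕ := [4,6,8,9]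

end Cfsg.Agent.OmegaEightInv
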