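import Cfsg.Agent.Lib.OmegaEightInv.TopRootData
import Cfsg.Agent.Lib.OmegaEightInv.TopSylData
import Cfsg.Agent.Lib.OmegaEightInv.TopNodeData
import Cfsg.Agent.Lib.OmegaTwoHom.Steinberg

/-!
# The searches in the model of `Ω⁺₈(2)`
-/

set_option autoImplicit false
set_option maxRecDepth 100000
set_option maxHeartbeats 4000000
set_option Elab.async false

namespace Cfsg.Agent.OmegaEightInv

/-- The root elements as matrices. -/
def genBits : List (List ℕ) := [[1,2,4,8,18,33,64,128],[1,2,4,8,20,32,65,128],[1,2,4,9,144,32,64,128],[1,2,4,8,24,32,64,129],[1,2,5,8,80,32,64,128],[1,3,4,8,48,32,64,128],[1,2,4,8,16,36,66,128],[1,2,4,10,16,160,64,128],[1,2,4,8,16,40,64,130],[1,2,6,8,16,96,64,128],[1,2,4,12,16,32,192,128],[1,2,4,8,16,32,72,132],[1,2,132,72,16,32,64,128],[1,2,12,8,16,32,64,192],[1,6,4,8,16,32,96,128],[1,130,4,40,16,32,64,128],[1,10,4,8,16,32,64,160],[1,66,36,8,16,32,64,128],[3,2,4,8,16,48,64,128],[5,2,4,8,16,32,80,128],[129,2,4,24,16,32,64,128],[9,2,4,8,16,32,64,144],[65,2,20,8,16,32,64,128],[33,18,4,8,16,32,64,128]]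

/-- The generator of a root. -/
def gen8 (r : ℕ) : List ℕ := genBits.getD r one8

/-- The value of a word of roots. -/
def evW : List ℕ → List ℕ
  | [] => one8
  | r :: w => mul8 (gen8 r) (evW w)

/-- The conjugate of a word. -/
def cjW (g w : List ℕ) : List ℕ := g ++ w ++ g.reverse

/-- The list of root elements. -/
def rootL : List (List ℕ) := rootTree.vals.map Prod.fst

/-- Membership among the roots. -/
def inRoots (x : List ℕ) : Bool :=
  match rootTree.find? (key8 x) with
  | some v => v.1 == x
  | none => false

/-- Membership in the Sylow subgroup. -/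
def inSyl (x : List ℕ) : Bool :=
  match sylTree.find? (key8 x) with
  | some v => v.1 == x
  | none => false

/-- All letters are roots. -/
def lettersOK (w : List ℕ) : Bool := w.all fun r => Nat.blt r 24

/-- The checks of the list of roots. -/
def rootCheck (v : List ℕ × List ℕ) : Bool :=
  lettersOK v.2 && inRoots v.1 && (evW (cjW v.2 [23]) == v.1) &&
    (List.range 24).all fun r => inRoots (mul8 (gen8 r) (mul8 v.1 (gen8 r)))

/-- An involution of the Sylow subgroup is a root or is classified. -/
def classCheck (x : List ℕ) : Bool :=
  (mul8 x x != one8) || (x == one8) || inRoots x ||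
    match classTree.find? (key8 x) with
    | some c => Nat.blt c.1 4 && lettersOK c.2 && (evW (cjW c.2 (classReps.getD c.1 [])) == x)
    | none => false

/-- The checks of the Sylow subgroup. -/
def sylCheck (v : List ℕ × List ℕ) : Bool :=
  ((List.range 12).all fun i => inSyl (mul8 v.1 (gen8 (12 + i)))) && classCheck v.1 &&
    (v.2.all fun r => Nat.blt r 24 && Nat.ble 12 r) && (evW v.2 == v.1)

/-- A representative is not conjugate to a root. -/
def witCheck (k : ℕ) : Bool :=
  let w := classWit.getD k []
  let q := classReps.getD k []
  let y := evW w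
  let u := evW q
  let y2 := mul8 y y
  lettersOK w && lettersOK q && (mul8 y u == mul8 u y) &&
    (((mul8 (mul8 y2 y2) y == one8) && (y != one8)) || (inRoots y2 && (mul8 y2 y2 == one8)))

/-- Two matrices commute. -/
def comm8 (a b : List ℕ) : Bool := mul8 a b == mul8 b a

/-- The roots commuting with all of `A`. -/
def centRoots (A : List (List ℕ)) : List (List ℕ) := rootL.filter fun s => A.all fun a => comm8 s a

/-- The invariant of a root commuting with `A`. -/
def rootInv (A CR : List (List ℕ)) (r : List ℕ) : ℕ :=
  CR.countP fun s => A.any fun a => inRoots (mul8 (mul8 r s) a)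

/-- The words of a node. -/
def nodeWords (m : ℕ) : List (List ℕ) := (nodeList.getD m ([], [])).1

/-- A branch at a root `r` of a node is closed. -/
def branchCheck (n : ℕ) (A CR : List (List ℕ)) (r : List ℕ) (cert : Tree8 (ℕ × List ℕ)) : Bool :=
  CR.all fun s =>
    bif comm8 r s then
      let j := mul8 r s
      A.contains j || (A.any fun a => inRoots (mul8 a j)) ||
        match cert.find? (key8 s) with
        | some c => Nat.blt c.1 n && lettersOK c.2 && (nodeWords c.1).all fun b =>
            let y := evW (cjW c.2 b)
            A.contains y || A.any fun a => mul8 a j == y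
        | none => false
    else
      let j := mul8 r s
      !A.contains (mul8 j j)

/-- The invariant is the same at the translates of `r`. -/
def transCheck (A CR : List (List ℕ)) (r : List ℕ) : Bool :=
  A.all fun a => !inRoots (mul8 r a) || (rootInv A CR (mul8 r a) == rootInv A CR r)

/-- The checks of a node. -/
def nodeCheck (n : ℕ) : Bool :=
  let ws := nodeWords n
  let A := ws.map evW
  ws.all lettersOK && A.contains one8 && (A.all fun a => A.all fun b => A.contains (mul8 a b)) &&
    match (nodeList.getD n ([], [])).2 with
    | [(g₁, c₁), (g₂, c₂)] =>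
      let CR := centRoots A
      let r₁ := evW (cjW g₁ [23])
      let r₂ := evW (cjW g₂ [23])
      lettersOK g₁ && lettersOK g₂ && CR.contains r₁ && CR.contains r₂ &&
        transCheck A CR r₁ && transCheck A CR r₂ && (rootInv A CR r₁ != rootInv A CR r₂) &&
        branchCheck n A CR r₁ c₁ && branchCheck n A CR r₂ c₂
    | _ => false

theorem genBits_ok : ((List.range 24).all fun r => (mul8 (gen8 r) (gen8 r) == one8) &&
    (List.range 24).all fun s => !OmegaTwoHom.pairOK r s ||
      (evW [s, r, s, r] == evW (OmegaTwoHom.sumRoot r s).toList)) = true := by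
  decide +kernel

theorem gen23_ne : (gen8 23 != one8) = true := by decide +kernel

theorem root_mem : inRoots (gen8 23) = true := by decide +kernel

theorem roots_inc : incB (rootTree.vals.map fun v => key8 v.1) = true := by decide +kernel

theorem syl_inc : incB (sylTree.vals.map fun v => key8 v.1) = true ∧ sylTree.vals.length = 4096 ∧
    inSyl one8 = true := by
  decide +kernel

theorem wit_ok : (List.range 4).all witCheck = true := by decide +kernel

theorem nodes_ok : (List.range 10).all nodeCheck = true := by decide +kernel

theorem classNode_ok : ((List.range 4).all fun k => Nat.blt (classNode.getD k 0) 10 &&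
    ((nodeWords (classNode.getD k 0)).map evW == [one8, evW (classReps.getD k [])])) = true := by
  decide +kernel

end Cfsg.Agent.OmegaEightInv
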