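import Cfsg.Agent.Lib.OmegaEightInv.TopCheck

/-!
The searches over the two large trees, in parts.
-/

set_option autoImplicit false
set_option maxRecDepth 100000
set_option maxHeartbeats 4000000
set_option Elab.async false

namespace Cfsg.Agent.OmegaEightInv

theorem rootTree_0_ok : rootTree_0.allV rootCheck = true := by decide +kernel

theorem rootTree_1_ok : rootTree_1.allV rootCheck = true := by decide +kernel

theorem rootTree_2_ok : rootTree_2.allV rootCheck = true := by decide +kernel

theorem rootTree_3_ok : rootTree_3.allV rootCheck = true := by decide +kernel

theorem rootTree_4_ok : rootTree_4.allV rootCheck = true := by decide +kernel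

theorem rootTree_5_ok : rootTree_5.allV rootCheck = true := by decide +kernel

theorem rootTree_6_ok : rootTree_6.allV rootCheck = true := by decide +kernel

theorem rootTree_7_ok : rootTree_7.allV rootCheck = true := by decide +kernel

theorem rootTree_8_ok : rootTree_8.allV rootCheck = true := by decide +kernel

theorem rootTree_9_ok : rootTree_9.allV rootCheck = true := by decide +kernel

theorem rootTree_10_ok : rootTree_10.allV rootCheck = true := by decide +kernel

theorem rootTree_11_ok : rootTree_11.allV rootCheck = true := by decide +kernel

theorem rootTree_12_ok : rootTree_12.allV rootCheck = true := by decide +kernel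

theorem rootTree_13_ok : rootTree_13.allV rootCheck = true := by decide +kernel

theorem rootTree_14_ok : rootTree_14.allV rootCheck = true := by decide +kernel

theorem rootTree_15_ok : rootTree_15.allV rootCheck = true := by decide +kernel

theorem roots_ok : rootTree.allV rootCheck = true :=
  (Tree8.allV_node (Tree8.allV_node (Tree8.allV_node (Tree8.allV_node rootTree_0_ok (by decide +kernel) rootTree_1_ok) (by decide +kernel) (Tree8.allV_node rootTree_2_ok (by decide +kernel) rootTree_3_ok)) (by decide +kernel) (Tree8.allV_node (Tree8.allV_node rootTree_4_ok (by decide +kernel) rootTree_5_ok) (by decide +kernel) (Tree8.allV_node rootTree_6_ok (by decide +kernel) rootTree_7_ok))) (by decide +kernel) (Tree8.allV_node (Tree8.allV_node (Tree8.allV_node rootTree_8_ok (by decide +kernel) rootTree_9_ok) (by decide +kernel) (Tree8.allV_node rootTree_10_ok (by decide +kernel) rootTree_11_ok)) (by decide +kernel) (Tree8.allV_node (Tree8.allV_node rootTree_12_ok (by decide +kernel) rootTree_13_ok) (by decide +kernel) (Tree8.allV_node rootTree_14_ok (by decide +kernel) rootTree_15_ok))))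

theorem sylTree_0_ok : sylTree_0.allV sylCheck = true := by decide +kernel

theorem sylTree_1_ok : sylTree_1.allV sylCheck = true := by decide +kernel

theorem sylTree_2_ok : sylTree_2.allV sylCheck = true := by decide +kernel

theorem sylTree_3_ok : sylTree_3.allV sylCheck = true := by decide +kernel

theorem sylTree_4_ok : sylTree_4.allV sylCheck = true := by decide +kernel

theorem sylTree_5_ok : sylTree_5.allV sylCheck = true := by decide +kernel

theorem sylTree_6_ok : sylTree_6.allV sylCheck = true := by decide +kernel

theorem sylTree_7_ok : sylTree_7.allV sylCheck = true := by decide +kernel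

theorem sylTree_8_ok : sylTree_8.allV sylCheck = true := by decide +kernel

theorem sylTree_9_ok : sylTree_9.allV sylCheck = true := by decide +kernel

theorem sylTree_10_ok : sylTree_10.allV sylCheck = true := by decide +kernel

theorem sylTree_11_ok : sylTree_11.allV sylCheck = true := by decide +kernel

theorem sylTree_12_ok : sylTree_12.allV sylCheck = true := by decide +kernel

theorem sylTree_13_ok : sylTree_13.allV sylCheck = true := by decide +kernel

theorem sylTree_14_ok : sylTree_14.allV sylCheck = true := by decide +kernel

theorem sylTree_15_ok : sylTree_15.allV sylCheck = true := by decide +kernel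

theorem syl_ok : sylTree.allV sylCheck = true :=
  (Tree8.allV_node (Tree8.allV_node (Tree8.allV_node (Tree8.allV_node sylTree_0_ok (by decide +kernel) sylTree_1_ok) (by decide +kernel) (Tree8.allV_node sylTree_2_ok (by decide +kernel) sylTree_3_ok)) (by decide +kernel) (Tree8.allV_node (Tree8.allV_node sylTree_4_ok (by decide +kernel) sylTree_5_ok) (by decide +kernel) (Tree8.allV_node sylTree_6_ok (by decide +kernel) sylTree_7_ok))) (by decide +kernel) (Tree8.allV_node (Tree8.allV_node (Tree8.allV_node sylTree_8_ok (by decide +kernel) sylTree_9_ok) (by decide +kernel) (Tree8.allV_node sylTree_10_ok (by decide +kernel) sylTree_11_ok)) (by decide +kernel) (Tree8.allV_node (Tree8.allV_node sylTree_12_ok (by decide +kernel) sylTree_13_ok) (by decide +kernel) (Tree8.allV_node sylTree_14_ok (by decide +kernel) sylTree_15_ok))))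

end Cfsg.Agent.OmegaEightInv
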