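import Mathlib

/-!
Words for the roots of type `D₄`, the reflections, and rewriting certificates.
-/

set_option autoImplicit false

namespace Cfsg.Agent.OmegaEightInv

/-- A shortest word taking the highest root to each root. -/
def rootWord : List (List (Fin 4)) := [
  [1, 2, 0, 1, 3, 1, 2, 0, 1],
  [2, 0, 1, 3, 1, 2, 0, 1],
  [2, 0, 1, 3, 2, 0, 1],
  [0, 1, 3, 1, 2, 0, 1],
  [0, 1, 3, 2, 0, 1],
  [0, 1, 3, 2, 1],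
  [2, 1, 3, 1, 2, 0, 1],
  [2, 1, 3, 2, 0, 1],
  [1, 3, 1, 2, 0, 1],
  [1, 3, 2, 0, 1],
  [2, 1, 3, 0, 1],
  [3, 1, 2, 0, 1],
  [1, 2, 0, 1],
  [1, 3, 0, 1],
  [3, 2, 0, 1],
  [2, 0, 1],
  [3, 0, 1],
  [0, 1],
  [1, 3, 2, 1],
  [3, 2, 1],
  [2, 1],
  [3, 1],
  [1],
  []]

/-- The fundamental reflections on the roots. -/
def reflTable : List (List ℕ) := [
  [0, 6, 7, 8, 9, 18, 1, 2, 3, 4, 10, 11, 12, 13, 19, 20, 21, 22, 5, 14, 15, 16, 17, 23],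
  [1, 0, 2, 3, 5, 4, 6, 10, 11, 14, 7, 8, 15, 16, 9, 12, 13, 17, 19, 18, 20, 21, 23, 22],
  [0, 3, 4, 1, 2, 5, 8, 9, 6, 7, 13, 11, 12, 10, 16, 17, 14, 15, 18, 21, 22, 19, 20, 23],
  [0, 2, 1, 4, 3, 5, 7, 6, 9, 8, 10, 12, 11, 13, 15, 14, 17, 16, 18, 20, 19, 22, 21, 23]]

/-- Moves rewriting `i :: rootWord r` into the word of its image, up to the end nodes. -/
def rewriteCert : List (List (ℕ × ℕ)) := [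
  [(2, 1), (0, 2), (2, 2), (1, 1), (4, 1), (5, 2), (7, 2)],
  [(0, 0)],
  [(0, 2), (2, 2), (4, 1), (7, 1), (5, 2), (7, 2), (6, 1)],
  [(2, 1), (4, 2), (3, 1), (2, 1), (0, 2), (6, 1), (4, 2), (2, 2), (1, 1), (4, 1), (7, 1), (5, 2), (3, 2), (2, 1), (1, 1), (7, 2), (6, 1), (5, 1), (3, 2)],
  [(0, 1), (1, 0)],
  [],
  [(0, 0)],
  [(0, 1), (1, 1), (2, 2), (4, 0)],
  [(0, 1), (1, 0)],
  [(1, 1), (4, 1), (2, 2), (0, 2), (2, 1), (5, 1), (3, 2), (1, 2), (0, 1), (5, 2), (4, 1), (3, 1)],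
  [(0, 0)],
  [(0, 1), (1, 1), (2, 2)],
  [(0, 0)],
  [(0, 2), (2, 1), (5, 1), (3, 2), (5, 2), (4, 1)],
  [],
  [(0, 1), (1, 2), (3, 0)],
  [(0, 0)],
  [(0, 2), (2, 1), (3, 1), (4, 0)],
  [],
  [(0, 1), (1, 2)],
  [(0, 0)],
  [(0, 2), (2, 1), (3, 1)],
  [(0, 1), (3, 1), (1, 2), (3, 2), (2, 1)],
  [(0, 1), (1, 2), (3, 2)],
  [(0, 1)],
  [(0, 2), (2, 1), (3, 2), (5, 2)],
  [(0, 0)],
  [(0, 1), (1, 2), (3, 0)],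
  [(0, 1)],
  [(0, 2), (2, 1), (3, 0)],
  [(0, 0)],
  [(0, 1), (1, 2)],
  [],
  [(0, 0)],
  [],
  [(0, 2), (2, 0)],
  [],
  [(0, 0)],
  [],
  [(0, 2)],
  [(0, 1), (3, 1), (1, 2), (3, 2), (2, 1)],
  [(0, 2), (2, 1)],
  [(0, 0)],
  [(0, 1), (1, 2), (3, 2)],
  [(0, 1), (3, 1), (1, 2), (3, 2), (2, 1)],
  [],
  [(0, 1), (1, 2), (3, 2)],
  [(0, 0)],
  [(2, 1), (0, 2), (2, 2), (1, 1)],
  [(0, 0)],
  [(0, 2), (2, 2)],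
  [],
  [(2, 1), (0, 2), (2, 2), (1, 1)],
  [(0, 0)],
  [],
  [(0, 2), (2, 2)],
  [(0, 1), (1, 1), (2, 0)],
  [],
  [(0, 1), (1, 0)],
  [(0, 0)],
  [(0, 1), (1, 0)],
  [],
  [(0, 0)],
  [],
  [(0, 1), (1, 0)],
  [],
  [(0, 1)],
  [(0, 0)],
  [(0, 0)],
  [(0, 2)],
  [],
  [],
  [],
  [(0, 0)],
  [(2, 1), (0, 2), (2, 2), (1, 1)],
  [(0, 2), (2, 2)],
  [(0, 1), (1, 1)],
  [],
  [(0, 1), (1, 0)],
  [(0, 0)],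
  [(0, 1)],
  [(0, 2)],
  [(0, 0)],
  [],
  [(0, 1)],
  [(0, 2)],
  [(0, 1)],
  [(0, 0)],
  [],
  [(0, 0)],
  [],
  [],
  [],
  [],
  [],
  []]

end Cfsg.Agent.OmegaEightInv
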