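import Cfsg.Agent.Lib.OmegaEightInv.TopWords
import Mathlib.GroupTheory.Sylow

/-!
# The involutions of `Ω⁺₈(2)` and the search for root-free elementary abelian subgroups
-/

set_option autoImplicit false
set_option linter.unusedSectionVars false

namespace Cfsg.Agent.OmegaEightInv

open Subgroup

/-- The positive unipotent subgroup. -/
noncomputable def sylH : Subgroup St := closure {y | ∃ i < 12, y = stR (12 + i)}

theorem find_syl {x : List ℕ} (h : inSyl x = true) : ∃ v ∈ sylTree.vals, v.1 = x := by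
  unfold inSyl at h
  split at h
  · rename_i v hv
    exact ⟨v, Tree8.mem_of_find hv, by simpa using h⟩
  · simp at h

theorem inSyl_of_mem {y : St} (hy : y ∈ sylH) :
    ∀ z : St, inSyl (evS z) = true → inSyl (evS (z * y)) = true := by
  have step : ∀ i < 12, ∀ z : St, inSyl (evS z) = true → inSyl (evS (z * stR (12 + i))) = true := by
    intro i hi z hz
    obtain ⟨v, hv, e⟩ := find_syl hz
    have hc := Tree8.of_allV syl_ok v hv
    simp only [sylCheck, Bool.and_eq_true] at hc
    rw [evS_mul, evS_stR (by omega), ← e]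
    exact List.all_eq_true.1 hc.1.1.1 i (List.mem_range.2 hi)
  induction hy using Subgroup.closure_induction'' with
  | mem x hx => obtain ⟨i, hi, rfl⟩ := hx; exact step i hi
  | inv_mem x hx =>
    obtain ⟨i, hi, rfl⟩ := hx
    rw [inv_eq_of_mul_eq_one_right (stR_sq (by omega))]
    exact step i hi
  | one => simp
  | mul a b _ _ ha hb => intro z hz; rw [← mul_assoc]; exact hb _ (ha z hz)

theorem inSyl_sylH {y : St} (hy : y ∈ sylH) : inSyl (evS y) = true := by
  have := inSyl_of_mem hy 1 (by rw [evS_one]; exact syl_inc.2.2)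
  rwa [one_mul] at this

theorem syl_word {v : List ℕ × List ℕ} (hv : v ∈ sylTree.vals) :
    wvS v.2 ∈ sylH ∧ evS (wvS v.2) = v.1 := by
  have hc := Tree8.of_allV syl_ok v hv
  simp only [sylCheck, Bool.and_eq_true, List.all_eq_true, beq_iff_eq, Nat.blt_eq, Nat.ble_eq] at hc
  obtain ⟨⟨-, hl⟩, he⟩ := hc
  refine ⟨Subgroup.list_prod_mem _ fun g hg => ?_, ?_⟩
  · obtain ⟨r, hr, rfl⟩ := List.mem_map.1 hg
    obtain ⟨h1, h2⟩ := hl r hr
    exact subset_closure ⟨r - 12, by omega, by rw [show 12 + (r - 12) = r by omega]⟩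
  · rw [evS_wvS (by simp only [lettersOK, List.all_eq_true, Nat.blt_eq]; exact fun r hr => (hl r hr).1), he]

theorem finite_St : Finite St :=
  Nat.finite_of_card_ne_zero (by rw [OmegaTwoHom.card_steinberg]; norm_num)

theorem card_sylH : Nat.card sylH = 2 ^ 12 := by
  classical
  have := finite_St
  have hnd : (sylTree.vals.map Prod.fst).Nodup := by
    refine List.Nodup.of_map key8 ?_
    rw [List.map_map]
    exact nodup_of_incB syl_inc.1
  have hcard : (sylTree.vals.map Prod.fst).toFinset.card = 4096 := by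
    rw [List.toFinset_card_of_nodup hnd, List.length_map, syl_inc.2.1]
  have e : Nat.card sylH = Nat.card {x // x ∈ (sylTree.vals.map Prod.fst).toFinset} := by
    refine Nat.card_congr (Equiv.ofBijective (fun y => ⟨evS y.1, ?_⟩) ⟨?_, ?_⟩)
    · obtain ⟨v, hv, he⟩ := find_syl (inSyl_sylH y.2)
      exact List.mem_toFinset.2 (List.mem_map.2 ⟨v, hv, he⟩)
    · exact fun a b h => Subtype.ext (evS_inj (congrArg Subtype.val h))
    · rintro ⟨x, hx⟩
      obtain ⟨v, hv, rfl⟩ := List.mem_map.1 (List.mem_toFinset.1 hx)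
      exact ⟨⟨_, (syl_word hv).1⟩, Subtype.ext (syl_word hv).2⟩
  rw [e, Nat.card_eq_finsetCard, hcard]
  norm_num

/-- A representative of a class of involutions other than the roots. -/
noncomputable def classRep (k : ℕ) : St := wvS (classReps.getD k [])

theorem classify_sylH {y : St} (hy : y ∈ sylH) (h2 : y * y = 1) (h1 : y ≠ 1) :
    IsRootS y ∨ ∃ k < 4, ∃ g, y = g * classRep k * g⁻¹ := by
  obtain ⟨v, hv, e⟩ := find_syl (inSyl_sylH hy)
  have hc := Tree8.of_allV syl_ok v hv
  simp only [sylCheck, Bool.and_eq_true, classCheck, Bool.or_eq_true, bne_iff_ne, beq_iff_eq] at hc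
  rw [e, ← evS_mul, h2, evS_one] at hc
  rcases hc.1.1.2 with ((hc | hc) | hc) | hc
  · exact absurd rfl hc
  · exact absurd (evS_inj (hc.trans evS_one.symm)) h1
  · exact Or.inl (root_of_inRoots hc)
  · split at hc
    · rename_i c _
      simp only [Bool.and_eq_true, Nat.blt_eq, beq_iff_eq] at hc
      obtain ⟨⟨hk, hg⟩, he⟩ := hc
      have hw : lettersOK (classReps.getD c.1 []) = true := by
        have := List.all_eq_true.1 wit_ok c.1 (List.mem_range.2 hk)
        simp only [witCheck, Bool.and_eq_true] at this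
        exact this.1.1.2
      obtain ⟨hl, he'⟩ := cjW_ok hg hw
      refine Or.inr ⟨c.1, hk, wvS c.2, evS_inj ?_⟩
      rw [classRep, ← he', evS_wvS hl, he]
    · simp at hc

/-- An involution is a root or conjugate to one of four representatives. -/
theorem classify {y : St} (h2 : y * y = 1) (h1 : y ≠ 1) :
    IsRootS y ∨ ∃ k < 4, ∃ g, y = g * classRep k * g⁻¹ := by
  have := finite_St
  have : Fact (Nat.Prime 2) := ⟨Nat.prime_two⟩
  let P : Sylow 2 St := Sylow.ofCard sylH (by
    rw [card_sylH, OmegaTwoHom.card_steinberg, Nat.factorization_mul (by norm_num) (by norm_num),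
      Nat.Prime.factorization_pow Nat.prime_two]
    simp [Nat.factorization_eq_zero_of_not_dvd (show ¬ (2 ∣ 42525) by norm_num)])
  have hp : IsPGroup 2 (zpowers y) :=
    IsPGroup.of_card (n := 1) (by
      rw [Nat.card_zpowers, orderOf_eq_prime (by rw [pow_two, h2]) h1, pow_one])
  obtain ⟨R, hR⟩ := hp.exists_le_sylow
  obtain ⟨g, hg⟩ := MulAction.exists_smul_eq St R P
  have hmem : g * y * g⁻¹ ∈ sylH := by
    have hm : g * y * g⁻¹ ∈ (g • R : Sylow 2 St) :=
      Subgroup.smul_mem_pointwise_smul y (MulAut.conj g) _ (hR (mem_zpowers y))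
    rw [hg] at hm
    exact hm
  rcases classify_sylH hmem (by rw [show g * y * g⁻¹ * (g * y * g⁻¹) = g * (y * y) * g⁻¹ by group, h2,
      mul_one, mul_inv_cancel]) (fun e => h1 (by
      rw [show y = g⁻¹ * (g * y * g⁻¹) * g by group, e, mul_one, inv_mul_cancel])) with hr | ⟨k, hk, a, ha⟩
  · refine Or.inl ?_
    have := root_conj hr g⁻¹
    rwa [show g⁻¹ * (g * y * g⁻¹) * g⁻¹⁻¹ = y by group] at this
  · exact Or.inr ⟨k, hk, g⁻¹ * a, by rw [show y = g⁻¹ * (g * y * g⁻¹) * g by group, ha]; group⟩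

/-- The representatives are not conjugate to roots in any larger group with the properties used. -/
theorem witness {k : ℕ} (hk : k < 4) : ∃ y : St, Commute y (classRep k) ∧
    ((y ^ 5 = 1 ∧ y ≠ 1) ∨ (y ^ 4 = 1 ∧ IsRootS (y * y))) := by
  have h := List.all_eq_true.1 wit_ok k (List.mem_range.2 hk)
  simp only [witCheck, Bool.and_eq_true, Bool.or_eq_true, beq_iff_eq, bne_iff_ne] at h
  obtain ⟨⟨⟨hw, hq⟩, hc⟩, hy⟩ := h
  refine ⟨wvS (classWit.getD k []), ?_, ?_⟩
  · rw [← comm8_iff, comm8, beq_iff_eq, classRep, evS_wvS hw, evS_wvS hq, hc]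
  · rw [← evS_wvS hw, ← evS_mul] at hy
    simp only [← evS_mul, ← evS_one] at hy
    rcases hy with ⟨h5, hne⟩ | ⟨hr, h4⟩
    · refine Or.inl ⟨?_, fun e => hne (by rw [e])⟩
      rw [← evS_inj h5]; simp only [pow_succ, pow_zero, one_mul, mul_assoc]
    · refine Or.inr ⟨?_, root_of_inRoots hr⟩
      rw [← evS_inj h4]; simp only [pow_succ, pow_zero, one_mul, mul_assoc]

theorem classRep_facts : classRep 0 * classRep 0 = 1 ∧ ¬ IsRootS (classRep 0) := by
  have h : (mul8 (evW (classReps.getD 0 [])) (evW (classReps.getD 0 [])) == one8) = true ∧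
      inRoots (evW (classReps.getD 0 [])) = false ∧ lettersOK (classReps.getD 0 []) = true := by
    decide +kernel
  refine ⟨evS_inj ?_, fun hr => ?_⟩
  · rw [evS_mul, classRep, evS_wvS h.2.2, evS_one]
    exact beq_iff_eq.1 h.1
  · have e := inRoots_of_root hr
    rw [classRep, evS_wvS h.2.2, h.2.1] at e
    simp at e

/-- The elements of a node. -/
noncomputable def nodeSet (n : ℕ) : List St := (nodeWords n).map wvS

/-- The roots commuting with a set. -/
def CentRoot (A : List St) (s : St) : Prop := IsRootS s ∧ ∀ a ∈ A, Commute s a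

/-- The invariant. -/
noncomputable def invS (A : List St) (r : St) : ℕ :=
  Nat.card {s : St // CentRoot A s ∧ ∃ a ∈ A, IsRootS (r * s * a)}

theorem invS_conj {A : List St} {c : St} (hc : ∀ a ∈ A, Commute c a) (r : St) :
    invS A (c * r * c⁻¹) = invS A r := by
  have key : ∀ d : St, (∀ a ∈ A, Commute d a) → ∀ r s : St,
      (CentRoot A s ∧ ∃ a ∈ A, IsRootS (r * s * a)) →
      CentRoot A (d * s * d⁻¹) ∧ ∃ a ∈ A, IsRootS (d * r * d⁻¹ * (d * s * d⁻¹) * a) := by
    rintro d hd r s ⟨⟨hs, hsc⟩, a, ha, hr⟩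
    refine ⟨⟨root_conj hs d, fun b hb => ?_⟩, a, ha, ?_⟩
    · exact (((hd b hb).mul_left (hsc b hb)).mul_left (hd b hb).inv_left)
    · have := root_conj hr d
      rwa [show d * (r * s * a) * d⁻¹ = d * r * d⁻¹ * (d * s * d⁻¹) * (d * a * d⁻¹) by group,
        show d * a * d⁻¹ = a by rw [(hd a ha).eq, mul_inv_cancel_right]] at this
  refine (Nat.card_congr (Equiv.ofBijective (fun s => ⟨c * s.1 * c⁻¹, key c hc r s.1 s.2⟩)
    ⟨fun x y h => Subtype.ext (by simpa using congrArg Subtype.val h), fun s => ?_⟩)).symm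
  have := key c⁻¹ (fun a ha => (hc a ha).inv_left) _ s.1 s.2
  rw [show c⁻¹ * (c * r * c⁻¹) * c⁻¹⁻¹ = r by group] at this
  exact ⟨⟨_, this⟩, Subtype.ext (by simp only; group)⟩

theorem rootL_nodup : rootL.Nodup := by
  refine List.Nodup.of_map key8 ?_
  rw [rootL, List.map_map]
  exact nodup_of_incB roots_inc

theorem mem_rootL {x : List ℕ} : x ∈ rootL ↔ ∃ y, IsRootS y ∧ evS y = x := by
  constructor
  · intro h
    obtain ⟨v, hv, rfl⟩ := List.mem_map.1 h
    have hc := Tree8.of_allV roots_ok v hv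
    simp only [rootCheck, Bool.and_eq_true, beq_iff_eq] at hc
    obtain ⟨⟨⟨hg, hi⟩, he⟩, -⟩ := hc
    obtain ⟨hl, -⟩ := cjW_ok hg (show lettersOK [23] = true from rfl)
    exact ⟨wvS (cjW v.2 [23]), root_of_inRoots (by rw [evS_wvS hl, he]; exact hi),
      by rw [evS_wvS hl, he]⟩
  · rintro ⟨y, hy, rfl⟩
    obtain ⟨v, hv, e⟩ := find_root (inRoots_of_root hy)
    exact List.mem_map.2 ⟨v, hv, e⟩

theorem mem_centRoots {A : List St} {x : List ℕ} :
    x ∈ centRoots (A.map evS) ↔ ∃ y, CentRoot A y ∧ evS y = x := by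
  simp only [centRoots, List.mem_filter, mem_rootL, List.all_map, List.all_eq_true, Function.comp_apply]
  constructor
  · rintro ⟨⟨y, hy, rfl⟩, hc⟩
    exact ⟨y, ⟨hy, fun a ha => (comm8_iff y a).1 (hc a ha)⟩, rfl⟩
  · rintro ⟨y, ⟨hy, hc⟩, rfl⟩
    exact ⟨⟨y, hy, rfl⟩, fun a ha => (comm8_iff y a).2 (hc a ha)⟩

theorem rootInv_eq (A : List St) (r : St) :
    rootInv (A.map evS) (centRoots (A.map evS)) (evS r) = invS A r := by
  classical
  rw [rootInv, List.countP_eq_length_filter,
    ← List.toFinset_card_of_nodup (List.Nodup.filter _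
      (show (centRoots (A.map evS)).Nodup from rootL_nodup.filter _)), ← Nat.card_eq_finsetCard]
  have hiff : ∀ y : St, ((A.map evS).any fun a => inRoots (mul8 (mul8 (evS r) (evS y)) a)) = true ↔
      ∃ a ∈ A, IsRootS (r * y * a) := by
    intro y
    simp only [List.any_map, List.any_eq_true, Function.comp_apply, root_iff, evS_mul]
  refine (Nat.card_congr (Equiv.ofBijective (fun s => ⟨evS s.1, List.mem_toFinset.2
    (List.mem_filter.2 ⟨mem_centRoots.2 ⟨_, s.2.1, rfl⟩, (hiff _).2 s.2.2⟩)⟩) ⟨?_, ?_⟩)).symm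
  · exact fun a b h => Subtype.ext (evS_inj (congrArg Subtype.val h))
  · rintro ⟨x, hx⟩
    obtain ⟨hx1, hx2⟩ := List.mem_filter.1 (List.mem_toFinset.1 hx)
    obtain ⟨y, hy, rfl⟩ := mem_centRoots.1 hx1
    exact ⟨⟨y, hy, (hiff y).1 hx2⟩, rfl⟩

/-- What is checked at a root `r` of a node. -/
def Closed (n : ℕ) (A : List St) (r : St) : Prop :=
  CentRoot A r ∧ (∀ a ∈ A, IsRootS (r * a) → invS A (r * a) = invS A r) ∧
    ∀ s, CentRoot A s →
      (Commute r s → r * s ∈ A ∨ (∃ a ∈ A, IsRootS (a * (r * s))) ∨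
        ∃ m < n, ∃ g, ∀ b ∈ nodeSet m, g * b * g⁻¹ ∈ A ∨ ∃ a ∈ A, a * (r * s) = g * b * g⁻¹) ∧
      (¬ Commute r s → r * s * (r * s) ∉ A)

theorem contains_evS {A : List St} {y : St} : (A.map evS).contains (evS y) = true ↔ y ∈ A := by
  simp only [List.contains_iff_mem, List.mem_map]
  exact ⟨fun ⟨a, ha, e⟩ => evS_inj e ▸ ha, fun h => ⟨y, h, rfl⟩⟩

theorem nodeWords_letters {m : ℕ} (hm : m < 10) : ∀ w ∈ nodeWords m, lettersOK w = true := by
  have h := List.all_eq_true.1 nodes_ok m (List.mem_range.2 hm)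
  simp only [nodeCheck, Bool.and_eq_true] at h
  exact List.all_eq_true.1 h.1.1.1

theorem evS_nodeSet {m : ℕ} (hm : m < 10) : (nodeSet m).map evS = (nodeWords m).map evW := by
  rw [nodeSet, List.map_map]
  exact List.map_congr_left fun w hw => evS_wvS (nodeWords_letters hm w hw)

theorem branch_closed {n : ℕ} (hn : n < 10) {g : List ℕ} {cert : Tree8 (ℕ × List ℕ)}
    (hg : lettersOK g = true)
    (hin : (centRoots ((nodeWords n).map evW)).contains (evW (cjW g [23])) = true)
    (htr : transCheck ((nodeWords n).map evW) (centRoots ((nodeWords n).map evW))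
      (evW (cjW g [23])) = true)
    (hbr : branchCheck n ((nodeWords n).map evW) (centRoots ((nodeWords n).map evW))
      (evW (cjW g [23])) cert = true) :
    Closed n (nodeSet n) (wvS (cjW g [23])) := by
  have hl := (cjW_ok hg (show lettersOK [23] = true from rfl)).1
  rw [← evS_nodeSet hn, ← evS_wvS hl] at hin htr hbr
  set A := nodeSet n with hA
  set r := wvS (cjW g [23]) with hr
  refine ⟨?_, ?_, fun s hs => ?_⟩
  · obtain ⟨y, hy, e⟩ := mem_centRoots.1 (List.contains_iff_mem.1 hin)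
    exact evS_inj e ▸ hy
  · intro a ha hra
    simp only [transCheck, List.all_map, List.all_eq_true, Function.comp_apply, Bool.or_eq_true,
      Bool.not_eq_true', beq_iff_eq, ← evS_mul, rootInv_eq] at htr
    exact (htr a ha).resolve_left (by rw [inRoots_of_root hra]; simp)
  · have h := List.all_eq_true.1 hbr (evS s) (mem_centRoots.2 ⟨s, hs, rfl⟩)
    constructor
    · intro hc
      rw [(comm8_iff r s).2 hc, cond_true] at h
      simp only [Bool.or_eq_true, ← evS_mul, contains_evS, List.any_map, List.any_eq_true,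
        Function.comp_apply, ← root_iff] at h
      rcases h with (h | h) | h
      · exact Or.inl h
      · exact Or.inr (Or.inl h)
      · split at h
        · rename_i c _
          simp only [Bool.and_eq_true, Nat.blt_eq, List.all_eq_true, Bool.or_eq_true] at h
          refine Or.inr (Or.inr ⟨c.1, h.1.1, wvS c.2, fun b hb => ?_⟩)
          obtain ⟨w, hw, rfl⟩ := List.mem_map.1 hb
          have hwl := nodeWords_letters (m := c.1) (by omega) w hw
          obtain ⟨hcl, hce⟩ := cjW_ok h.1.2 hwl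
          have h' := h.2 w hw
          rw [← evS_wvS hcl, hce] at h'
          rcases h' with h' | h'
          · exact Or.inl (contains_evS.1 h')
          · simp only [List.any_eq_true, Function.comp_apply, beq_iff_eq, ← evS_mul] at h'
            obtain ⟨a, ha, e⟩ := h'
            exact Or.inr ⟨a, ha, evS_inj e⟩
        · simp at h
    · intro hc
      rw [eq_false_of_ne_true fun e => hc ((comm8_iff r s).1 e), cond_false] at h
      intro hmem
      simp only [← evS_mul, Bool.not_eq_true'] at h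
      rw [contains_evS.2 hmem] at h
      simp at h

/-- The checks of a node. -/
theorem node_facts {n : ℕ} (hn : n < 10) :
    (1 : St) ∈ nodeSet n ∧ (∀ a ∈ nodeSet n, ∀ b ∈ nodeSet n, a * b ∈ nodeSet n) ∧
      ∃ r₁ r₂, Closed n (nodeSet n) r₁ ∧ Closed n (nodeSet n) r₂ ∧
        invS (nodeSet n) r₁ ≠ invS (nodeSet n) r₂ := by
  have h := List.all_eq_true.1 nodes_ok n (List.mem_range.2 hn)
  simp only [nodeCheck, Bool.and_eq_true] at h
  obtain ⟨⟨⟨-, h1⟩, hmul⟩, hb⟩ := h
  refine ⟨?_, ?_, ?_⟩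
  · rw [← evS_nodeSet hn, ← evS_one] at h1
    exact contains_evS.1 h1
  · intro a ha b hb'
    rw [← evS_nodeSet hn] at hmul
    simp only [List.all_map, List.all_eq_true, Function.comp_apply, ← evS_mul] at hmul
    exact contains_evS.1 (hmul a ha b hb')
  · split at hb
    · rename_i g₁ c₁ g₂ c₂ _
      simp only [Bool.and_eq_true] at hb
      obtain ⟨⟨⟨⟨⟨⟨⟨⟨hg₁, hg₂⟩, hi₁⟩, hi₂⟩, ht₁⟩, ht₂⟩, hne⟩, hb₁⟩, hb₂⟩ := hb
      refine ⟨_, _, branch_closed hn hg₁ hi₁ ht₁ hb₁, branch_closed hn hg₂ hi₂ ht₂ hb₂, ?_⟩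
      rw [← rootInv_eq, ← rootInv_eq, evS_nodeSet hn,
        evS_wvS (cjW_ok hg₁ (show lettersOK [23] = true from rfl)).1,
        evS_wvS (cjW_ok hg₂ (show lettersOK [23] = true from rfl)).1]
      simpa using hne
    · simp at hb

theorem classNode_set {k : ℕ} (hk : k < 4) :
    classNode.getD k 0 < 10 ∧ nodeSet (classNode.getD k 0) = [1, classRep k] := by
  have h := List.all_eq_true.1 classNode_ok k (List.mem_range.2 hk)
  simp only [Bool.and_eq_true, Nat.blt_eq, beq_iff_eq] at h
  refine ⟨h.1, List.map_injective_iff.2 (fun a b e => evS_inj e) ?_⟩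
  have hq : lettersOK (classReps.getD k []) = true := by
    have := List.all_eq_true.1 wit_ok k (List.mem_range.2 hk)
    simp only [witCheck, Bool.and_eq_true] at this
    exact this.1.1.2
  rw [evS_nodeSet h.1, h.2, List.map_cons, List.map_cons, List.map_nil, evS_one, classRep, evS_wvS hq]

end Cfsg.Agent.OmegaEightInv
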