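import Cfsg.Agent.Lib.OmegaEightInv.Defs
import Cfsg.Agent.Lib.OmegaEightInv.TopData
import Cfsg.Agent.Lib.OmegaTwoHom.Steinberg

/-!
The root relations give all relations of type `D₄`: the root group is `Ω⁺₈(2)`.
-/

set_option autoImplicit false
set_option linter.unusedSectionVars false

namespace Cfsg.Agent.OmegaEightInv

open Cfsg.Agent.OmegaTwoHom (pairOK sumRoot Rels)

/-- The reflection of the `i`th fundamental root applied to a root. -/
def rfl4 (i : Fin 4) (r : ℕ) : ℕ := (reflTable.getD i.val []).getD r 0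

/-- The action of a word on the roots. -/
def actW : List (Fin 4) → ℕ → ℕ
  | [], r => r
  | i :: w, r => rfl4 i (actW w r)

/-- The word of a root. -/
def wordOf (r : ℕ) : List (Fin 4) := rootWord.getD r []

/-- One rewriting move at a position. -/
def moveAt : List (Fin 4) → ℕ → ℕ → Option (List (Fin 4))
  | a :: w, p + 1, k => (moveAt w p k).map (a :: ·)
  | a :: b :: w, 0, 0 => if a = b then some w else none
  | a :: b :: w, 0, 1 => if a ≠ 1 ∧ b ≠ 1 then some (b :: a :: w) else none
  | a :: b :: c :: w, 0, 2 =>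
    if c = a ∧ a ≠ b ∧ (a = 1 ∨ b = 1) then some (b :: a :: b :: w) else none
  | _, _, _ => none

/-- A sequence of moves. -/
def runMoves : List (ℕ × ℕ) → List (Fin 4) → Option (List (Fin 4))
  | [], w => some w
  | m :: ms, w => (moveAt w m.1 m.2).bind (runMoves ms)

/-- The certificate of the root `r` and the node `i` is valid. -/
def certOK (i : Fin 4) (r : ℕ) : Bool :=
  match runMoves (rewriteCert.getD (4 * r + i.val) []) (i :: wordOf r) with
  | some w =>
    let v := wordOf (rfl4 i r)
    (w.take v.length == v) && (w.drop v.length).all fun j => j != 1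
  | none => false

theorem cert_ok : ∀ r < 24, ∀ i : Fin 4, certOK i r = true := by decide +kernel

theorem rfl4_lt : ∀ r < 24, ∀ i : Fin 4, rfl4 i r < 24 := by decide +kernel

theorem sum_equiv : ∀ r < 24, ∀ s < 24, pairOK r s = true → ∀ i : Fin 4,
    sumRoot (rfl4 i r) (rfl4 i s) = (sumRoot r s).map (rfl4 i) := by decide +kernel

theorem pairOK_equiv : ∀ r < 24, ∀ s < 24, pairOK r s = true → ∀ i : Fin 4,
    pairOK (rfl4 i r) (rfl4 i s) = true := by decide +kernel

/-- Representatives of the orbits of pairs containing the highest root. -/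
def anchors : List ℕ := [22, 18, 13, 12, actW [1, 3, 2, 1] 14]

/-- The words in the end nodes. -/
def endWords : List (List (Fin 4)) := [[], [0], [2], [3], [0, 2], [0, 3], [2, 3], [0, 2, 3]]

theorem orbit_ok : ∀ r < 24, ∀ s < 24, pairOK r s = true →
    (endWords.any fun u => anchors.any fun b =>
      (actW (wordOf r ++ u) 23 == r) && (actW (wordOf r ++ u) b == s)) = true := by
  decide +kernel

variable {G : Type*} [Group G] {n : Fin 4 → G} {t : G}

/-- The value of a word. -/
def wval (n : Fin 4 → G) (w : List (Fin 4)) : G := (w.map n).prod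

theorem wval_cons (n : Fin 4 → G) (i : Fin 4) (w : List (Fin 4)) :
    wval n (i :: w) = n i * wval n w := by simp [wval]

theorem wval_append (n : Fin 4 → G) (v w : List (Fin 4)) :
    wval n (v ++ w) = wval n v * wval n w := by simp [wval]

/-- The root element of a root. -/
def rootElt (n : Fin 4 → G) (t : G) (r : ℕ) : G :=
  wval n (wordOf r) * t * (wval n (wordOf r))⁻¹

namespace RootRels

variable (h : RootRels n t)
include h

theorem n_inv (i : Fin 4) : (n i)⁻¹ = n i := inv_eq_of_mul_eq_one_right (h.n_sq i)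

theorem braid_eq {a b : Fin 4} (hne : a ≠ b) (h1 : a = 1 ∨ b = 1) :
    n a * n b * n a = n b * n a * n b := by
  have key : ∀ i : Fin 4, i ≠ 1 → n i * n 1 * n i = n 1 * n i * n 1 := by
    intro i hi
    have e := eq_inv_of_mul_eq_one_left (a := n i * n 1 * n i) (b := n 1 * n i * n 1)
      (by rw [← h.braid i hi]; simp only [pow_succ, pow_zero, one_mul, mul_assoc])
    rw [e]
    simp only [mul_inv_rev, h.n_inv, mul_assoc]
  rcases h1 with rfl | rfl
  · exact (key b hne.symm).symm
  · exact key a hne

theorem moveAt_sound : ∀ (w : List (Fin 4)) (p k : ℕ) {v : List (Fin 4)},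
    moveAt w p k = some v → wval n v = wval n w
  | a :: w, p + 1, k, v, e => by
    simp only [moveAt, Option.map_eq_some_iff] at e
    obtain ⟨u, hu, rfl⟩ := e
    rw [wval_cons, wval_cons, moveAt_sound w p k hu]
  | a :: b :: w, 0, 0, v, e => by
    simp only [moveAt] at e
    split_ifs at e with hab
    cases e
    rw [hab, wval_cons, wval_cons, ← mul_assoc, h.n_sq, one_mul]
  | a :: b :: w, 0, 1, v, e => by
    simp only [moveAt] at e
    split_ifs at e with hab
    cases e
    simp only [wval_cons, ← mul_assoc, h.comm b a hab.2 hab.1]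
  | a :: b :: c :: w, 0, 2, v, e => by
    simp only [moveAt] at e
    split_ifs at e with hab
    cases e
    obtain ⟨rfl, hne, h1⟩ := hab
    simp only [wval_cons, ← mul_assoc, h.braid_eq hne h1]
  | [], p, k, v, e => by simp [moveAt] at e
  | [a], 0, k, v, e => by simp [moveAt] at e
  | [a, b], 0, 2, v, e => by simp [moveAt] at e
  | a :: b :: w, 0, k + 3, v, e => by simp [moveAt] at e

theorem runMoves_sound : ∀ (ms : List (ℕ × ℕ)) {w v : List (Fin 4)},
    runMoves ms w = some v → wval n v = wval n w
  | [], w, v, e => by simp only [runMoves, Option.some.injEq] at e; rw [e]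
  | m :: ms, w, v, e => by
    simp only [runMoves, Option.bind_eq_some_iff] at e
    obtain ⟨u, hu, hv⟩ := e
    rw [runMoves_sound ms hv, h.moveAt_sound w m.1 m.2 hu]

theorem tail_fix : ∀ {w : List (Fin 4)}, (∀ j ∈ w, j ≠ 1) → wval n w * t = t * wval n w
  | [], _ => by simp [wval]
  | j :: w, hw => by
    rw [wval_cons, mul_assoc, tail_fix fun i hi => hw i (List.mem_cons_of_mem _ hi), ← mul_assoc,
      h.fix j (hw j List.mem_cons_self), mul_assoc]

/-- The reflections permute the root elements. -/
theorem conj_rootElt {r : ℕ} (hr : r < 24) (i : Fin 4) :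
    n i * rootElt n t r * (n i)⁻¹ = rootElt n t (rfl4 i r) := by
  have hc := cert_ok r hr i
  rw [certOK] at hc
  split at hc
  case h_2 => exact absurd hc (by simp)
  rename_i w hw
  simp only [Bool.and_eq_true, beq_iff_eq, List.all_eq_true, bne_iff_ne] at hc
  have hv := h.runMoves_sound _ hw
  rw [← List.take_append_drop (wordOf (rfl4 i r)).length w, wval_append, hc.1, wval_cons] at hv
  have hf := h.tail_fix hc.2
  simp only [rootElt]
  rw [show n i * (wval n (wordOf r) * t * (wval n (wordOf r))⁻¹) * (n i)⁻¹ =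
    n i * wval n (wordOf r) * t * (n i * wval n (wordOf r))⁻¹ by group, ← hv]
  rw [mul_assoc (wval n (wordOf (rfl4 i r))) _ t, hf]
  group

theorem rootElt_sq (r : ℕ) : rootElt n t r * rootElt n t r = 1 := by
  rw [rootElt, show ∀ g : G, g * t * g⁻¹ * (g * t * g⁻¹) = g * (t * t) * g⁻¹ from fun g => by group,
    h.t_sq, mul_one, mul_inv_cancel]

theorem actW_lt : ∀ (w : List (Fin 4)) {r : ℕ}, r < 24 → actW w r < 24
  | [], _, hr => hr
  | i :: w, _, hr => rfl4_lt _ (actW_lt w hr) i

theorem conj_word : ∀ (w : List (Fin 4)) {r : ℕ}, r < 24 →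
    wval n w * rootElt n t r * (wval n w)⁻¹ = rootElt n t (actW w r)
  | [], r, _ => by simp [wval, actW]
  | i :: w, r, hr => by
    rw [wval_cons, actW, ← h.conj_rootElt (h.actW_lt w hr) i, ← conj_word w hr]
    group

/-- The commutator relation of a pair of roots. -/
def PairRel (n : Fin 4 → G) (t : G) (r s : ℕ) : Prop :=
  rootElt n t s * rootElt n t r * rootElt n t s * rootElt n t r =
    ((sumRoot r s).toList.map (rootElt n t)).prod

theorem pair_move {r s : ℕ} (hr : r < 24) (hs : s < 24) (hok : pairOK r s = true)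
    (hP : PairRel n t r s) (i : Fin 4) : PairRel n t (rfl4 i r) (rfl4 i s) := by
  unfold PairRel at *
  rw [sum_equiv r hr s hs hok i, ← h.conj_rootElt hr i, ← h.conj_rootElt hs i]
  have e : n i * (rootElt n t s * rootElt n t r * rootElt n t s * rootElt n t r) * (n i)⁻¹ =
      n i * ((sumRoot r s).toList.map (rootElt n t)).prod * (n i)⁻¹ := by rw [hP]
  cases hsum : sumRoot r s with
  | none =>
    simp only [hsum, Option.toList_none, List.map_nil, List.prod_nil, mul_one, mul_inv_cancel] at e
    simp only [Option.map_none, Option.toList_none, List.map_nil, List.prod_nil]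
    rw [← e]; group
  | some k =>
    simp only [hsum, Option.toList_some, List.map_cons, List.map_nil, List.prod_cons, List.prod_nil,
      mul_one] at e
    simp only [Option.map_some, Option.toList_some, List.map_cons, List.map_nil, List.prod_cons,
      List.prod_nil, mul_one]
    rw [← h.conj_rootElt (OmegaTwoHom.sumRoot_lt r hr s hs k (by simp [hsum])) i, ← e]
    group

theorem pair_word : ∀ (w : List (Fin 4)) {r s : ℕ}, r < 24 → s < 24 → pairOK r s = true →
    PairRel n t r s → PairRel n t (actW w r) (actW w s) ∧ pairOK (actW w r) (actW w s) = true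
  | [], r, s, _, _, hok, hP => ⟨hP, hok⟩
  | i :: w, r, s, hr, hs, hok, hP => by
    obtain ⟨h1, h2⟩ := pair_word w hr hs hok hP
    exact ⟨h.pair_move (h.actW_lt w hr) (h.actW_lt w hs) h2 h1 i,
      pairOK_equiv _ (h.actW_lt w hr) _ (h.actW_lt w hs) h2 i⟩

theorem rootElt_top : rootElt n t 23 = t := by
  simp [rootElt, show wordOf 23 = [] from rfl, wval]

theorem rootElt_of_word (w : List (Fin 4)) : wval n w * t * (wval n w)⁻¹ =
    rootElt n t (actW w 23) := by
  have := h.conj_word w (r := 23) (by norm_num)
  rwa [h.rootElt_top] at this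

theorem pair_commute {s : ℕ} (hs : Commute t (rootElt n t s))
    (hsum : sumRoot 23 s = none) : PairRel n t 23 s := by
  unfold PairRel
  rw [hsum, h.rootElt_top]
  simp only [Option.toList_none, List.map_nil, List.prod_nil]
  rw [mul_assoc (rootElt n t s) t, hs.eq, show ∀ a : G, a * (a * t) * t = a * a * (t * t) from
    fun a => by group, h.rootElt_sq, h.t_sq, one_mul]

theorem anchor_rel : ∀ b ∈ anchors, PairRel n t 23 b := by
  have e22 : rootElt n t 22 = n 1 * t * n 1 := by
    rw [show (22 : ℕ) = actW [1] 23 by decide +kernel, ← h.rootElt_of_word]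
    simp [wval, h.n_inv]
  have eE : ∀ j k : Fin 4, rootElt n t (actW [1, j, k, 1] 23) = endRoot n t j k := by
    intro j k
    rw [← h.rootElt_of_word, endRoot]
    simp [wval, mul_assoc]
  have e18 : rootElt n t 18 = endRoot n t 2 3 := by
    rw [← eE]; exact congrArg _ (by decide +kernel)
  have e13 : rootElt n t 13 = endRoot n t 0 3 := by
    rw [← eE]; exact congrArg _ (by decide +kernel)
  have e12 : rootElt n t 12 = endRoot n t 0 2 := by
    rw [← eE]; exact congrArg _ (by decide +kernel)
  have e14 : rootElt n t 14 = midRoot n t := by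
    rw [show (14 : ℕ) = actW [0, 2, 3, 1] 23 by decide +kernel, ← h.rootElt_of_word, midRoot]
    simp [wval, mul_assoc]
  have em : rootElt n t 19 = (n 2 * n 3 * n 1) * t * (n 2 * n 3 * n 1)⁻¹ := by
    rw [show (19 : ℕ) = actW [2, 3, 1] 23 by decide +kernel, ← h.rootElt_of_word]
    simp [wval, mul_assoc]
  intro b hb
  simp only [anchors, List.mem_cons, List.not_mem_nil, or_false] at hb
  rcases hb with rfl | rfl | rfl | rfl | rfl
  · exact h.pair_commute (e22 ▸ h.pos) (by decide +kernel)
  · exact h.pair_commute (e18 ▸ h.orth.1) (by decide +kernel)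
  · exact h.pair_commute (e13 ▸ h.orth.2.1) (by decide +kernel)
  · exact h.pair_commute (e12 ▸ h.orth.2.2) (by decide +kernel)
  · have hP : PairRel n t 18 14 := by
      unfold PairRel
      rw [show sumRoot 18 14 = some 19 by decide +kernel]
      simp only [Option.toList_some, List.map_cons, List.map_nil, List.prod_cons, List.prod_nil,
        mul_one]
      have e := h.neg
      rw [← e18, ← e14, ← em] at e
      refine inv_injective ?_
      have hi : ∀ r, (rootElt n t r)⁻¹ = rootElt n t r := fun r =>
        inv_eq_of_mul_eq_one_right (h.rootElt_sq r)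
      simp only [mul_inv_rev, hi, ← mul_assoc]
      exact e
    have := h.pair_word [1, 3, 2, 1] (r := 18) (s := 14) (by norm_num) (by norm_num) (by decide +kernel) hP
    rw [show actW [1, 3, 2, 1] 18 = 23 by decide +kernel] at this
    exact this.1

/-- The root elements satisfy the relations of type `D₄`. -/
theorem rels_rootElt : Rels (rootElt n t) where
  sq r _ := h.rootElt_sq r
  comm r hr s hs hok := by
    have hu := orbit_ok r hr s hs hok
    simp only [List.any_eq_true, Bool.and_eq_true, beq_iff_eq] at hu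
    obtain ⟨u, -, b, hb, e1, e2⟩ := hu
    have hb' : b < 24 ∧ pairOK 23 b = true := by
      have hall : ∀ b ∈ anchors, b < 24 ∧ pairOK 23 b = true := by decide +kernel
      exact hall b hb
    have := (h.pair_word (wordOf r ++ u) (r := 23) (by norm_num) hb'.1 hb'.2 (h.anchor_rel b hb)).1
    rw [e1, e2] at this
    exact this

theorem conj_mem {w : G} (hw : w ∈ Subgroup.closure (Set.range n)) :
    ∀ r < 24, ∃ q < 24, w * rootElt n t r * w⁻¹ = rootElt n t q := by
  induction hw using Subgroup.closure_induction'' with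
  | mem x hx =>
    obtain ⟨i, rfl⟩ := hx
    exact fun r hr => ⟨_, rfl4_lt r hr i, h.conj_rootElt hr i⟩
  | inv_mem x hx =>
    obtain ⟨i, rfl⟩ := hx
    rw [h.n_inv]
    exact fun r hr => ⟨_, rfl4_lt r hr i, h.conj_rootElt hr i⟩
  | one => exact fun r hr => ⟨r, hr, by simp⟩
  | mul x y _ _ hx hy =>
    intro r hr
    obtain ⟨q, hq, e⟩ := hy r hr
    obtain ⟨p, hp, e'⟩ := hx q hq
    refine ⟨p, hp, ?_⟩
    rw [← e', ← e]
    group

theorem rootGroup_eq :
    rootGroup n t = Subgroup.closure {g | ∃ r < 24, g = rootElt n t r} := by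
  unfold rootGroup
  congr 1
  ext y
  constructor
  · rintro ⟨w, hw, rfl⟩
    obtain ⟨q, hq, e⟩ := h.conj_mem hw 23 (by norm_num)
    rw [h.rootElt_top] at e
    exact ⟨q, hq, e⟩
  · rintro ⟨r, -, rfl⟩
    refine ⟨wval n (wordOf r), Subgroup.list_prod_mem _ fun g hg => ?_, rfl⟩
    obtain ⟨i, -, rfl⟩ := List.mem_map.1 hg
    exact Subgroup.subset_closure ⟨i, rfl⟩

/-- The root group is `Ω⁺₈(2)`. -/
theorem nonempty_rootGroup_iso :
    Nonempty (Cfsg.Omega (ZMod 2) (Cfsg.quadFormPlus 4 (ZMod 2)) ≃* rootGroup n t) := by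
  obtain ⟨e⟩ := OmegaTwoHom.closure_iso h.rels_rootElt ⟨23, by norm_num, by rw [h.rootElt_top]; exact h.t_ne⟩
  exact ⟨e.trans (MulEquiv.subgroupCongr h.rootGroup_eq.symm)⟩

end RootRels

end Cfsg.Agent.OmegaEightInv
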