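import Cfsg.Agent.Lib.OmegaEightInv.TopCheckParts

/-!
# The presented group of type `D₄` over two elements as a group of matrices
-/

set_option autoImplicit false
set_option linter.unusedSectionVars false

namespace Cfsg.Agent.OmegaEightInv

open Cfsg.Lie Cfsg.Agent.OmegaTwoHom

/-- The presented group. -/
abbrev St : Type := chevD4.SteinbergGroup (ZMod 2)

/-- Its root generators. -/
noncomputable def stR (r : ℕ) : St := chevD4.stGen (ZMod 2) r 1

/-- The value of a word. -/
noncomputable def wvS (w : List ℕ) : St := (w.map stR).prod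

theorem wvS_cons (r : ℕ) (w : List ℕ) : wvS (r :: w) = stR r * wvS w := by simp [wvS]

theorem wvS_append (v w : List ℕ) : wvS (v ++ w) = wvS v * wvS w := by simp [wvS]

theorem wide_one8 : Wide8 one8 := ⟨rfl, by decide⟩

theorem wide_gen8 (r : ℕ) : Wide8 (gen8 r) := by
  by_cases h : r < 24
  · have : ∀ r < 24, (gen8 r).length = 8 ∧ ∀ v ∈ gen8 r, v < 2 ^ 8 := by decide +kernel
    exact this r h
  · have : gen8 r = one8 := by
      have hl : genBits.length ≤ r := by
        have : genBits.length = 24 := rfl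
        omega
      rw [gen8, List.getD_eq_default _ _ hl]
    rw [this]; exact wide_one8

theorem wide_evW : ∀ w : List ℕ, Wide8 (evW w)
  | [] => wide_one8
  | r :: w => wide_mul8 (wide_gen8 r) (wide_evW w)

theorem toM8_evW : ∀ w : List ℕ, toM8 (evW w) = (w.map fun r => toM8 (gen8 r)).prod
  | [] => by simp [evW, toM8_one8]
  | r :: w => by
    rw [evW, toM8_mul8 (wide_evW w).1, toM8_evW w, List.map_cons, List.prod_cons]

theorem gen8_sq (r : ℕ) : toM8 (gen8 r) * toM8 (gen8 r) = 1 := by
  rw [← toM8_mul8 (wide_gen8 r).1]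
  by_cases h : r < 24
  · have e := List.all_eq_true.1 genBits_ok r (List.mem_range.2 h)
    simp only [Bool.and_eq_true, beq_iff_eq] at e
    rw [e.1, toM8_one8]
  · have : gen8 r = one8 := by
      have hl : genBits.length ≤ r := by
        have : genBits.length = 24 := rfl
        omega
      rw [gen8, List.getD_eq_default _ _ hl]
    rw [this, show mul8 one8 one8 = one8 by decide, toM8_one8]

/-- A generator as an invertible matrix. -/
def genU (r : ℕ) : M8ˣ := ⟨toM8 (gen8 r), toM8 (gen8 r), gen8_sq r, gen8_sq r⟩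

theorem genU_prod : ∀ w : List ℕ, ((w.map genU).prod : M8ˣ) = (toM8 (evW w) : M8)
  | [] => by simp [evW, toM8_one8]
  | r :: w => by
    rw [evW, toM8_mul8 (wide_evW w).1, List.map_cons, List.prod_cons, Units.val_mul, genU_prod w]
    rfl

theorem genU_rels : Rels genU where
  sq r _ := Units.ext (gen8_sq r)
  comm r hr s hs hp := by
    have e := List.all_eq_true.1 genBits_ok r (List.mem_range.2 hr)
    simp only [Bool.and_eq_true] at e
    have e2 := List.all_eq_true.1 e.2 s (List.mem_range.2 hs)
    simp only [hp, Bool.not_true, Bool.false_or, beq_iff_eq] at e2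
    refine Units.ext ?_
    rw [genU_prod, ← e2, ← genU_prod]
    simp [mul_assoc]

theorem simple_St : IsSimpleGroup St := exists_omega_iso.1

theorem matHom_inj : Function.Injective (stMap genU_rels) := by
  rw [← MonoidHom.ker_eq_bot_iff]
  have := simple_St
  refine ((MonoidHom.normal_ker _).eq_bot_or_eq_top).resolve_right fun ht => ?_
  have h : genU 23 = 1 := by
    rw [← stMap_gen genU_rels (r := 23) (by norm_num)]
    exact MonoidHom.mem_ker.1 (ht ▸ Subgroup.mem_top _)
  have hne := gen23_ne
  simp only [bne_iff_ne] at hne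
  refine hne (toM8_inj (wide_gen8 23) wide_one8 ?_)
  rw [toM8_one8]
  exact congrArg Units.val h

theorem matHom_wvS {w : List ℕ} (hw : lettersOK w = true) :
    (stMap genU_rels (wvS w) : M8) = toM8 (evW w) := by
  rw [← genU_prod, wvS, map_list_prod, List.map_map]
  refine congrArg _ (congrArg _ (List.map_congr_left fun r hr => ?_))
  simp only [lettersOK, List.all_eq_true, Nat.blt_eq] at hw
  exact stMap_gen genU_rels (hw r hr)

theorem evW_inj {v w : List ℕ} (hv : lettersOK v = true) (hw : lettersOK w = true)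
    (h : evW v = evW w) : wvS v = wvS w :=
  matHom_inj (Units.ext (by rw [matHom_wvS hv, matHom_wvS hw, h]))

theorem stR_sq {r : ℕ} (hr : r < 24) : stR r * stR r = 1 :=
  matHom_inj (by rw [map_mul, stR, stMap_gen genU_rels hr, map_one, genU_rels.sq r hr])

theorem wvS_reverse : ∀ {w : List ℕ}, lettersOK w = true → wvS w.reverse = (wvS w)⁻¹
  | [], _ => by simp [wvS]
  | r :: w, h => by
    simp only [lettersOK, List.all_cons, Bool.and_eq_true, Nat.blt_eq] at h
    have ih := wvS_reverse (w := w) (by simpa [lettersOK] using h.2)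
    rw [List.reverse_cons, wvS_append, ih, wvS_cons r [], wvS_cons r w, mul_inv_rev,
      inv_eq_of_mul_eq_one_right (stR_sq h.1)]
    simp [wvS]

theorem exists_word (y : St) : ∃ w, lettersOK w = true ∧ wvS w = y := by
  have hy : y ∈ Subgroup.closure (Set.range (PresentedGroup.of : _ → St)) := by
    rw [PresentedGroup.closure_range_of]; trivial
  induction hy using Subgroup.closure_induction with
  | mem x hx =>
    obtain ⟨⟨r, a⟩, rfl⟩ := hx
    rcases zmod_two a with rfl | rfl
    · refine ⟨[], rfl, matHom_inj ?_⟩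
      rw [show wvS [] = 1 by simp [wvS], map_one, stMap, PresentedGroup.toGroup.of]
      simp [genI]
    · refine ⟨[r.val], by simp only [lettersOK, List.all_cons, List.all_nil, Bool.and_true, Nat.blt_eq]; exact r.isLt, ?_⟩
      have hr : r.val < chevD4.nroots := r.isLt
      simp only [wvS, List.map_cons, List.map_nil, List.prod_cons, List.prod_nil, mul_one, stR,
        ChevalleyDatum.stGen, ChevalleyDatum.stX, dif_pos hr]
      rfl
  | one => exact ⟨[], rfl, by simp [wvS]⟩
  | mul a b _ _ ha hb =>
    obtain ⟨v, hv, rfl⟩ := ha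
    obtain ⟨w, hw, rfl⟩ := hb
    refine ⟨v ++ w, ?_, wvS_append v w⟩
    simp only [lettersOK, List.all_append, Bool.and_eq_true] at hv hw ⊢
    exact ⟨hv, hw⟩
  | inv a _ ha =>
    obtain ⟨v, hv, rfl⟩ := ha
    refine ⟨v.reverse, ?_, wvS_reverse hv⟩
    simp only [lettersOK, List.all_reverse] at hv ⊢
    exact hv

/-- The matrix of an element. -/
noncomputable def evS (y : St) : List ℕ := evW (exists_word y).choose

theorem toM8_evS (y : St) : toM8 (evS y) = (stMap genU_rels y : M8) := by
  obtain ⟨hw, e⟩ := (exists_word y).choose_spec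
  rw [evS, ← matHom_wvS hw, e]

theorem wide_evS (y : St) : Wide8 (evS y) := wide_evW _

theorem evS_wvS {w : List ℕ} (hw : lettersOK w = true) : evS (wvS w) = evW w :=
  toM8_inj (wide_evS _) (wide_evW _) (by rw [toM8_evS, matHom_wvS hw])

theorem evS_inj {y z : St} (h : evS y = evS z) : y = z :=
  matHom_inj (Units.ext (by rw [← toM8_evS, ← toM8_evS, h]))

theorem evS_mul (y z : St) : evS (y * z) = mul8 (evS y) (evS z) :=
  toM8_inj (wide_evS _) (wide_mul8 (wide_evS _) (wide_evS _))
    (by rw [toM8_mul8 (wide_evS z).1, toM8_evS, toM8_evS, toM8_evS, map_mul, Units.val_mul])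

theorem evS_one : evS 1 = one8 :=
  toM8_inj (wide_evS _) wide_one8 (by rw [toM8_evS, map_one, toM8_one8]; rfl)

theorem evS_stR {r : ℕ} (hr : r < 24) : evS (stR r) = gen8 r :=
  toM8_inj (wide_evS _) (wide_gen8 r) (by rw [toM8_evS, stR, stMap_gen genU_rels hr]; rfl)

theorem comm8_iff (y z : St) : comm8 (evS y) (evS z) = true ↔ Commute y z := by
  rw [comm8, beq_iff_eq, ← evS_mul, ← evS_mul]
  exact ⟨fun h => evS_inj h, fun h => congrArg evS h.eq⟩

theorem cjW_ok {g w : List ℕ} (hg : lettersOK g = true) (hw : lettersOK w = true) :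
    lettersOK (cjW g w) = true ∧ wvS (cjW g w) = wvS g * wvS w * (wvS g)⁻¹ := by
  refine ⟨?_, by rw [cjW, wvS_append, wvS_append, wvS_reverse hg]⟩
  simp only [lettersOK, cjW, List.all_append, List.all_reverse, Bool.and_eq_true] at hg hw ⊢
  exact ⟨⟨hg, hw⟩, hg⟩

/-- The root elements of the presented group. -/
def IsRootS (y : St) : Prop := ∃ g, y = g * stR 23 * g⁻¹

theorem find_root {x : List ℕ} (h : inRoots x = true) :
    ∃ v ∈ rootTree.vals, v.1 = x := by
  unfold inRoots at h
  split at h
  · rename_i v hv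
    exact ⟨v, Tree8.mem_of_find hv, by simpa using h⟩
  · simp at h

theorem root_of_inRoots {y : St} (h : inRoots (evS y) = true) : IsRootS y := by
  obtain ⟨v, hv, e⟩ := find_root h
  have hc := Tree8.of_allV roots_ok v hv
  simp only [rootCheck, Bool.and_eq_true, beq_iff_eq] at hc
  obtain ⟨⟨⟨hg, -⟩, he⟩, -⟩ := hc
  obtain ⟨hl, hw⟩ := cjW_ok hg (show lettersOK [23] = true from rfl)
  refine ⟨wvS v.2, evS_inj ?_⟩
  rw [← e, ← he, show stR 23 = wvS [23] by simp [wvS], ← hw, evS_wvS hl]

theorem inRoots_of_root {y : St} (h : IsRootS y) : inRoots (evS y) = true := by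
  obtain ⟨g, rfl⟩ := h
  obtain ⟨w, hw, rfl⟩ := exists_word g
  induction w with
  | nil => simp only [wvS, List.map_nil, List.prod_nil, one_mul, inv_one, mul_one]
           rw [evS_stR (by norm_num)]
           exact root_mem
  | cons r w ih =>
    simp only [lettersOK, List.all_cons, Bool.and_eq_true, Nat.blt_eq] at hw
    obtain ⟨v, hv, e⟩ := find_root (ih (by simpa [lettersOK] using hw.2))
    have hc := Tree8.of_allV roots_ok v hv
    simp only [rootCheck, Bool.and_eq_true] at hc
    have hr := List.all_eq_true.1 hc.2 r (List.mem_range.2 hw.1)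
    rw [wvS_cons, mul_inv_rev, inv_eq_of_mul_eq_one_right (stR_sq hw.1),
      show stR r * wvS w * stR 23 * ((wvS w)⁻¹ * stR r) =
        stR r * (wvS w * stR 23 * (wvS w)⁻¹ * stR r) by group,
      evS_mul, evS_mul, evS_stR hw.1, ← e]
    exact hr

theorem root_iff (y : St) : IsRootS y ↔ inRoots (evS y) = true :=
  ⟨inRoots_of_root, root_of_inRoots⟩

theorem root_conj {y : St} (h : IsRootS y) (g : St) : IsRootS (g * y * g⁻¹) := by
  obtain ⟨a, rfl⟩ := h
  exact ⟨g * a, by group⟩

theorem root_sq {y : St} (h : IsRootS y) : y * y = 1 := by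
  obtain ⟨a, rfl⟩ := h
  rw [show a * stR 23 * a⁻¹ * (a * stR 23 * a⁻¹) = a * (stR 23 * stR 23) * a⁻¹ by group,
    stR_sq (by norm_num), mul_one, mul_inv_cancel]

end Cfsg.Agent.OmegaEightInv
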